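import Cfsg.Agent.Lib.NilBlock.Integral
import Cfsg.Agent.Lib.BlockArith.HeightBound

/-!
# The structure theorem for nilpotent blocks

`Setup.exists_equiv`: the members of a nilpotent block correspond to `Irr P`, and on regular
elements each is its degree on `P` times a fixed member of height zero.
`blockRank_eq_one_of_nilpotent`: one Brauer character.
`exists_equiv_of_nilpotent`: the correspondence at any defect group.
-/

set_option autoImplicit false

noncomputable section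

namespace CfsgLib.NilBlock

open Cfsg CfsgLib.Blocks CfsgLib.BlockArith CfsgLib.Char CfsgLib.BrauerPairs
open scoped ComplexConjugate Classical

universe u

variable {G : Type u} [Group G] [Fintype G] {M : Ideal AlgInt} [M.IsMaximal] {p : ℕ} [hp : Fact p.Prime]
  {B : Set (IrrCharacter G)} {P : Subgroup G} {e : Set (IrrCharacter (Cen P))}
  {β : (x : P) → Set (IrrCharacter (Cen (Subgroup.zpowers (x : G))))} {χ₀ : IrrCharacter G}

theorem ctr_ne_zero_major {x : G} {H : Subgroup G} {b : Set (IrrCharacter H)}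
    (hH : H = Subgroup.centralizer ({x} : Set G)) (hM : IsPModular p M)
    (hx : ∃ k : ℕ, orderOf x = p ^ k) (hind : IsInducedBlock M H b B)
    (hd : blockDefect p b = blockDefect p B) {χ ψ : IrrCharacter G} (hχ : χ ∈ B)
    (h0 : blockHeight p B (χ : G → ℂ) = 0) (hψ : ψ ∈ B) : ctr p x H b χ ψ ≠ 0 := by
  subst hH
  have := Fintype.ofFinite (Subgroup.centralizer ({x} : Set G))
  rw [ctr_eq_contrib]
  obtain ⟨w, -, hw, h⟩ := contrib_height hM hx hind hd hχ h0 hψ
  rw [h]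
  exact mul_ne_zero (Nat.cast_ne_zero.mpr (pow_ne_zero _ hp.out.ne_zero)) hw

/-- On the section of the identity there is one block. -/
theorem Setup.secH_one (S : Setup p M B P e β) {χ : IrrCharacter G} (hχ : χ ∈ B)
    {s : Cen (Subgroup.zpowers ((1 : P) : G))} (hs : ¬ p ∣ orderOf s) :
    secH ((1 : P) : G) (Cen (Subgroup.zpowers ((1 : P) : G))) (β 1) χ s = (χ : G → ℂ) (s : G) := by
  have := Fintype.ofFinite (Cen (Subgroup.zpowers ((1 : P) : G)))
  have := Fintype.ofFinite {b : Set (IrrCharacter (Cen (Subgroup.zpowers ((1 : P) : G)))) // IsPBlock M b}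
  have hu := exists_pow_of_mem S.isPGroup (1 : P).2
  have h := sum_inducingH (cen_zpowers _) S.hM hu S.isPBlock χ hχ hs
  rw [Finset.sum_eq_single ⟨β 1, (S.pairOf 1).1.2⟩, if_pos (S.induced 1)] at h
  · exact h.trans (congrArg (χ : G → ℂ) (show (1 : G) * (s : G) = s from one_mul _))
  · intro b _ hne
    rw [if_neg]
    intro hind
    apply hne
    have hbp := (brauerPairOf_iff_induced S.hM (isPGroup_zpowers hu) b.2 S.isPBlock).mpr hind
    obtain ⟨g, hg⟩ := exists_conj_le_maximal S.hM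
      (a := ⟨Subgroup.zpowers ((1 : P) : G), b.1⟩) (b := ⟨P, e⟩) S.hmax hbp
    rw [cjPair_eq_self_of_mem_stab hbp.1 (cen_le_stab _ (by
      rw [cen_zpowers]; exact Subgroup.mem_centralizer_singleton_iff.mpr (by simp)))] at hg
    have he := pair_eq_of_le S.hM S.hmax.1.1 hg (S.hβ 1) rfl
    exact Subtype.ext (eq_of_heq (Sigma.mk.injEq .. ▸ he).2)
  · exact fun hn => absurd (Finset.mem_univ _) hn

theorem Setup.coeff_galois (S : Setup p M B P e β) (σ : ℂ ≃+* ℂ) (ψ : IrrCharacter G) (μ : IrrCharacter P) :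
    classInner (fun x => cc p β x ψ χ₀) (μ : P → ℂ) ∈ conjCommute σ := by
  rw [classInner_def]
  refine Subfield.mul_mem _ (Subfield.inv_mem _ (natCast_mem _ _)) (Subfield.sum_mem _ fun x _ => ?_)
  refine Subfield.mul_mem _ (S.galois σ x ψ χ₀) ?_
  rw [← char_inv (isCharacter_of_isIrr μ.2)]
  exact char_mem_conjCommute σ (isCharacter_of_isIrr μ.2) _

/-- **The characters of a nilpotent block.** -/
theorem Setup.exists_equiv (S : Setup p M B P e β) (h₀ : χ₀ ∈ B)
    (hh₀ : blockHeight p B (χ₀ : G → ℂ) = 0) :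
    ∃ f : IrrCharacter P ≃ B, ∀ (μ : IrrCharacter P) (y : G), ¬ p ∣ orderOf y →
      ((f μ : IrrCharacter G) : G → ℂ) y = (charDegree (μ : P → ℂ) : ℂ) * (χ₀ : G → ℂ) y := by
  set c : IrrCharacter P → IrrCharacter G → ℂ := fun μ ψ =>
    classInner (fun x => cc p β x ψ χ₀) (μ : P → ℂ) with hc
  have horth : ∀ μ ν, ∑ ψ ∈ bset B, c μ ψ * conj (c ν ψ) = if μ = ν then 1 else 0 :=
    S.coeff_orth h₀ hh₀
  have hnorm : ∀ (σ : ℂ ≃+* ℂ) μ, ∑ ψ ∈ bset B, Complex.normSq (σ (c μ ψ)) = 1 := by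
    intro σ μ
    apply Complex.ofReal_injective
    have h := congrArg σ (horth μ μ)
    rw [if_pos rfl, map_one, map_sum] at h
    rw [Complex.ofReal_sum, Complex.ofReal_one, ← h]
    refine Finset.sum_congr rfl fun ψ _ => ?_
    rw [map_mul, show σ (conj (c μ ψ)) = conj (σ (c μ ψ)) from S.coeff_galois σ ψ μ, Complex.mul_conj]
  have huniq : ∀ μ, ∀ ψ₁ ∈ bset B, ∀ ψ₂ ∈ bset B, c μ ψ₁ ≠ 0 → c μ ψ₂ ≠ 0 → ψ₁ = ψ₂ := by
    intro μ ψ₁ h₁ ψ₂ h₂ n₁ n₂
    by_contra hne
    have hint : ∀ ψ ∈ bset B, IsIntegral ℤ (c μ ψ * conj (c μ ψ)) := fun ψ hψ =>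
      (S.isIntegral_coeff h₀ hh₀ (mem_bset.mp hψ) μ).mul
        (map_isIntegral_int (starRingEnd ℂ) (S.isIntegral_coeff h₀ hh₀ (mem_bset.mp hψ) μ))
    have hσ : ∀ (σ : ℂ ≃+* ℂ), σ ((c μ ψ₁ * conj (c μ ψ₁)) * (c μ ψ₂ * conj (c μ ψ₂))) =
        ((Complex.normSq (σ (c μ ψ₁)) * Complex.normSq (σ (c μ ψ₂)) : ℝ) : ℂ) := fun σ => by
      rw [map_mul, map_mul, map_mul, show σ (conj (c μ ψ₁)) = conj (σ (c μ ψ₁)) from S.coeff_galois σ ψ₁ μ,
        show σ (conj (c μ ψ₂)) = conj (σ (c μ ψ₂)) from S.coeff_galois σ ψ₂ μ, Complex.mul_conj,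
        Complex.mul_conj, Complex.ofReal_mul]
    obtain ⟨σ, h⟩ := exists_conjugate_ge_one ((hint ψ₁ h₁).mul (hint ψ₂ h₂))
      (mul_ne_zero (mul_ne_zero n₁ ((map_ne_zero _).mpr n₁)) (mul_ne_zero n₂ ((map_ne_zero _).mpr n₂)))
      (fun σ => ⟨_, mul_nonneg (Complex.normSq_nonneg _) (Complex.normSq_nonneg _), hσ σ⟩)
    rw [hσ, Complex.ofReal_re] at h
    have h2 := Finset.add_le_sum (f := fun ψ => Complex.normSq (σ (c μ ψ)))
      (fun ψ _ => Complex.normSq_nonneg _) h₁ h₂ hne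
    rw [hnorm σ μ] at h2
    nlinarith [Complex.normSq_nonneg (σ (c μ ψ₁)), Complex.normSq_nonneg (σ (c μ ψ₂)),
      sq_nonneg (Complex.normSq (σ (c μ ψ₁)) - Complex.normSq (σ (c μ ψ₂)))]
  have hex : ∀ μ, ∃ ψ, ψ ∈ bset B ∧ c μ ψ ≠ 0 := by
    intro μ
    by_contra! h
    have h1 := horth μ μ
    rw [if_pos rfl, Finset.sum_eq_zero fun ψ hψ => by rw [h ψ hψ, zero_mul]] at h1
    exact zero_ne_one h1
  choose f hf hfne using hex
  have hother : ∀ μ, ∀ ψ ∈ bset B, ψ ≠ f μ → c μ ψ = 0 := fun μ ψ hψ hne => by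
    by_contra h
    exact hne (huniq μ ψ hψ (f μ) (hf μ) h (hfne μ))
  have hinj : Function.Injective f := by
    intro μ ν h
    by_contra hne
    have h1 := horth μ ν
    rw [if_neg hne, Finset.sum_eq_single (f μ) (fun ψ hψ hn => by rw [hother μ ψ hψ hn, zero_mul])
      (fun hn => absurd (hf μ) hn)] at h1
    rcases mul_eq_zero.mp h1 with h2 | h2
    · exact hfne μ h2
    · exact hfne ν (by rw [← h]; exact (map_eq_zero _).mp h2)
  have hexp : ∀ ψ : IrrCharacter G, (fun x => cc p β x ψ χ₀) = ∑ μ : IrrCharacter P, c μ ψ • (μ : P → ℂ) :=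
    fun ψ => classFun_eq_sum (S.isClassFunction ψ χ₀)
  have hsurj : ∀ ψ ∈ B, ∃ μ, f μ = ψ := by
    intro ψ hψ
    by_contra! h
    have hz : cc p β 1 ψ χ₀ = 0 := by
      have h1 := congrFun (hexp ψ) 1
      simp only [Finset.sum_apply, Pi.smul_apply, smul_eq_mul] at h1
      rw [h1, Finset.sum_eq_zero fun μ _ => by rw [hother μ ψ (mem_bset.mpr hψ) (h μ).symm, zero_mul]]
    refine ctr_ne_zero_major (B := B) (cen_zpowers _) S.hM (exists_pow_of_mem S.isPGroup (1 : P).2)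
      (S.induced 1) (S.defect_eq (Subgroup.coe_one P)) h₀ hh₀ hψ ?_
    show cc p β 1 χ₀ ψ = 0
    rw [cc_symm, hz, map_zero]
  have hrf : ∀ μ (x : P), cc p β x (f μ) χ₀ = c μ (f μ) * (μ : P → ℂ) x := by
    intro μ x
    have h1 := congrFun (hexp (f μ)) x
    simp only [Finset.sum_apply, Pi.smul_apply, smul_eq_mul] at h1
    rw [h1, Finset.sum_eq_single μ (fun ν _ hne => by
      rw [hother ν (f μ) (hf μ) fun h => hne (hinj h).symm, zero_mul])
      (fun hn => absurd (Finset.mem_univ _) hn)]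
  have hkey : ∀ μ (y : G), ¬ p ∣ orderOf y →
      ((f μ : IrrCharacter G) : G → ℂ) y = (charDegree (μ : P → ℂ) : ℂ) * (χ₀ : G → ℂ) y := by
    intro μ
    have hψ : f μ ∈ B := mem_bset.mp (hf μ)
    have hn : c μ (f μ) * conj (c μ (f μ)) = 1 := by
      have h1 := horth μ μ
      rwa [if_pos rfl, Finset.sum_eq_single (f μ) (fun ψ hψ hne => by rw [hother μ ψ hψ hne, zero_mul])
        (fun hn => absurd (hf μ) hn)] at h1
    obtain ⟨A, hA⟩ : ∃ A, A = cc p β 1 (f μ) χ₀ := ⟨_, rfl⟩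
    have hone : cc p β 1 (f μ) (f μ) = A * conj A := by
      have h1 : ∑ x : P, (cc p β x (f μ) (f μ) - cc p β x (f μ) χ₀ * conj (cc p β x (f μ) χ₀)) = 0 := by
        rw [Finset.sum_sub_distrib, S.row hψ hψ, if_pos rfl, mul_one, sub_eq_zero]
        have h2 := classInner_irr_self μ.2
        rw [classInner_def, inv_mul_eq_one₀ card_ne_zero'] at h2
        rw [h2]
        refine Finset.sum_congr rfl fun x _ => ?_
        rw [hrf, map_mul, mul_mul_mul_comm, hn, one_mul]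
      rw [Finset.sum_eq_single (1 : P) (fun x _ hx => by rw [S.mul_row h₀ hh₀ hx, sub_self])
        (fun hn => absurd (Finset.mem_univ _) hn), sub_eq_zero] at h1
      rw [h1, hA]
    have hreg : ∀ y : G, ¬ p ∣ orderOf y → ((f μ : IrrCharacter G) : G → ℂ) y = A * (χ₀ : G → ℂ) y := by
      intro y hy
      have hy' : y ∈ Cen (Subgroup.zpowers ((1 : P) : G)) := by
        rw [cen_zpowers]; exact Subgroup.mem_centralizer_singleton_iff.mpr (by simp)
      have hs : ¬ p ∣ orderOf (⟨y, hy'⟩ : Cen (Subgroup.zpowers ((1 : P) : G))) := by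
        rwa [Subgroup.orderOf_mk]
      have h := secH_eq_mul (p := p) (x := ((1 : P) : G)) (H := Cen (Subgroup.zpowers ((1 : P) : G)))
        (b := β 1) (χ := f μ) (ψ := χ₀) (t := A) (by
          show cc p β 1 (f μ) (f μ) - conj A * cc p β 1 (f μ) χ₀ - A * cc p β 1 χ₀ (f μ) +
            A * conj A * cc p β 1 χ₀ χ₀ = 0
          rw [hone, S.self_eq_one h₀ hh₀, cc_symm 1 (f μ) χ₀, ← hA]
          ring) hs
      rwa [S.secH_one hψ hs, S.secH_one h₀ hs] at h
    have hdeg : A = (charDegree (μ : P → ℂ) : ℂ) := by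
      have h1 := hreg 1 (by simpa using hp.out.one_lt.ne')
      rw [CfsgLib.Blocks.charDegree_eq (isCharacter_of_isIrr (f μ).2),
        CfsgLib.Blocks.charDegree_eq (isCharacter_of_isIrr χ₀.2)] at h1
      have hd0 : (charDegree (χ₀ : G → ℂ) : ℂ) ≠ 0 := Nat.cast_ne_zero.mpr (charDegree_ne_zero χ₀)
      have hAr : A = (((charDegree ((f μ : IrrCharacter G) : G → ℂ) : ℝ) / (charDegree (χ₀ : G → ℂ) : ℝ) : ℝ) : ℂ) := by
        push_cast
        rw [h1, mul_div_cancel_right₀ _ hd0]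
      have h2 : A * conj A = (charDegree (μ : P → ℂ) : ℂ) * (charDegree (μ : P → ℂ) : ℂ) := by
        rw [hA, hrf μ 1, map_mul, mul_mul_mul_comm, hn, one_mul,
          CfsgLib.Blocks.charDegree_eq (isCharacter_of_isIrr μ.2), Complex.conj_natCast]
      rw [hAr, Complex.conj_ofReal, ← Complex.ofReal_mul, ← Complex.ofReal_natCast, ← Complex.ofReal_mul,
        Complex.ofReal_inj] at h2
      rw [hAr, ← Complex.ofReal_natCast, Complex.ofReal_inj]
      exact (mul_self_inj (by positivity) (by positivity)).mp h2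
    intro y hy
    rw [hreg y hy, hdeg]
  refine ⟨Equiv.ofBijective (fun μ => ⟨f μ, mem_bset.mp (hf μ)⟩)
    ⟨fun μ ν h => hinj (congrArg Subtype.val h), fun ψ => ?_⟩, hkey⟩
  obtain ⟨μ, hμ⟩ := hsurj ψ.1 ψ.2
  exact ⟨μ, Subtype.ext hμ⟩

theorem Setup.blockRank_eq_one (S : Setup p M B P e β) : blockRank p B = 1 := by
  obtain ⟨χ, hχ, hh⟩ := exists_height_zero S.hM S.isPBlock
  obtain ⟨f, hf⟩ := S.exists_equiv hχ hh
  refine le_antisymm ?_ (blockRank_pos S.isPBlock)
  refine (Submodule.finrank_mono (t := Submodule.span ℂ {pRegularPart p (χ : G → ℂ)}) ?_).trans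
    (le_of_le_of_eq (finrank_span_le_card _) (by simp))
  rw [Submodule.span_le]
  rintro _ ⟨ψ, hψ, rfl⟩
  refine Submodule.mem_span_singleton.mpr
    ⟨(charDegree ((f.symm ⟨ψ, hψ⟩ : IrrCharacter P) : P → ℂ) : ℂ), funext fun y => ?_⟩
  simp only [Pi.smul_apply, smul_eq_mul, pRegularPart_apply]
  split_ifs with hy
  · rw [mul_zero]
  · rw [← hf _ y hy, Equiv.apply_symm_apply]

omit [M.IsMaximal] in
/-- **A nilpotent block has one Brauer character.** -/
theorem blockRank_eq_one_of_nilpotent (hM : IsPModular p M) :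
    ∀ (G : Type u) [Group G] [Fintype G] (B : Set (IrrCharacter G)),
      IsNilpotentBlock p M B → blockRank p B = 1 := by
  have : M.IsMaximal := hM.2.1
  suffices h : ∀ (n : ℕ) (G : Type u) [Group G] [Fintype G], Nat.card G = n →
      ∀ B : Set (IrrCharacter G), IsNilpotentBlock p M B → blockRank p B = 1 from
    fun G _ _ B hnil => h _ G rfl B hnil
  intro n
  induction n using Nat.strong_induction_on with
  | _ n ih =>
    intro G _ _ hn B hnil
    obtain ⟨D, hD⟩ := exists_isDefectGroup (p := p) hnil.1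
    obtain ⟨e, hmax⟩ := exists_maximal_at hM hnil.1 hD
    obtain ⟨β, S⟩ := exists_setup hM hmax hnil fun H _ _ hlt => ih _ (hn ▸ hlt) H rfl
    exact S.blockRank_eq_one

/-- **The correspondence.** -/
theorem exists_equiv_of_nilpotent (hM : IsPModular p M) (hnil : IsNilpotentBlock p M B)
    (hD : IsDefectGroup p M B P) :
    ∃ χ₀ ∈ B, blockHeight p B (χ₀ : G → ℂ) = 0 ∧ ∃ f : IrrCharacter P ≃ B,
      ∀ (μ : IrrCharacter P) (y : G), ¬ p ∣ orderOf y →
        ((f μ : IrrCharacter G) : G → ℂ) y = (charDegree (μ : P → ℂ) : ℂ) * (χ₀ : G → ℂ) y := by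
  obtain ⟨e, hmax⟩ := exists_maximal_at hM hnil.1 hD
  obtain ⟨β, S⟩ := exists_setup hM hmax hnil fun H _ _ _ => blockRank_eq_one_of_nilpotent hM H
  obtain ⟨χ, hχ, hh⟩ := exists_height_zero hM hnil.1
  exact ⟨χ, hχ, hh, S.exists_equiv hχ hh⟩

end CfsgLib.NilBlock
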