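import Cfsg.Prelude.Def_BrauerPairs
import Cfsg.Agent.Lib.Blocks.GaloisInv
import Cfsg.Agent.Lib.CharBlocks.AMGM
import Cfsg.Agent.Lib.CharBlocks.Degree

/-!
# Brauer pairs do not depend on the maximal ideal over `p`

* `isPBlock_indep`, `brauerPairOf_indep`, `normalSubpairRel_indep`, `nilpotent_indep`,
  `maximalPair_indep`: the notions at two maximal ideals over `p` agree;
* `isIntegral_of_local`: local integrality at every maximal ideal over `p` gives integrality.
-/

set_option autoImplicit false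

noncomputable section

namespace CfsgLib.NilBlock

open Cfsg CfsgLib.Blocks
open scoped ComplexConjugate

variable {p : ℕ} {M M' : Ideal AlgInt}

/-- Membership of a fraction in the local ideal depends on `p` only. -/
theorem memLocalIdeal_div_iff (hM : IsPModular p M) (m : ℤ) {N : ℕ} (hN : N ≠ 0) :
    MemLocalIdeal M ((m : ℂ) / (N : ℂ)) ↔ (p : ℤ) ^ (N.factorization p + 1) ∣ m := by
  have hp := hM.1
  have hprime := hM.2.1.isPrime
  set v := N.factorization p with hv
  set N' := N / p ^ v with hN'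
  have hNe : N = p ^ v * N' := (Nat.ordProj_mul_ordCompl_eq_self N p).symm
  have hpN' : ¬ p ∣ N' := Nat.not_dvd_ordCompl hp hN
  have hp0 : (p : ℂ) ≠ 0 := Nat.cast_ne_zero.mpr hp.ne_zero
  have hN'0 : (N' : ℂ) ≠ 0 := Nat.cast_ne_zero.mpr fun h => hpN' (h ▸ dvd_zero p)
  constructor
  · rintro ⟨a, b, ha, hb, hab⟩
    by_contra hndvd
    have hm0 : m ≠ 0 := fun h => hndvd (h ▸ dvd_zero _)
    obtain ⟨w, hw⟩ : ∃ w, (m.natAbs).factorization p = w := ⟨_, rfl⟩
    have hwv : w ≤ v := by
      by_contra h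
      push Not at h
      apply hndvd
      rw [← Int.natCast_pow, Int.natCast_dvd]
      exact (Nat.pow_dvd_pow p (hw ▸ h)).trans (Nat.ordProj_dvd _ _)
    obtain ⟨m', hm'⟩ : ((p : ℤ) ^ w) ∣ m := by
      rw [← Int.natCast_pow, Int.natCast_dvd, ← hw]
      exact Nat.ordProj_dvd _ _
    have hm'p : ¬ (p : ℤ) ∣ m' := by
      rintro ⟨t, rfl⟩
      have h1 : (p : ℤ) ^ (w + 1) ∣ m := ⟨t, by rw [hm', pow_succ]; ring⟩
      rw [← Int.natCast_pow, Int.natCast_dvd,
        hp.pow_dvd_iff_le_factorization (Int.natAbs_ne_zero.mpr hm0), hw] at h1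
      omega
    have hb0 := coe_ne_zero_of_notMem hb
    have h2 : (m' : AlgInt) * b = ((p ^ (v - w) * N' : ℕ) : AlgInt) * a := by
      refine Subtype.ext ?_
      rw [div_eq_div_iff hb0 (Nat.cast_ne_zero.mpr hN)] at hab
      push_cast
      have h3 : (N : ℂ) = (p : ℂ) ^ w * ((p : ℂ) ^ (v - w) * N') := by
        rw [← mul_assoc, ← pow_add, Nat.add_sub_cancel' hwv]; exact_mod_cast hNe
      rw [h3, hm'] at hab
      push_cast at hab
      refine mul_left_cancel₀ (pow_ne_zero w hp0) ?_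
      linear_combination -hab
    have h4 : (m' : AlgInt) * b ∈ M := h2 ▸ M.mul_mem_left _ ha
    rcases hprime.mem_or_mem h4 with h | h
    · exact hm'p ((intCast_mem_iff hM m').mp h)
    · exact hb h
  · rintro ⟨t, ht⟩
    refine ⟨(p : AlgInt) * (t : AlgInt), (N' : AlgInt), M.mul_mem_right _ hM.2.2,
      fun h => hpN' ((natCast_mem_iff hM N').mp h), ?_⟩
    rw [ht]
    conv_rhs => rw [hNe]
    push_cast
    rw [div_eq_div_iff hN'0 (mul_ne_zero (pow_ne_zero _ hp0) hN'0)]
    ring

variable {G : Type*} [Group G] [Finite G]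

theorem sameBlock_indep (hM : IsPModular p M) (hM' : IsPModular p M') {χ ψ : IrrCharacter G}
    (h : SameBlock M (χ : G → ℂ) (ψ : G → ℂ)) : SameBlock M' (χ : G → ℂ) (ψ : G → ℂ) := fun g => by
  have := Fintype.ofFinite G
  have := hM'.2.1
  have hint := (isIntegral_centralChar χ.2 g).sub (isIntegral_centralChar ψ.2 g)
  exact (memLocalIdeal_intInt_iff M' hint).mpr (sub_mem_of_sameBlock hM hM' h g ⟨_, hint⟩ rfl)

theorem isPBlock_indep (hM : IsPModular p M) (hM' : IsPModular p M') {B : Set (IrrCharacter G)} :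
    IsPBlock M B ↔ IsPBlock M' B := by
  have : ∀ χ : IrrCharacter G, blockOf M (χ : G → ℂ) = blockOf M' (χ : G → ℂ) := fun χ =>
    Set.ext fun ψ => ⟨sameBlock_indep hM hM', sameBlock_indep hM' hM⟩
  simp only [IsPBlock, this]

/-- An automorphism acts on the coefficients of a set of characters as a power map. -/
theorem ringEquiv_blockCoeff {H : Type*} [Group H] [Finite H] {σ : ℂ ≃+* ℂ} {n k : ℕ}
    (hσ : ∀ z : ℂ, z ^ n = 1 → σ z = z ^ k) (f : Set (IrrCharacter H)) (h : H) (hh : orderOf h ∣ n) :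
    σ (blockCoeff f h) = blockCoeff f (h ^ k) := by
  classical
  have := Fintype.ofFinite H
  rw [blockCoeff_eq, blockCoeff_eq, map_mul, map_inv₀, map_natCast, map_sum]
  congr 1
  refine Finset.sum_congr rfl fun χ _ => ?_
  rw [apply_ite σ, map_zero, map_mul]
  have hc := CfsgLib.Char.isCharacter_of_isIrr χ.2
  rw [← CfsgLib.Char.char_inv hc, ← CfsgLib.Char.char_inv hc,
    CfsgLib.CharNormal.ringEquiv_char_apply hσ hc (g := h⁻¹) (by rwa [orderOf_inv]), inv_pow]
  obtain ⟨d, hd⟩ := CfsgLib.Char.exists_degree hc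
  rw [hd, map_natCast]

theorem isIntegral_card_mul_blockCoeff {H : Type*} [Group H] [Finite H] (f : Set (IrrCharacter H)) (h : H) :
    IsIntegral ℤ ((Nat.card H : ℂ) * blockCoeff f h) := by
  classical
  have := Fintype.ofFinite H
  rw [blockCoeff_eq, ← mul_assoc, mul_inv_cancel₀ CfsgLib.Char.card_ne_zero', one_mul]
  refine IsIntegral.sum _ fun χ _ => ?_
  split_ifs
  · have hc := CfsgLib.Char.isCharacter_of_isIrr χ.2
    rw [← CfsgLib.Char.char_inv hc]
    exact (CfsgLib.Char.char_isIntegral hc _).mul (CfsgLib.Char.char_isIntegral hc _)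
  · exact isIntegral_zero

/-- The sums defining Brauer pairs are rational. -/
theorem exists_frac_brauerOmega (P : Subgroup G) (β : G → ℂ)
    (hβ : ∀ x, IsIntegral ℤ ((Nat.card G : ℂ) * β x))
    (hσ : ∀ (σ : ℂ ≃+* ℂ) (k : ℕ), (∀ z : ℂ, z ^ Nat.card G = 1 → σ z = z ^ k) →
      k.Coprime (Nat.card G) → ∀ x, σ (β x) = β (x ^ k))
    (ξ : IrrCharacter (Subgroup.centralizer (P : Set G))) :
    ∃ (m : ℤ) (N : ℕ), N ≠ 0 ∧ brauerOmega P β (ξ : _ → ℂ) - 1 = (m : ℂ) / (N : ℂ) := by
  classical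
  have := Fintype.ofFinite (Subgroup.centralizer (P : Set G))
  let C := Subgroup.centralizer (P : Set G)
  have hc := CfsgLib.Char.isCharacter_of_isIrr ξ.2
  obtain ⟨d, hd⟩ := CfsgLib.Char.exists_degree hc
  have hd0 : (d : ℂ) ≠ 0 := hd ▸ CfsgLib.Char.irr_one_ne_zero ξ.2
  set S : ℂ := ∑ x : C, (Nat.card G : ℂ) * β x * (ξ : C → ℂ) x with hS
  have hG0 : (Nat.card G : ℂ) ≠ 0 := Nat.cast_ne_zero.mpr Nat.card_pos.ne'
  have hint : IsIntegral ℤ S := IsIntegral.sum _ fun x _ => (hβ x).mul (CfsgLib.Char.char_isIntegral hc x)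
  obtain ⟨m, hm⟩ := CfsgLib.CharBlocks.exists_int_of_fixed hint fun σ => by
    have hn : Nat.card G ≠ 0 := Nat.card_pos.ne'
    have hζ := Complex.isPrimitiveRoot_exp (Nat.card G) hn
    have : NeZero (Nat.card G) := ⟨hn⟩
    obtain ⟨k, -, hk, hkζ⟩ := hζ.isPrimitiveRoot_iff.mp (hζ.map_of_injective σ.injective)
    have hroot : ∀ z : ℂ, z ^ Nat.card G = 1 → σ z = z ^ k := fun z hz => by
      obtain ⟨i, -, rfl⟩ := hζ.eq_pow_of_pow_eq_one hz
      rw [map_pow, ← hkζ, ← pow_mul, ← pow_mul, mul_comm k i]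
    rw [hS, map_sum]
    refine Fintype.sum_equiv (powCoprime (G := C) (n := k)
      ((hk.coprime_dvd_right (Subgroup.card_subgroup_dvd_card C)).symm)) _ _ fun x => ?_
    rw [map_mul, map_mul, map_natCast, hσ σ k hroot hk,
      CfsgLib.CharNormal.ringEquiv_char_apply hroot hc
        ((orderOf_dvd_natCard x).trans (Subgroup.card_subgroup_dvd_card C))]
    simp [powCoprime]
  refine ⟨m - (Nat.card G * d : ℕ), Nat.card G * d, mul_ne_zero Nat.card_pos.ne' (by exact_mod_cast hd0), ?_⟩
  have hω : brauerOmega P β (ξ : C → ℂ) = (∑ x : C, β x * (ξ : C → ℂ) x) / (d : ℂ) := by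
    rw [brauerOmega, finsum_eq_sum_of_fintype, Finset.sum_div, hd]
  have hS' : S = (Nat.card G : ℂ) * ∑ x : C, β x * (ξ : C → ℂ) x := by
    rw [hS, Finset.mul_sum]
    exact Finset.sum_congr rfl fun x _ => mul_assoc _ _ _
  rw [hω]
  push_cast
  rw [← hm, hS', eq_div_iff (mul_ne_zero hG0 hd0)]
  field_simp

theorem memLocalIdeal_brauerOmega_indep (hM : IsPModular p M) (hM' : IsPModular p M') (P : Subgroup G)
    (β : G → ℂ) (hβ : ∀ x, IsIntegral ℤ ((Nat.card G : ℂ) * β x))
    (hσ : ∀ (σ : ℂ ≃+* ℂ) (k : ℕ), (∀ z : ℂ, z ^ Nat.card G = 1 → σ z = z ^ k) →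
      k.Coprime (Nat.card G) → ∀ x, σ (β x) = β (x ^ k))
    (ξ : IrrCharacter (Subgroup.centralizer (P : Set G))) :
    MemLocalIdeal M (brauerOmega P β (ξ : _ → ℂ) - 1) ↔
      MemLocalIdeal M' (brauerOmega P β (ξ : _ → ℂ) - 1) := by
  obtain ⟨m, N, hN, h⟩ := exists_frac_brauerOmega P β hβ hσ ξ
  rw [h, memLocalIdeal_div_iff hM m hN, memLocalIdeal_div_iff hM' m hN]

theorem isBrauerPair_indep (hM : IsPModular p M) (hM' : IsPModular p M') (Q : Subgroup G)
    (e : Set (IrrCharacter (Subgroup.centralizer (Q : Set G)))) :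
    IsBrauerPair p M Q e ↔ IsBrauerPair p M' Q e :=
  and_congr_right fun _ => isPBlock_indep hM hM'

theorem brauerPairOf_indep (hM : IsPModular p M) (hM' : IsPModular p M') (B : Set (IrrCharacter G))
    (Q : Subgroup G) (e : Set (IrrCharacter (Subgroup.centralizer (Q : Set G)))) :
    IsBrauerPairOf p M B Q e ↔ IsBrauerPairOf p M' B Q e := by
  refine and_congr (isBrauerPair_indep hM hM' Q e) (and_congr (isPBlock_indep hM hM')
    (forall₂_congr fun ξ _ => ?_))
  refine memLocalIdeal_brauerOmega_indep hM hM' Q _ (fun x => isIntegral_card_mul_blockCoeff B x) ?_ ξ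
  exact fun σ k hr _ x => ringEquiv_blockCoeff hr B x (orderOf_dvd_natCard x)

theorem normalSubpair_indep (hM : IsPModular p M) (hM' : IsPModular p M') (Q : Subgroup G)
    (f : Set (IrrCharacter (Subgroup.centralizer (Q : Set G)))) (P : Subgroup G)
    (e : Set (IrrCharacter (Subgroup.centralizer (P : Set G)))) :
    IsNormalSubpair p M Q f P e ↔ IsNormalSubpair p M' Q f P e := by
  classical
  refine and_congr (isBrauerPair_indep hM hM' Q f) (and_congr (isBrauerPair_indep hM hM' P e)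
    (and_congr_right fun _ => and_congr_right fun _ => and_congr_right fun _ => forall₂_congr fun ξ _ => ?_))
  refine memLocalIdeal_brauerOmega_indep hM hM' P _ (fun x => ?_) (fun σ k hr hk x => ?_) ξ
  · unfold subgroupBlockCoeff
    split_ifs with hx
    · obtain ⟨r, hr⟩ := Subgroup.card_subgroup_dvd_card (Subgroup.centralizer (Q : Set G))
      rw [hr, Nat.cast_mul, mul_comm (Nat.card _ : ℂ) (r : ℂ), mul_assoc]
      exact (CfsgLib.CharBlocks.isIntegral_natCast r).mul (isIntegral_card_mul_blockCoeff f _)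
    · rw [mul_zero]; exact isIntegral_zero
  · simp only [subgroupBlockCoeff]
    by_cases hx : x ∈ Subgroup.centralizer (Q : Set G)
    · rw [dif_pos hx, dif_pos (pow_mem hx k), ringEquiv_blockCoeff hr f _ (orderOf_dvd_natCard x |>
        fun h => by rw [Subgroup.orderOf_mk]; exact h)]
      rfl
    · rw [dif_neg hx, dif_neg fun h => hx (CfsgLib.CharBlocks.mem_of_coprime_pow_mem hk h), map_zero]

theorem normalSubpairRel_indep (hM : IsPModular p M) (hM' : IsPModular p M') :
    (NormalSubpairRel p M : BrauerPairIdx G → BrauerPairIdx G → Prop) = NormalSubpairRel p M' :=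
  funext fun a => funext fun b => propext (normalSubpair_indep hM hM' a.1 a.2 b.1 b.2)

theorem subpairLE_indep (hM : IsPModular p M) (hM' : IsPModular p M') (Q : Subgroup G)
    (f : Set (IrrCharacter (Subgroup.centralizer (Q : Set G)))) (P : Subgroup G)
    (e : Set (IrrCharacter (Subgroup.centralizer (P : Set G)))) :
    SubpairLE p M Q f P e ↔ SubpairLE p M' Q f P e := by
  rw [SubpairLE, SubpairLE, normalSubpairRel_indep hM hM']

theorem nilpotent_indep (hM : IsPModular p M) (hM' : IsPModular p M') {B : Set (IrrCharacter G)} :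
    IsNilpotentBlock p M B ↔ IsNilpotentBlock p M' B := by
  simp only [IsNilpotentBlock, brauerPairOf_indep hM hM', isPBlock_indep hM hM']

theorem maximalPair_indep (hM : IsPModular p M) (hM' : IsPModular p M') {B : Set (IrrCharacter G)}
    {P : Subgroup G} {e : Set (IrrCharacter (Subgroup.centralizer (P : Set G)))} :
    IsMaximalBrauerPair p M B P e ↔ IsMaximalBrauerPair p M' B P e := by
  simp only [IsMaximalBrauerPair, brauerPairOf_indep hM hM', subpairLE_indep hM hM']

omit M M' in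
/-- Local integrality at all maximal ideals over `p` gives integrality. -/
theorem isIntegral_of_local (hp : p.Prime) {z : ℂ} {n : ℕ} (hn : IsIntegral ℤ ((p : ℂ) ^ n * z))
    (h : ∀ M : Ideal AlgInt, IsPModular p M → MemLocalRing M z) : IsIntegral ℤ z := by
  let I : Ideal AlgInt :=
    { carrier := {a | IsIntegral ℤ ((a : ℂ) * z)}
      add_mem' := fun {a b} ha hb => by
        show IsIntegral ℤ (((a + b : AlgInt) : ℂ) * z)
        push_cast; rw [add_mul]; exact ha.add hb
      zero_mem' := by show IsIntegral ℤ (((0 : AlgInt) : ℂ) * z); simp [isIntegral_zero]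
      smul_mem' := fun c {a} ha => by
        show IsIntegral ℤ (((c * a : AlgInt) : ℂ) * z)
        push_cast; rw [mul_assoc]; exact IsIntegral.mul c.2 ha }
  by_contra hz
  have hne : I ≠ ⊤ := fun ht => hz (by
    have h1 : (1 : AlgInt) ∈ I := ht ▸ Submodule.mem_top
    have h2 : IsIntegral ℤ (((1 : AlgInt) : ℂ) * z) := h1
    simpa using h2)
  obtain ⟨M, hmax, hle⟩ := Ideal.exists_le_maximal I hne
  have hpn : (p : AlgInt) ^ n ∈ M := hle (by
    show IsIntegral ℤ ((((p : AlgInt) ^ n : AlgInt) : ℂ) * z)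
    push_cast; exact hn)
  obtain ⟨a, b, hb, hab⟩ := h M ⟨hp, hmax, hmax.isPrime.mem_of_pow_mem n hpn⟩
  refine hb (hle ?_)
  show IsIntegral ℤ ((b : ℂ) * z)
  rw [← hab, mul_div_cancel₀ _ (coe_ne_zero_of_notMem hb)]
  exact a.2

end CfsgLib.NilBlock
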