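import Cfsg.Agent.Lib.NilBlock.Spectral
import Cfsg.Agent.Lib.BrauerPairs.Maximal
import Cfsg.Agent.Lib.Blocks.SecondMain

/-!
# Character values at `u i` through the centraliser of `u`

* `charLin_single_mul_eq_zero`: an idempotent commuting with a `p`-element `u` whose Brauer image at `u`
  vanishes is killed at `u`;
* `sum_regular`: an idempotent pairs with class functions through regular elements only;
* `charLin_single_mul_transfer`: `χ(u i) = χ(u j)` when `j` lifts the Brauer image of `i`;
* `sum_single_section`: `χ(u j)` reads only the parts of the blocks that `j` meets.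
-/

set_option autoImplicit false

noncomputable section

namespace CfsgLib.NilBlock

open Cfsg CfsgLib.Blocks CfsgLib.BrauerPairs

attribute [local instance] CfsgLib.Blocks.resField

variable {M : Ideal AlgInt} [M.IsMaximal] {G : Type*} [Group G] [Fintype G] {p : ℕ}

theorem idem_eq_zero_of_red {y : LA M G} (hy : y * y = y) (h : redLA M G y = 0) : y = 0 := by
  obtain ⟨b, hb, hb'⟩ := isUnit_of_redLA_eq_one (a := 1 - y) (by rw [map_sub, map_one, h, sub_zero])
  calc y = y * ((1 - y) * b) := by rw [hb, mul_one]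
    _ = (y - y * y) * b := by rw [← mul_assoc, mul_sub, mul_one]
    _ = 0 := by rw [hy, sub_self, zero_mul]

/-- **Vanishing.** -/
theorem charLin_single_mul_eq_zero (hM : IsPModular p M) {u : G} (hu : ∃ k : ℕ, orderOf u = p ^ k)
    {χ : G → ℂ} (hχ : IsClassFunction G χ) {y : LA M G} (hy : y * y = y)
    (hyu : Commute y (MonoidAlgebra.single u 1))
    (hsupp : ∀ g, Commute g u → res M (y.coeff g) = 0) :
    charLin χ (toCA M G (MonoidAlgebra.single u 1 * y)) = 0 := by
  classical
  set hS : LA M G := MonoidAlgebra.single u 1 with hhS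
  have hinv := (commute_single_iff y u).mp hyu
  set σ : Equiv.Perm {g : G // ¬ Commute g u} :=
    { toFun := fun g => ⟨u * g * u⁻¹, fun h => g.2 (by
        simpa [mul_assoc] using ((Commute.refl u).inv_left.mul_left h).mul_left (Commute.refl u))⟩
      invFun := fun g => ⟨u⁻¹ * g * u, fun h => g.2 (by
        simpa [mul_assoc] using ((Commute.refl u).mul_left h).mul_left (Commute.refl u).inv_left)⟩
      left_inv := fun g => Subtype.ext (by simp [mul_assoc])
      right_inv := fun g => Subtype.ext (by simp [mul_assoc]) }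
  have hσ : ∀ (g : {g : G // ¬ Commute g u}) (n : ℕ),
      (((σ ^ n) g : {g : G // ¬ Commute g u}) : G) = u ^ n * g * (u ^ n)⁻¹ := by
    intro g n
    induction n with
    | zero => simp
    | succ n ih => rw [pow_succ', Equiv.Perm.mul_apply, pow_succ']
                   simp only [σ, Equiv.coe_fn_mk] at ih ⊢
                   rw [ih]; group
  have hcyc : ∀ (g : {g : G // ¬ Commute g u}) (n : ℕ), (σ ^ n) g = g → p ∣ n := by
    intro g n hg
    by_contra hn
    obtain ⟨k, hk⟩ := hu
    obtain ⟨m, hm⟩ := exists_pow_eq_self_of_coprime (x := u) (n := n)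
      (by rw [hk]; exact Nat.Coprime.pow_right k ((hM.1.coprime_iff_not_dvd.mpr hn).symm))
    have h1 : Commute (g : G) (u ^ n) := by
      have := congrArg Subtype.val hg
      rw [hσ, mul_inv_eq_iff_eq_mul] at this
      exact this.symm
    have h2 := h1.pow_right m
    rw [hm] at h2
    exact g.2 h2
  have hζ := Complex.isPrimitiveRoot_exp p hM.1.ne_zero
  set ζ : locRing M := ofInt M ⟨_, hζ.isIntegral hM.1.pos⟩
  have hζp : ζ ^ p = 1 := Subtype.ext (by push_cast; exact hζ.pow_eq_one)
  have hζ1 : ζ ≠ 1 := fun h => hζ.ne_one hM.1.one_lt (congrArg Subtype.val h)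
  obtain ⟨w, hwp, hwσ⟩ := exists_grading σ hζp hcyc
  set T : LA M G := ofFun fun g => if hg : Commute g u then 0 else w ⟨g, hg⟩ * y.coeff g
  have hTh : hS * T = ζ ^ (p - 1) • (T * hS) := by
    refine MonoidAlgebra.coeff_injective (Finsupp.ext fun g => ?_)
    rw [MonoidAlgebra.coeff_smul_apply, smul_eq_mul]
    simp only [hhS, MonoidAlgebra.coeff_single_mul_apply, MonoidAlgebra.coeff_mul_single_apply, one_mul,
      mul_one, T, coeff_ofFun]
    have hsc : y.coeff (u⁻¹ * g) = y.coeff (g * u⁻¹) := by
      rw [← hinv (u⁻¹ * g)]; congr 1; group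
    by_cases hg : Commute g u
    · rw [dif_pos ((Commute.refl u).inv_left.mul_left hg), dif_pos (hg.mul_left (Commute.refl u).inv_left),
        mul_zero]
    · have h1 : ¬ Commute (u⁻¹ * g) u := fun h => hg (by
        simpa using (Commute.refl u).mul_left h)
      have h2 : ¬ Commute (g * u⁻¹) u := fun h => hg (by
        simpa using h.mul_left (Commute.refl u))
      rw [dif_neg h1, dif_neg h2, hsc, ← mul_assoc]
      refine congrArg (· * _) ?_
      have h3 : σ ⟨u⁻¹ * g, h1⟩ = ⟨g * u⁻¹, h2⟩ := Subtype.ext (by simp [σ])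
      rw [← h3, hwσ, ← mul_assoc, ← pow_succ, Nat.sub_add_cancel hM.1.pos, hζp, one_mul]
  have hT : redLA M G T = redLA M G y := by
    refine MonoidAlgebra.coeff_injective (Finsupp.ext fun g => ?_)
    simp only [coeff_redLA, T, coeff_ofFun]
    split_ifs with hg
    · rw [hsupp g hg, map_zero]
    · rw [map_mul, res_pPow_rootOfUnity M hM (k := 1) (by rw [pow_one]; exact hwp _), one_mul]
  set X : LA M G := 1 - y + y * T * y
  obtain ⟨X', hX1, hX2⟩ := isUnit_of_redLA_eq_one (a := X) (by
    simp only [X, map_add, map_sub, map_one, map_mul, hT]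
    rw [← map_mul, hy, ← map_mul, hy, sub_add_cancel])
  obtain ⟨Y, hY⟩ : ∃ Y, Y = hS * y := ⟨_, rfl⟩
  have hEh : y * hS = hS * y := hyu.eq
  have hYX : Y * X = ζ ^ (p - 1) • (X * Y) := by
    have hYE : Y * y = Y := by rw [hY, mul_assoc, hy]
    have hEY : y * Y = Y := by rw [hY, ← hEh, ← mul_assoc, hy]
    have h1 : Y * X = y * (hS * T) * y := by
      simp only [X, mul_add, mul_sub, mul_one, hYE, sub_self, zero_add]
      rw [← mul_assoc Y (y * T) y, ← mul_assoc Y y T, hYE, hY, ← hEh, mul_assoc y hS T]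
    have h2 : X * Y = y * (T * hS) * y := by
      simp only [X, add_mul, sub_mul, one_mul, hEY, sub_self, zero_add]
      rw [mul_assoc, hEY, hY, ← mul_assoc, mul_assoc y T hS]
    rw [h1, h2, hTh, Algebra.mul_smul_comm, Algebra.smul_mul_assoc]
  set φ : LA M G → ℂ := fun a => charLin χ (toCA M G a)
  have hsmul : ∀ (c : locRing M) (a : LA M G), φ (c • a) = (c : ℂ) * φ a := by
    intro c a
    simp [φ, charLin_apply, Finset.mul_sum, mul_assoc]
  show φ (hS * y) = 0
  rw [← hY]
  have h3 : φ Y = ((ζ ^ (p - 1) : locRing M) : ℂ) * φ Y := by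
    calc φ Y = φ (Y * X * X') := by rw [mul_assoc, hX1, mul_one]
      _ = ((ζ ^ (p - 1) : locRing M) : ℂ) * φ (X * Y * X') := by rw [hYX, smul_mul_assoc, hsmul]
      _ = _ := by
        congr 1
        simp only [φ, map_mul]
        rw [mul_assoc, charLin_mul_comm hχ, mul_assoc, ← map_mul, hX2, map_one, mul_one]
  have h4 : ((ζ ^ (p - 1) : locRing M) : ℂ) ≠ 1 := by
    intro hc
    refine hζ1 ?_
    have : ζ ^ (p - 1) = 1 := Subtype.ext hc
    calc ζ = ζ * ζ ^ (p - 1) := by rw [this, mul_one]
      _ = 1 := by rw [← pow_succ', Nat.sub_add_cancel hM.1.pos, hζp]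
  have : (1 - ((ζ ^ (p - 1) : locRing M) : ℂ)) * φ Y = 0 := by rw [sub_mul, one_mul, ← h3, sub_self]
  exact (mul_eq_zero.mp this).resolve_left (sub_ne_zero.mpr (Ne.symm h4))

/-- An idempotent has coefficient sum zero on every singular class. -/
theorem sum_conj_coeff_eq_zero (hM : IsPModular p M) {j : LA M G} (hj : j * j = j) {h : G}
    (hh : p ∣ orderOf h) : ∑ x : G, (j.coeff (x⁻¹ * h * x) : ℂ) = 0 := by
  classical
  let σ : Equiv.Perm G := Equiv.mulLeft h⁻¹
  have hσ : ∀ (n : ℕ) (g : G), (σ ^ n) g = h⁻¹ ^ n * g := by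
    intro n
    induction n with
    | zero => intro g; simp
    | succ n ih => intro g; rw [pow_succ', Equiv.Perm.mul_apply, ih, pow_succ']; simp [σ, mul_assoc]
  have hcyc : ∀ (g : G) (n : ℕ), (σ ^ n) g = g → p ∣ n := fun g n hn => by
    rw [hσ, mul_eq_right] at hn
    have := orderOf_dvd_of_pow_eq_one hn
    rw [orderOf_inv] at this
    exact hh.trans this
  let E : Matrix G G (locRing M) := fun x y => j.coeff (y⁻¹ * x)
  let P : Matrix G G (locRing M) := fun a b => if a = σ b then 1 else 0
  have hE : E * E = E := by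
    ext x y
    have h1 := congrArg (fun z : LA M G => z.coeff (y⁻¹ * x)) hj
    simp only [coeff_mul_eq_sum] at h1
    rw [Matrix.mul_apply]
    refine congrArg Subtype.val ((Fintype.sum_equiv (Equiv.mulLeft y⁻¹) _ _ fun z => ?_).trans h1)
    simp only [E, Equiv.coe_mulLeft]
    rw [mul_comm]
    congr 2
    group
  have hEP : E * P = P * E := by
    ext x y
    rw [Matrix.mul_apply, Matrix.mul_apply, Finset.sum_eq_single (σ y)
      (fun b _ hb => by simp [P, hb]) (by simp), Finset.sum_eq_single (σ.symm x)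
      (fun b _ hb => by
        simp only [P]; rw [if_neg, zero_mul]
        exact fun e => hb (by rw [e, Equiv.symm_apply_apply])) (by simp)]
    simp [P, E, σ, mul_assoc]
  have htr := congrArg Subtype.val
    (trace_mul_monomial_eq_zero hM σ hcyc (fun _ => 1) (P := P) (fun a b => rfl) hE hEP)
  rw [Matrix.trace, AddSubmonoidClass.coe_finsetSum] at htr
  refine (Finset.sum_congr rfl fun g _ => ?_).trans htr
  rw [Matrix.diag_apply, Matrix.mul_apply, Finset.sum_eq_single (σ g)
      (fun b _ hb => by simp [P, hb]) (by simp)]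
  simp [P, E, σ, mul_assoc]

open Classical in
theorem sum_regular (hM : IsPModular p M) {j : LA M G} (hj : j * j = j) {f : G → ℂ}
    (hf : IsClassFunction G f) :
    ∑ k : G, (j.coeff k : ℂ) * f k = ∑ k : G, if p ∣ orderOf k then 0 else (j.coeff k : ℂ) * f k := by
  set F : G → ℂ := fun k => if p ∣ orderOf k then f k else 0 with hF
  have hFc : ∀ k x : G, F (x⁻¹ * k * x) = F k := by
    intro k x
    have h1 : f (x⁻¹ * k * x) = f k := by simpa using hf k x⁻¹
    have h2 : orderOf (x⁻¹ * k * x) = orderOf k := by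
      rw [show x⁻¹ * k * x = MulAut.conj x⁻¹ k by simp, MulEquiv.orderOf_eq]
    simp only [hF, h1, h2]
  suffices hsum : ∑ k : G, (j.coeff k : ℂ) * F k = 0 by
    rw [← sub_eq_zero, ← Finset.sum_sub_distrib]
    refine (Finset.sum_congr rfl fun k _ => ?_).trans hsum
    simp only [hF]; split_ifs <;> simp
  have hswap : ∀ x : G, ∑ k : G, (j.coeff (x⁻¹ * k * x) : ℂ) * F k = ∑ k : G, (j.coeff k : ℂ) * F k :=
    fun x => Fintype.sum_equiv (MulAut.conj x⁻¹).toEquiv _ _ fun k => by
      simp only [MulEquiv.toEquiv_eq_coe, EquivLike.coe_coe, MulAut.conj_apply, inv_inv, hFc]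
  have h0 : ∑ x : G, ∑ k : G, (j.coeff (x⁻¹ * k * x) : ℂ) * F k = 0 := by
    rw [Finset.sum_comm]
    refine Finset.sum_eq_zero fun k _ => ?_
    rw [← Finset.sum_mul]
    by_cases hk : p ∣ orderOf k
    · rw [sum_conj_coeff_eq_zero hM hj hk, zero_mul]
    · simp [hF, hk]
  rw [Finset.sum_congr rfl fun x _ => hswap x, Finset.sum_const, Finset.card_univ, nsmul_eq_mul] at h0
  exact (mul_eq_zero.mp h0).resolve_left (Nat.cast_ne_zero.mpr Fintype.card_ne_zero)

theorem redLA_toLA (a : Zint M G) : redLA M G (toLA a) = red a :=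
  MonoidAlgebra.coeff_injective (Finsupp.ext fun g => by
    rw [coeff_redLA, coeff_red, rcoeff]
    exact congrArg (res M) (Subtype.ext (coeff_toLA a g)))

/-- An idempotent missing a block is killed by its characters. -/
theorem charLin_eq_zero_of_missing {j : LA M G} (hj : j * j = j) {b : Set (IrrCharacter G)}
    (hb : IsPBlock M b) (h : redLA M G j * ridem hb = 0) {φ : IrrCharacter G} (hφ : φ ∈ b) :
    charLin (φ : G → ℂ) (toCA M G j) = 0 := by
  classical
  set e := toLA (idem hb) with he
  have h0 : j * e = 0 := by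
    refine idem_eq_zero_of_red ?_ ?_
    · rw [mul_assoc, ← mul_assoc e j e, toLA_comm (idem hb) j, ← mul_assoc, ← mul_assoc, hj, mul_assoc,
        he, ← map_mul, idem_mul_self]
    · rw [map_mul, he, redLA_toLA]; exact h
  have h1 := congrArg (fun a => charLin (φ : G → ℂ) (toCA M G a)) h0
  simp only [map_zero, map_mul] at h1
  rw [charLin_mul_comm (CfsgLib.Char.isClassFunction_of_isIrr φ.2), he, toCA_toLA,
    charLin_mul_of_central φ.2 (Zint_center _), ← coe_zomega, zomega_idem hb, if_pos hφ] at h1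
  simpa using h1

section transfer

variable {u : G}

theorem mem_cen_zpowers {g : G} : g ∈ Cen (Subgroup.zpowers u) ↔ Commute g u := by
  rw [Cen, Subgroup.zpowers_eq_closure, Subgroup.centralizer_closure, Subgroup.mem_centralizer_singleton_iff]
  rfl

theorem isFixed_redLA {a : LA M G} (h : Commute a (MonoidAlgebra.single u 1)) :
    IsFixed (Subgroup.zpowers u) (redLA M G a) := by
  refine isFixed_iff_le_fixer.mpr (Subgroup.zpowers_le.mpr ?_)
  show cjA u (redLA M G a) = redLA M G a
  refine ext_coeff fun g => ?_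
  rw [coeff_cjA, coeff_redLA, coeff_redLA, ← (commute_single_iff a u).mp h (u⁻¹ * g * u)]
  simp [mul_assoc]

/-- The Brauer image at `u` of the reduction. -/
def phiU (u : G) (a : LA M G) : KG M G := br (Subgroup.zpowers u) (redLA M G a)

theorem phiU_mul (hM : IsPModular p M) (hu : ∃ k : ℕ, orderOf u = p ^ k) {a b : LA M G}
    (ha : Commute a (MonoidAlgebra.single u 1)) (hb : Commute b (MonoidAlgebra.single u 1)) :
    phiU u (a * b) = phiU u a * phiU u b := by
  obtain ⟨k, hk⟩ := hu
  rw [phiU, map_mul]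
  exact br_mul hM (IsPGroup.of_card (n := k) (by rw [Nat.card_zpowers, hk])) (isFixed_redLA ha)
    (isFixed_redLA hb)

theorem phiU_pow (hM : IsPModular p M) (hu : ∃ k : ℕ, orderOf u = p ^ k) {a : LA M G}
    (ha : Commute a (MonoidAlgebra.single u 1)) (n : ℕ) : phiU u (a ^ n) = phiU u a ^ n := by
  induction n with
  | zero => rw [pow_zero, pow_zero, phiU, map_one, br_one]
  | succ n ih => rw [pow_succ, phiU_mul hM hu (ha.pow_left n) ha, ih, pow_succ]

theorem phiU_sub (a b : LA M G) : phiU u (a - b) = phiU u a - phiU u b := by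
  refine ext_coeff fun g => ?_
  simp only [phiU, map_sub, coeff_br, MonoidAlgebra.coeff_sub, Finsupp.sub_apply]
  split_ifs <;> simp

variable [Fintype (Cen (Subgroup.zpowers u))]

theorem redLA_incl (j : LA M (Cen (Subgroup.zpowers u))) :
    redLA M G (incl (Cen (Subgroup.zpowers u)) j) =
      emb (Cen (Subgroup.zpowers u)) (redLA M _ j) := by
  refine ext_coeff fun g => ?_
  rw [coeff_redLA]
  by_cases hg : g ∈ Cen (Subgroup.zpowers u)
  · rw [coeff_incl_of_mem j ⟨g, hg⟩, ← coeff_redLA]
    exact (coeff_emb _ _ ⟨g, hg⟩).symm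
  · rw [coeff_incl_of_notMem j hg, map_zero, coeff_emb_of_notMem _ _ hg]

theorem commute_incl_single (j : LA M (Cen (Subgroup.zpowers u))) :
    Commute (incl (Cen (Subgroup.zpowers u)) j) (MonoidAlgebra.single u 1) := by
  refine (commute_single_iff _ u).mpr fun g => ?_
  by_cases hg : Commute g u
  · rw [← hg.eq, mul_inv_cancel_right]
  · rw [coeff_incl_of_notMem j (fun h => hg (mem_cen_zpowers.mp h)), coeff_incl_of_notMem j fun h => hg ?_]
    have h' := mem_cen_zpowers.mp h
    simpa [mul_assoc] using ((Commute.refl u).inv_left.mul_left h').mul_left (Commute.refl u)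

/-- `χ(u i) = χ(u j)` when `j` lifts the Brauer image of `i`. -/
theorem charLin_single_mul_transfer (hM : IsPModular p M) (hu : ∃ k : ℕ, orderOf u = p ^ k)
    {χ : G → ℂ} (hχ : IsClassFunction G χ) {i : LA M G} (hi : i * i = i)
    (hiu : Commute i (MonoidAlgebra.single u 1)) {j : LA M (Cen (Subgroup.zpowers u))} (hj : j * j = j)
    (hij : br (Subgroup.zpowers u) (redLA M G i) = emb (Cen (Subgroup.zpowers u)) (redLA M _ j)) :
    charLin χ (toCA M G (MonoidAlgebra.single u 1 * i)) =
      charLin χ (toCA M G (MonoidAlgebra.single u 1 * incl (Cen (Subgroup.zpowers u)) j)) := by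
  classical
  set U : LA M G := MonoidAlgebra.single u 1 with hU
  set J := incl (Cen (Subgroup.zpowers u)) j with hJdef
  have hJ : J * J = J := by rw [hJdef, ← map_mul, hj]
  have hJu : Commute J U := commute_incl_single j
  have hJred : phiU u J = phiU u i := by
    rw [phiU, phiU, hij, hJdef, redLA_incl]
    exact br_eq_self fun g hg => coeff_emb_of_notMem _ _ hg
  have hx : phiU u i * phiU u i = phiU u i := by rw [← phiU_mul hM hu hiu hiu, hi]
  have hiJi : Commute (i * J * i) U := (hiu.mul_left hJu).mul_left hiu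
  obtain ⟨e, b, hXb, hbX, hee, heb, hbe, hcom, m, hm⟩ := exists_spectral hM (i * J * i)
  obtain ⟨heU, hbU⟩ := hcom U hiJi
  have hie : i * e = e := by rw [← hXb]; simp only [← mul_assoc, hi]
  have hei : e * i = e := by rw [← hbX]; simp only [mul_assoc, hi]
  have hib : i * b = b := by rw [← heb, ← mul_assoc, hie]
  have hbi : b * i = b := by rw [← hbe, mul_assoc, hei]
  -- the Brauer images
  have hΦX : phiU u (i * J * i) = phiU u i := by
    rw [phiU_mul hM hu (hiu.mul_left hJu) hiu, phiU_mul hM hu hiu hJu, hJred, hx, hx]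
  have hΦe : phiU u e = phiU u i := by
    symm
    refine eq_of_spectral (y := phiU u b) (m := m) ?_ ?_ hx
    · rw [← hXb, phiU_mul hM hu hiJi hbU, hΦX]
    · rw [← hΦX, ← phiU_pow hM hu hiJi,
        show (1 : KG M G) - phiU u e = phiU u (1 - e) by rw [phiU_sub]; simp [phiU, br_one],
        ← phiU_mul hM hu (hiJi.pow_left m) ((Commute.one_left U).sub_left heU), phiU, hm, br_zero]
  set j₁ := J * b * J with hj₁
  have hj₁u : Commute j₁ U := (hJu.mul_left hbU).mul_left hJu
  have hbJb : b * J * b = b := by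
    calc b * J * b = (b * i) * J * (i * b) := by rw [hbi, hib]
      _ = b * (i * J * i) * b := by simp only [mul_assoc]
      _ = e * b := by rw [hbX]
      _ = b := heb
  have hj₁₁ : j₁ * j₁ = j₁ := by
    calc j₁ * j₁ = J * (b * (J * J) * b) * J := by simp only [hj₁, mul_assoc]
      _ = j₁ := by rw [hJ, hbJb]
  have hΦj : phiU u j₁ = phiU u i := by
    rw [hj₁, phiU_mul hM hu (hJu.mul_left hbU) hJu, phiU_mul hM hu hJu hbU, hJred]
    conv_lhs => arg 1; rw [← hΦX, ← phiU_mul hM hu hiJi hbU, hXb, hΦe]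
    exact hx
  have hvan : ∀ y : LA M G, Commute y U → y * y = y → phiU u y = 0 → charLin χ (toCA M G (U * y)) = 0 :=
    fun y hyu hyy h0 => charLin_single_mul_eq_zero hM hu hχ hyy hyu fun g hg => by
      have := congrArg (fun z : KG M G => z.coeff g) h0
      simpa [phiU, coeff_br, show g ∈ Subgroup.centralizer ((Subgroup.zpowers u : Subgroup G) : Set G) from
        mem_cen_zpowers.mpr hg] using this
  have h1 := hvan (i - e) (hiu.sub_left heU) (by rw [sub_mul, mul_sub, mul_sub, hi, hie, hei, hee]; abel)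
    (by rw [phiU_sub, hΦe, sub_self])
  have h2 := hvan (J - j₁) (hJu.sub_left hj₁u) (by
    have ha : J * j₁ = j₁ := by rw [hj₁]; simp only [← mul_assoc, hJ]
    have hb' : j₁ * J = j₁ := by rw [hj₁]; simp only [mul_assoc, hJ]
    rw [sub_mul, mul_sub, mul_sub, hJ, ha, hb', hj₁₁]; abel) (by rw [phiU_sub, hΦj, hJred, sub_self])
  rw [mul_sub, map_sub, map_sub, sub_eq_zero] at h1 h2
  rw [h1, h2]
  -- `e = (e J) (J b)` and `j₁ = (J b) (e J)`
  have hαβ : e * J * (J * b) = e := by
    calc e * J * (J * b) = e * (J * J) * b := by simp only [mul_assoc]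
      _ = e * (i * J * i) * b := by
          rw [hJ]
          conv_lhs => rw [← hei, ← hib]
          simp only [mul_assoc]
      _ = e := by rw [mul_assoc, hXb, hee]
  have hβα : J * b * (e * J) = j₁ := by
    calc J * b * (e * J) = J * (b * e) * J := by simp only [mul_assoc]
      _ = j₁ := by rw [hbe]
  have hβU : Commute (J * b) U := hJu.mul_left hbU
  calc charLin χ (toCA M G (U * e)) = charLin χ (toCA M G ((U * (e * J)) * (J * b))) := by
        rw [mul_assoc, hαβ]
    _ = charLin χ (toCA M G ((J * b) * (U * (e * J)))) := by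
        rw [map_mul _ (U * (e * J)), charLin_mul_comm hχ, ← map_mul]
    _ = charLin χ (toCA M G (U * (J * b * (e * J)))) := by
        rw [← mul_assoc, hβU.eq, mul_assoc]
    _ = _ := by rw [hβα]

open Classical in
/-- `χ(u j)` reads only the parts of the blocks met by `j`. -/
theorem sum_single_section (hM : IsPModular p M) {χ : G → ℂ} (hχ : IsClassFunction G χ)
    {j : LA M (Cen (Subgroup.zpowers u))} (hj : j * j = j)
    {b : Set (IrrCharacter (Cen (Subgroup.zpowers u)))} (hb : IsPBlock M b)
    (hne : ∀ (b' : Set (IrrCharacter (Cen (Subgroup.zpowers u)))) (hb' : IsPBlock M b'), b' ≠ b →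
      redLA M _ j * ridem hb' = 0) :
    charLin χ (toCA M G (MonoidAlgebra.single u 1 * incl (Cen (Subgroup.zpowers u)) j)) =
      ∑ k : Cen (Subgroup.zpowers u), if p ∣ orderOf k then 0 else
        (j.coeff k : ℂ) * blockPart b (fun c : Cen (Subgroup.zpowers u) => χ (u * c)) k := by
  have huH : u ∈ (Cen (Subgroup.zpowers u)) := mem_cen_zpowers.mpr (Commute.refl u)
  have hs : MonoidAlgebra.single u 1 * incl (Cen (Subgroup.zpowers u)) j =
      incl (Cen (Subgroup.zpowers u)) (MonoidAlgebra.single (⟨u, huH⟩ : (Cen (Subgroup.zpowers u))) 1 * j) := by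
    rw [map_mul]
    congr 1
    simp [incl, MonoidAlgebra.mapDomainRingHom, MonoidAlgebra.mapDomain_single]
  rw [hs, toCA_incl_charLin]
  rw [Fintype.sum_equiv (Equiv.mulLeft (⟨u, huH⟩ : (Cen (Subgroup.zpowers u)))⁻¹) _
    (fun k => (j.coeff k : ℂ) * χ (u * k)) fun k => by
      simp [MonoidAlgebra.coeff_single_mul_apply]]
  have hclass : IsClassFunction (Cen (Subgroup.zpowers u)) fun c : (Cen (Subgroup.zpowers u)) => χ (u * c) := by
    intro c d
    show χ (u * ((d : G) * c * (d : G)⁻¹)) = χ (u * c)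
    rw [← hχ (u * c) (d : G)]
    congr 1
    have hd := (mem_cen_zpowers.mp d.2).eq
    simp only [← mul_assoc, hd]
  have := Fintype.ofFinite {b' : Set (IrrCharacter (Cen (Subgroup.zpowers u))) // IsPBlock M b'}
  rw [Finset.sum_congr rfl fun k _ => show (j.coeff k : ℂ) * χ (u * k) =
      ∑ b' : {b' : Set (IrrCharacter (Cen (Subgroup.zpowers u))) // IsPBlock M b'},
        (j.coeff k : ℂ) * blockPart b'.1 (fun c : Cen (Subgroup.zpowers u) => χ (u * c)) k by
    rw [← Finset.mul_sum, sum_blockPart hclass k]]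
  rw [Finset.sum_comm, Finset.sum_eq_single ⟨b, hb⟩ ?_ (by simp)]
  · refine (sum_regular hM hj ?_).trans (Finset.sum_congr rfl fun k _ => ?_)
    · intro c d
      rw [blockPart_apply, blockPart_apply]
      refine Finset.sum_congr rfl fun φ _ => ?_
      rw [CfsgLib.Char.isClassFunction_of_isIrr φ.2 c d]
    · split_ifs <;> rfl
  · intro b' _ hb'
    simp only [blockPart_apply, Finset.mul_sum]
    rw [Finset.sum_comm]
    refine Finset.sum_eq_zero fun φ _ => ?_
    by_cases hφ : φ ∈ b'.1
    · simp only [if_pos hφ]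
      have h0 := charLin_eq_zero_of_missing hj b'.2 (hne _ b'.2 fun h => hb' (Subtype.ext h)) hφ
      rw [charLin_apply] at h0
      simp only [coeff_toCA] at h0
      rw [Finset.sum_congr rfl (g := fun k => classInner (fun c : (Cen (Subgroup.zpowers u)) => χ (u * c)) (φ : (Cen (Subgroup.zpowers u)) → ℂ) *
        ((j.coeff k : ℂ) * (φ : (Cen (Subgroup.zpowers u)) → ℂ) k)) fun k _ => by ring, ← Finset.mul_sum, h0, mul_zero]
    · simp [hφ]

end transfer

end CfsgLib.NilBlock
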