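import Cfsg.Agent.Lib.NilBlock.Section
import Cfsg.Agent.Lib.BrauerPairs.SubsectionCount

/-!
# The contributions of a nilpotent block add up to the identity

`sum_ctr_eq`: with `β u` the block of the pair on `⟨u⟩` below a maximal pair `(P, e)`, the scaled
contributions satisfy `∑_{u ∈ P} ctr u χ ψ = |P| δ`.
-/

set_option autoImplicit false

noncomputable section

namespace CfsgLib.NilBlock

open Cfsg CfsgLib.Blocks CfsgLib.BlockArith CfsgLib.Char CfsgLib.BrauerPairs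
open scoped ComplexConjugate

universe u

variable {M : Ideal AlgInt} [M.IsMaximal] {p : ℕ} [hp : Fact p.Prime] {G : Type u} [Group G] [Fintype G]

omit [M.IsMaximal] [Fintype G] hp in
theorem cen_zpowers (x : G) : Cen (Subgroup.zpowers x) = Subgroup.centralizer ({x} : Set G) := by
  rw [Cen, Subgroup.zpowers_eq_closure, Subgroup.centralizer_closure]

theorem exists_pow_of_mem {P : Subgroup G} (hP : IsPGroup p P) {x : G} (hx : x ∈ P) :
    ∃ k : ℕ, orderOf x = p ^ k := by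
  obtain ⟨k, hk⟩ := IsPGroup.iff_orderOf.mp hP ⟨x, hx⟩
  exact ⟨k, by rwa [Subgroup.orderOf_mk] at hk⟩

theorem isPGroup_zpowers {x : G} (hx : ∃ k : ℕ, orderOf x = p ^ k) : IsPGroup p (Subgroup.zpowers x) := by
  obtain ⟨k, hk⟩ := hx
  exact IsPGroup.of_card (n := k) (by rw [Nat.card_zpowers, hk])

omit [Fintype G] hp [M.IsMaximal] in
open Classical in
/-- A sum over the group, by `p`-parts. -/
theorem sum_by_pPart [Fintype G] [Fact p.Prime] (F : G → ℂ) :
    ∑ g : G, F g = ∑ x ∈ Finset.univ.filter (fun x : G => ∃ k : ℕ, orderOf x = p ^ k),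
      ∑ s : Cen (Subgroup.zpowers x), if p ∣ orderOf s then 0 else F (x * (s : G)) := by
  choose pp hpp using exists_isPPart (p := p) (G := G)
  have hmaps : ∀ g ∈ (Finset.univ : Finset G),
      pp g ∈ Finset.univ.filter fun x : G => ∃ k : ℕ, orderOf x = p ^ k := fun g _ => by
    obtain ⟨y, -, -, h, -⟩ := hpp g
    exact Finset.mem_filter.mpr ⟨Finset.mem_univ _, h⟩
  rw [← Finset.sum_fiberwise_of_maps_to (M := ℂ) hmaps F]
  refine Finset.sum_congr rfl fun x hx => ?_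
  have hx' := (Finset.mem_filter.mp hx).2
  rw [Finset.sum_ite, Finset.sum_const_zero, zero_add]
  symm
  refine Finset.sum_bij (fun s _ => x * (s : G)) (fun s hs => ?_) (fun a _ b _ h => ?_) (fun g hg => ?_)
    (fun s _ => rfl)
  · refine Finset.mem_filter.mpr ⟨Finset.mem_univ _, isPPart_unique (hpp _) (isPPart_mul ?_ hx' ?_)⟩
    · exact (Subgroup.mem_centralizer_iff.mp s.2 x (Subgroup.mem_zpowers x))
    · rw [Subgroup.orderOf_coe]; exact (Finset.mem_filter.mp hs).2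
  · exact Subtype.ext (mul_left_cancel h)
  · obtain ⟨y, hy, hcomm, -, hyr⟩ := hpp g
    rw [(Finset.mem_filter.mp hg).2] at hy hcomm
    refine ⟨⟨y, ?_⟩, Finset.mem_filter.mpr ⟨Finset.mem_univ _, by rwa [Subgroup.orderOf_mk]⟩, hy⟩
    rw [cen_zpowers]
    exact Subgroup.mem_centralizer_singleton_iff.mpr hcomm.eq.symm

theorem regSum_blockPart_ne {H : Type*} [Group H] [Fintype H] (hM : IsPModular p M)
    {b b' : Set (IrrCharacter H)} (hb : IsPBlock M b) (hb' : IsPBlock M b') (hne : b ≠ b') (f h : H → ℂ) :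
    regSum p (blockPart b f) (blockPart b' h) = 0 := by
  classical
  rw [regSum_eq]
  have hterm : ∀ s : H, (if p ∣ orderOf s then 0 else blockPart b f s * conj (blockPart b' h s)) =
      ∑ χ : IrrCharacter H, ∑ ψ : IrrCharacter H, (if χ ∈ b ∧ ψ ∈ b' then
        classInner f (χ : H → ℂ) * conj (classInner h (ψ : H → ℂ)) *
          (if p ∣ orderOf s then 0 else (χ : H → ℂ) s * conj ((ψ : H → ℂ) s)) else 0) := by
    intro s
    split_ifs with hs
    · exact (Finset.sum_eq_zero fun χ _ => Finset.sum_eq_zero fun ψ _ => by simp).symm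
    · rw [blockPart_apply, blockPart_apply, map_sum, Finset.sum_mul_sum]
      refine Finset.sum_congr rfl fun χ _ => Finset.sum_congr rfl fun ψ _ => ?_
      by_cases h1 : χ ∈ b <;> by_cases h2 : ψ ∈ b' <;> simp [h1, h2] <;> ring
  simp only [hterm]
  rw [Finset.sum_comm]
  refine Finset.sum_eq_zero fun χ _ => ?_
  rw [Finset.sum_comm]
  refine Finset.sum_eq_zero fun ψ _ => ?_
  by_cases hc : χ ∈ b ∧ ψ ∈ b'
  · simp only [if_pos hc]
    rw [← Finset.mul_sum, regular_orthogonality hM, mul_zero]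
    intro hs
    exact hne (isPBlock_eq_of_mem hb hb' hc.1 (mem_of_bomega_eq hb' hc.2 ((sameBlock_iff χ ψ).mp hs).symm))
  · simp [hc]

open Classical in
/-- The rows of the scaled contributions. -/
theorem sum_ctr_eq (hM : IsPModular p M) {B : Set (IrrCharacter G)} {P : Subgroup G}
    {e : Set (IrrCharacter (Cen P))} (hmax : IsMaximalBrauerPair p M B P e)
    (hnil : IsNilpotentBlock p M B) (β : (u : P) → Set (IrrCharacter (Cen (Subgroup.zpowers (u : G)))))
    (hβ : ∀ u : P, SubpairLE p M (Subgroup.zpowers (u : G)) (β u) P e)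
    (hd : ∀ u : P, p ^ blockDefect p (β u) =
      Nat.card (P ⊓ Cen (Subgroup.zpowers (u : G)) : Subgroup G))
    {χ ψ : IrrCharacter G} (hχ : χ ∈ B) (hψ : ψ ∈ B) :
    ∑ u : P, ctr p (u : G) (Cen (Subgroup.zpowers (u : G))) (β u) χ ψ =
      (Nat.card P : ℂ) * if χ = ψ then 1 else 0 := by
  have hP := hmax.1.1
  have hB := hmax.1.2.1
  have : Finite (BrauerPairIdx G) := inferInstance
  have := Fintype.ofFinite (BrauerPairIdx G)
  let T : Finset (Σ _ : G, BrauerPairIdx G) := Finset.univ.filter fun t =>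
    (∃ k : ℕ, orderOf t.1 = p ^ k) ∧ t.2.1 = Subgroup.zpowers t.1 ∧ IsBrauerPairOf p M B t.2.1 t.2.2
  let W : (Σ _ : G, BrauerPairIdx G) → ℂ := fun t => ctr p t.1 (Cen t.2.1) t.2.2 χ ψ
  let R : (Σ _ : G, BrauerPairIdx G) → ℂ := fun t =>
    regSum p (secH t.1 (Cen t.2.1) t.2.2 χ) (secH t.1 (Cen t.2.1) t.2.2 ψ)
  -- the group sum over subsections
  have hsum : ∑ t ∈ T, R t = (Nat.card G : ℂ) * if χ = ψ then 1 else 0 := by
    have hG : (Nat.card G : ℂ) * (if χ = ψ then 1 else 0) = ∑ g : G, (χ : G → ℂ) g * conj ((ψ : G → ℂ) g) := by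
      have hN : (Nat.card G : ℂ) ≠ 0 := card_ne_zero'
      split_ifs with h
      · subst h
        rw [← classInner_irr_self χ.2, classInner, ← mul_assoc, mul_inv_cancel₀ hN, one_mul]
      · rw [← classInner_irr_ne χ.2 ψ.2 (fun h' => h (Subtype.ext h')), classInner, ← mul_assoc,
          mul_inv_cancel₀ hN, one_mul]
    rw [hG, sum_by_pPart (p := p)]
    rw [show T = (Finset.univ.filter fun x : G => ∃ k : ℕ, orderOf x = p ^ k).sigma fun x =>
        Finset.univ.filter fun a : BrauerPairIdx G => a.1 = Subgroup.zpowers x ∧ IsBrauerPairOf p M B a.1 a.2 by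
      ext ⟨x, a⟩
      simp [T], Finset.sum_sigma]
    refine Finset.sum_congr rfl fun x hx => ?_
    have hx' := (Finset.mem_filter.mp hx).2
    have hH := cen_zpowers x
    have := Fintype.ofFinite {b : Set (IrrCharacter (Cen (Subgroup.zpowers x))) // IsPBlock M b}
    have hdec : ∀ η : IrrCharacter G, η ∈ B → ∀ s : Cen (Subgroup.zpowers x), ¬ p ∣ orderOf s →
        (η : G → ℂ) (x * (s : G)) = ∑ b ∈ (Finset.univ.filter fun b : {b : Set (IrrCharacter
          (Cen (Subgroup.zpowers x))) // IsPBlock M b} => IsInducedBlock M (Cen (Subgroup.zpowers x)) b.1 B),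
            secH x (Cen (Subgroup.zpowers x)) b.1 η s := fun η hη s hs => by
      rw [Finset.sum_filter]
      exact (sum_inducingH hH hM hx' hB η hη hs).symm
    rw [Finset.sum_congr rfl (g := fun s : Cen (Subgroup.zpowers x) => if p ∣ orderOf s then 0 else
        ∑ b ∈ (Finset.univ.filter fun b : {b : Set (IrrCharacter (Cen (Subgroup.zpowers x))) // IsPBlock M b} =>
          IsInducedBlock M (Cen (Subgroup.zpowers x)) b.1 B),
          ∑ b' ∈ (Finset.univ.filter fun b : {b : Set (IrrCharacter (Cen (Subgroup.zpowers x))) // IsPBlock M b} =>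
            IsInducedBlock M (Cen (Subgroup.zpowers x)) b.1 B),
            secH x (Cen (Subgroup.zpowers x)) b.1 χ s * conj (secH x (Cen (Subgroup.zpowers x)) b'.1 ψ s))
      fun s _ => by
        split_ifs with hs
        · rfl
        · rw [hdec χ hχ s hs, hdec ψ hψ s hs, map_sum, Finset.sum_mul_sum]]
    have hsw : ∀ (b b' : {b : Set (IrrCharacter (Cen (Subgroup.zpowers x))) // IsPBlock M b}),
        regSum p (secH x (Cen (Subgroup.zpowers x)) b.1 χ) (secH x (Cen (Subgroup.zpowers x)) b'.1 ψ) =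
          ∑ s : Cen (Subgroup.zpowers x), if p ∣ orderOf s then 0 else
            secH x (Cen (Subgroup.zpowers x)) b.1 χ s * conj (secH x (Cen (Subgroup.zpowers x)) b'.1 ψ s) :=
      fun b b' => regSum_eq _ _ _
    calc _ = ∑ b ∈ (Finset.univ.filter fun b : {b : Set (IrrCharacter (Cen (Subgroup.zpowers x))) //
            IsPBlock M b} => IsInducedBlock M (Cen (Subgroup.zpowers x)) b.1 B),
          regSum p (secH x (Cen (Subgroup.zpowers x)) b.1 χ) (secH x (Cen (Subgroup.zpowers x)) b.1 ψ) := ?_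
      _ = _ := ?_
    · refine (Finset.sum_bij (fun b _ => (⟨Subgroup.zpowers x, b.1⟩ : BrauerPairIdx G)) (fun b hb => ?_)
        (fun b _ b' _ h => Subtype.ext (eq_of_heq (Sigma.mk.injEq .. ▸ h).2)) ?_ (fun b _ => rfl)).symm
      · refine Finset.mem_filter.mpr ⟨Finset.mem_univ _, rfl, ?_⟩
        exact (brauerPairOf_iff_induced hM (isPGroup_zpowers hx') b.2 hB).mpr (Finset.mem_filter.mp hb).2
      · rintro ⟨Q, f⟩ hf
        obtain ⟨-, hQ, hf'⟩ := Finset.mem_filter.mp hf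
        obtain rfl : Q = Subgroup.zpowers x := hQ
        exact ⟨⟨f, hf'.1.2⟩, Finset.mem_filter.mpr ⟨Finset.mem_univ _,
          (brauerPairOf_iff_induced hM (isPGroup_zpowers hx') hf'.1.2 hB).mp hf'⟩, rfl⟩
    · symm
      rw [← Finset.sum_congr rfl (fun s _ => by
        show (∑ b ∈ (Finset.univ.filter fun b : {b : Set (IrrCharacter (Cen (Subgroup.zpowers x))) //
            IsPBlock M b} => IsInducedBlock M (Cen (Subgroup.zpowers x)) b.1 B),
          ∑ b' ∈ (Finset.univ.filter fun b : {b : Set (IrrCharacter (Cen (Subgroup.zpowers x))) //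
            IsPBlock M b} => IsInducedBlock M (Cen (Subgroup.zpowers x)) b.1 B), if p ∣ orderOf s then 0 else
            secH x (Cen (Subgroup.zpowers x)) b.1 χ s * conj (secH x (Cen (Subgroup.zpowers x)) b'.1 ψ s)) = _
        split_ifs <;> simp), Finset.sum_comm]
      refine Finset.sum_congr rfl fun b hb => ?_
      rw [Finset.sum_comm]
      simp only [← hsw]
      exact Finset.sum_eq_single b (fun b' _ hne =>
        regSum_blockPart_ne hM b.2 b'.2 (fun h => hne (Subtype.ext h.symm)) _ _) (fun h => absurd hb h)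
  -- the subsections come from `P`
  let a : P → BrauerPairIdx G := fun u => ⟨Subgroup.zpowers (u : G), β u⟩
  let Φ : G × P → Σ _ : G, BrauerPairIdx G := fun q => ⟨q.1 * (q.2 : G) * q.1⁻¹, cjPair q.1 (a q.2)⟩
  have hpair : ∀ u : P, IsBrauerPairOf p M B (a u).1 (a u).2 := fun u =>
    (brauerPairOf_iff_of_subpair hM (b := ⟨P, e⟩) (hβ u)).mp hmax.1
  have hΦT : ∀ q : G × P, Φ q ∈ T := fun q => by
    refine Finset.mem_filter.mpr ⟨Finset.mem_univ _, ?_, ?_, brauerPairOf_cjPair hM _ (hpair q.2)⟩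
    · obtain ⟨k, hk⟩ := exists_pow_of_mem hP.1 q.2.2
      exact ⟨k, by
        show orderOf (q.1 * (q.2 : G) * q.1⁻¹) = _
        rw [← (SemiconjBy.conj_mk q.1 (q.2 : G)).orderOf_eq, hk]⟩
    · show (Subgroup.zpowers (q.2 : G)).map (MulAut.conj q.1).toMonoidHom = _
      exact map_conj_zpowers _ _
  have hWΦ : ∀ q : G × P, W (Φ q) = ctr p (q.2 : G) (Cen (Subgroup.zpowers (q.2 : G))) (β q.2) χ ψ := by
    rintro ⟨g, u⟩
    show ctr p (g * (u : G) * g⁻¹) _ (conjBlock (Subgroup.zpowers (u : G)) g (β u)) χ ψ = _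
    rw [conjBlock_eq_tblock]
    exact ctr_tblock g (u : G) _ (fun c => rfl) _ χ ψ
  have hfib : ∀ t ∈ T, ((Finset.univ.filter fun q => Φ q = t).card : ℂ) *
      ((p ^ blockDefect p t.2.2 : ℕ) : ℂ) = (Nat.card P : ℂ) * (Nat.card (Cen t.2.1) : ℂ) := by
    intro t ht
    obtain ⟨-, -, htQ, htB⟩ := Finset.mem_filter.mp ht
    obtain ⟨g₁, hg₁⟩ := exists_conj_le_maximal hM (a := t.2) (b := ⟨P, e⟩) hmax htB
    have hmem : g₁ * t.1 * g₁⁻¹ ∈ P := subgroup_le hg₁ (by
      show g₁ * t.1 * g₁⁻¹ ∈ t.2.1.map (MulAut.conj g₁).toMonoidHom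
      rw [htQ, map_conj_zpowers]
      exact Subgroup.mem_zpowers _)
    set u₀ : P := ⟨g₁ * t.1 * g₁⁻¹, hmem⟩ with hu₀
    have ha₀ : cjPair g₁ t.2 = a u₀ := pair_eq_of_le hM hP hg₁ (hβ u₀) (by
      show t.2.1.map (MulAut.conj g₁).toMonoidHom = _
      rw [htQ]; exact map_conj_zpowers _ _)
    set g₀ := g₁⁻¹ with hg₀
    have ht₀ : Φ (g₀, u₀) = t := by
      refine Sigma.ext ?_ (heq_of_eq ?_)
      · show g₀ * (g₁ * t.1 * g₁⁻¹) * g₀⁻¹ = t.1
        simp [hg₀, mul_assoc]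
      · show cjPair g₀ (a u₀) = t.2
        rw [← ha₀, cjPair_cjPair _ _ htB.1, hg₀, inv_mul_cancel, cjPair_one htB.1]
    -- `Φ (g₀ c v⁻¹, v u₀ v⁻¹) = t`
    set C₀ := Cen (Subgroup.zpowers (u₀ : G)) with hC₀
    have hv : ∀ (v : P), a (⟨(v : G) * u₀ * (v : G)⁻¹, P.mul_mem (P.mul_mem v.2 u₀.2) (P.inv_mem v.2)⟩) =
        cjPair (v : G) (a u₀) := fun v => by
      refine pair_eq_of_le hM hP (hβ _) ?_ ?_
      · have h1 := subpair_cjPair hM (v : G) (a := a u₀) (b := ⟨P, e⟩) (hβ u₀)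
        rwa [cjPair_eq_self_of_mem_stab hP (le_stab e v.2)] at h1
      · exact (map_conj_zpowers _ _).symm
    have hΦv : ∀ (v : P) (c : C₀), Φ (g₀ * (c : G) * (v : G)⁻¹,
        ⟨(v : G) * u₀ * (v : G)⁻¹, P.mul_mem (P.mul_mem v.2 u₀.2) (P.inv_mem v.2)⟩) = t := by
      intro v c
      refine Eq.trans ?_ ht₀
      have hcu : (c : G) * u₀ = u₀ * c := (Subgroup.mem_centralizer_iff.mp c.2 _ (Subgroup.mem_zpowers _)).symm
      refine Sigma.ext ?_ (heq_of_eq ?_)
      · show g₀ * (c : G) * (v : G)⁻¹ * ((v : G) * u₀ * (v : G)⁻¹) * (g₀ * (c : G) * (v : G)⁻¹)⁻¹ =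
          g₀ * u₀ * g₀⁻¹
        calc _ = g₀ * ((c : G) * u₀) * (c : G)⁻¹ * g₀⁻¹ := by group
          _ = _ := by rw [hcu]; group
      · show cjPair _ (a _) = cjPair g₀ (a u₀)
        rw [hv, cjPair_cjPair _ _ (hpair u₀).1, inv_mul_cancel_right, ← cjPair_cjPair _ _ (hpair u₀).1,
          cjPair_eq_self_of_mem_stab (Q := (a u₀).1) (f := (a u₀).2) (hpair u₀).1 (cen_le_stab _ c.2)]
    set S := Finset.univ.filter fun q => Φ q = t with hS
    have hex : ∀ q : S, ∃ v : P, (v : G) * u₀ * (v : G)⁻¹ = (q.1.2 : G) ∧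
        g₀⁻¹ * q.1.1 * (v : G) ∈ C₀ := by
      rintro ⟨⟨g, u⟩, hq⟩
      have hq' : Φ (g, u) = Φ (g₀, u₀) := (Finset.mem_filter.mp hq).2.trans ht₀.symm
      have e1 : g * (u : G) * g⁻¹ = g₀ * u₀ * g₀⁻¹ := congrArg Sigma.fst hq'
      have e2 : cjPair g (a u) = cjPair g₀ (a u₀) := eq_of_heq (Sigma.mk.injEq .. ▸ hq').2
      have h3 : cjPair (g₀⁻¹ * g) (a u) = a u₀ := by
        rw [← cjPair_cjPair _ _ (hpair u).1, e2, cjPair_cjPair _ _ (hpair u₀).1, inv_mul_cancel,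
          cjPair_one (hpair u₀).1]
      have h4 : g₀⁻¹ * g * (u : G) * (g₀⁻¹ * g)⁻¹ = u₀ := by
        calc _ = g₀⁻¹ * (g * (u : G) * g⁻¹) * g₀ := by group
          _ = _ := by rw [e1]; group
      obtain ⟨v, hv', hvq⟩ := exists_inner_of_nilpotent hM hmax hnil (a u).1 (a u).2 (hβ u) (g₀⁻¹ * g)
        (by
          show Relation.ReflTransGen _ (cjPair (g₀⁻¹ * g) (a u)) _
          rw [h3]; exact hβ u₀)
      have h5 := hvq (u : G) (Subgroup.mem_zpowers _)
      rw [h4] at h5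
      refine ⟨⟨v⁻¹, P.inv_mem hv'⟩, ?_, ?_⟩
      · show v⁻¹ * (u₀ : G) * v⁻¹⁻¹ = (u : G)
        rw [h5]; group
      · show g₀⁻¹ * g * v⁻¹ ∈ _
        show g₀⁻¹ * g * v⁻¹ ∈ Cen (Subgroup.zpowers (u₀ : G))
        rw [cen_zpowers]
        refine Subgroup.mem_centralizer_singleton_iff.mpr ?_
        calc g₀⁻¹ * g * v⁻¹ * (u₀ : G) = g₀⁻¹ * g * (u : G) * v⁻¹ := by rw [h5]; group
          _ = g₀⁻¹ * g * (u : G) * (g₀⁻¹ * g)⁻¹ * (g₀⁻¹ * g * v⁻¹) := by group
          _ = _ := by rw [h4]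
    choose vf hvf1 hvf2 using hex
    have hKcard : p ^ blockDefect p t.2.2 = Nat.card (P ⊓ C₀ : Subgroup G) := by
      rw [← hd u₀, show blockDefect p t.2.2 = blockDefect p (β u₀) from ?_]
      have h1 : blockDefect p (a u₀).2 = blockDefect p t.2.2 := by
        rw [← ha₀]
        show blockDefect p (conjBlock t.2.1 g₁ t.2.2) = _
        rw [conjBlock_eq_tblock, blockDefect_tblock]
      exact h1.symm
    have hCcard : Nat.card (Cen t.2.1) = Nat.card C₀ := by
      have h1 : C₀ = Cen ((cjPair g₁ t.2).1) := by rw [ha₀]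
      rw [h1]
      exact Nat.card_congr (conjEquiv g₁ (Cen t.2.1) _ (fun y => by
        rw [cjPair_fst]; exact mem_centralizer_map_conj)).toEquiv
    rw [hKcard, hCcard, ← Nat.cast_mul, ← Nat.cast_mul, Nat.cast_inj,
      ← Nat.card_eq_finsetCard, ← Nat.card_prod, ← Nat.card_prod]
    have hK : ∀ z : (P ⊓ C₀ : Subgroup G), (z : G) * u₀ = u₀ * z := fun z =>
      (Subgroup.mem_centralizer_iff.mp z.2.2 _ (Subgroup.mem_zpowers _)).symm
    refine Nat.card_congr
      { toFun := fun qz => (⟨(vf qz.1 : G) * qz.2, P.mul_mem (vf qz.1).2 qz.2.2.1⟩,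
          ⟨g₀⁻¹ * qz.1.1.1 * (vf qz.1 : G) * qz.2, mul_mem (hvf2 qz.1) qz.2.2.2⟩)
        invFun := fun vc =>
          let q : S := ⟨_, Finset.mem_filter.mpr ⟨Finset.mem_univ _, hΦv vc.1 vc.2⟩⟩
          (q, ⟨(vf q : G)⁻¹ * vc.1, P.mul_mem (P.inv_mem (vf q).2) vc.1.2, by
            show (vf q : G)⁻¹ * vc.1 ∈ Cen (Subgroup.zpowers (u₀ : G))
            rw [cen_zpowers]
            refine Subgroup.mem_centralizer_singleton_iff.mpr ?_
            have h1 : (vf q : G) * u₀ * (vf q : G)⁻¹ = (vc.1 : G) * u₀ * (vc.1 : G)⁻¹ := hvf1 q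
            calc (vf q : G)⁻¹ * vc.1 * u₀ = (vf q : G)⁻¹ * ((vc.1 : G) * u₀ * (vc.1 : G)⁻¹) * vc.1 := by group
              _ = _ := by rw [← h1]; group⟩)
        left_inv := ?_
        right_inv := ?_ }
    · rintro ⟨⟨⟨g, u⟩, hq⟩, z⟩
      have hu : (vf ⟨⟨g, u⟩, hq⟩ : G) * u₀ * (vf ⟨⟨g, u⟩, hq⟩ : G)⁻¹ = (u : G) := hvf1 ⟨⟨g, u⟩, hq⟩
      have e1 : (⟨_, Finset.mem_filter.mpr ⟨Finset.mem_univ _, hΦv
          ⟨(vf ⟨⟨g, u⟩, hq⟩ : G) * z, P.mul_mem (vf ⟨⟨g, u⟩, hq⟩).2 z.2.1⟩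
          ⟨g₀⁻¹ * g * (vf ⟨⟨g, u⟩, hq⟩ : G) * z, mul_mem (hvf2 ⟨⟨g, u⟩, hq⟩) z.2.2⟩⟩⟩ : S) = ⟨⟨g, u⟩, hq⟩ := by
        refine Subtype.ext (Prod.ext ?_ (Subtype.ext ?_))
        · show g₀ * (g₀⁻¹ * g * _ * (z : G)) * (_ * (z : G))⁻¹ = g
          group
        · show (_ * (z : G)) * u₀ * (_ * (z : G))⁻¹ = (u : G)
          calc _ = (vf ⟨⟨g, u⟩, hq⟩ : G) * ((z : G) * u₀) * (z : G)⁻¹ * (vf ⟨⟨g, u⟩, hq⟩ : G)⁻¹ := by group
            _ = (vf ⟨⟨g, u⟩, hq⟩ : G) * u₀ * (vf ⟨⟨g, u⟩, hq⟩ : G)⁻¹ := by rw [hK z]; group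
            _ = _ := hu
      refine Prod.ext e1 (Subtype.ext ?_)
      show (vf _ : G)⁻¹ * ((vf ⟨⟨g, u⟩, hq⟩ : G) * (z : G)) = (z : G)
      rw [e1, inv_mul_cancel_left]
    · rintro ⟨v, c⟩
      refine Prod.ext (Subtype.ext ?_) (Subtype.ext ?_)
      · show (vf _ : G) * ((vf _ : G)⁻¹ * v) = v
        rw [mul_inv_cancel_left]
      · show g₀⁻¹ * (g₀ * (c : G) * (v : G)⁻¹) * (vf _ : G) * ((vf _ : G)⁻¹ * v) = c
        group
  -- conclusion
  have hG0 : (Nat.card G : ℂ) ≠ 0 := card_ne_zero'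
  refine mul_left_cancel₀ hG0 ?_
  calc (Nat.card G : ℂ) * ∑ u : P, ctr p (u : G) (Cen (Subgroup.zpowers (u : G))) (β u) χ ψ
      = ∑ q : G × P, W (Φ q) := by
        simp only [hWΦ, Fintype.sum_prod_type, Finset.sum_const, Finset.card_univ, nsmul_eq_mul,
          Nat.card_eq_fintype_card]
    _ = ∑ t ∈ T, ((Finset.univ.filter fun q => Φ q = t).card : ℂ) * W t := by
        rw [← Finset.sum_fiberwise_of_maps_to (t := T) (g := Φ) (fun q _ => hΦT q)]
        refine Finset.sum_congr rfl fun t _ => ?_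
        rw [Finset.sum_congr rfl (g := fun _ => W t) fun q hq => by rw [(Finset.mem_filter.mp hq).2],
          Finset.sum_const, nsmul_eq_mul]
    _ = ∑ t ∈ T, (Nat.card P : ℂ) * R t := by
        refine Finset.sum_congr rfl fun t ht => ?_
        have h1 := hfib t ht
        have h2 := ctr_def_regSum (p := p) (x := t.1) (H := Cen t.2.1) (b := t.2.2) χ ψ
        have h3 : ((p ^ blockDefect p t.2.2 : ℕ) : ℂ) ≠ 0 :=
          Nat.cast_ne_zero.mpr (pow_ne_zero _ hp.out.ne_zero)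
        refine mul_left_cancel₀ h3 ?_
        show _ * (_ * ctr p t.1 _ t.2.2 χ ψ) = _ * ((Nat.card P : ℂ) * regSum p _ _)
        linear_combination (ctr p t.1 (Cen t.2.1) t.2.2 χ ψ) * h1 - (Nat.card P : ℂ) * h2
    _ = _ := by rw [← Finset.mul_sum, hsum]; ring

end CfsgLib.NilBlock
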