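import Cfsg.Agent.Lib.Blocks.CharMod
import Cfsg.Agent.Lib.Blocks.Annihilate
import Cfsg.Agent.Lib.Blocks.SimpleTrace
import Mathlib.Algebra.Polynomial.BigOperators

/-!
# Local integral combinations of characters

* `pairingRing`: the functions pairing with every character to a local integer form a ring;
* `inv_mem_pairingRing`: a member with unit values is invertible in it;
* `isCharacter_idem`: `u ↦ χ(u i)` is a character of a subgroup commuting with the idempotent `i`.
-/

set_option autoImplicit false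

noncomputable section

namespace CfsgLib.NilBlock

open Cfsg CfsgLib.Blocks CfsgLib.Char Polynomial
open scoped ComplexConjugate

variable (M : Ideal AlgInt) [M.IsMaximal] (P : Type*) [Group P] [Fintype P]

/-- Class functions with local integral pairings against the characters. -/
def pairingRing : Subring (P → ℂ) where
  carrier := {f | IsClassFunction P f ∧
    ∀ θ : P → ℂ, IsCharacter P θ → (Nat.card P : ℂ)⁻¹ * ∑ u, f u * θ u ∈ locRing M}
  zero_mem' := ⟨fun _ _ => rfl, fun θ _ => by simp⟩
  one_mem' := ⟨fun _ _ => rfl, fun θ hθ => by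
    obtain ⟨m, hm⟩ := classInner_char_nat hθ (isCharacter_one (G := P))
    rw [show ((Nat.card P : ℂ)⁻¹ * ∑ u, (1 : P → ℂ) u * θ u) = classInner θ (fun _ => 1) by
      simp [classInner], hm]
    exact natCast_mem _ m⟩
  add_mem' := fun {f g} hf hg => ⟨fun a b => by simp [hf.1 a b, hg.1 a b], fun θ hθ => by
    simp only [Pi.add_apply, add_mul, Finset.sum_add_distrib, mul_add]
    exact Subring.add_mem _ (hf.2 θ hθ) (hg.2 θ hθ)⟩
  neg_mem' := fun {f} hf => ⟨fun a b => by simp [hf.1 a b], fun θ hθ => by
    simp only [Pi.neg_apply, neg_mul, Finset.sum_neg_distrib, mul_neg]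
    exact Subring.neg_mem _ (hf.2 θ hθ)⟩
  mul_mem' := fun {f g} hf hg => ⟨fun a b => by simp [hf.1 a b, hg.1 a b], fun θ hθ => by
    classical
    have hexp : ∀ u, f u * g u * θ u = ∑ μ : IrrCharacter P,
        classInner g (μ : P → ℂ) * (f u * ((μ : P → ℂ) u * θ u)) := fun u => by
      have h := congrFun (classFun_eq_sum hg.1) u
      simp only [Finset.sum_apply, Pi.smul_apply, smul_eq_mul] at h
      conv_lhs => rw [h, Finset.mul_sum, Finset.sum_mul]
      exact Finset.sum_congr rfl fun μ _ => by ring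
    simp only [Pi.mul_apply, hexp]
    rw [Finset.sum_comm, Finset.mul_sum]
    refine Subring.sum_mem _ fun μ _ => ?_
    rw [← Finset.mul_sum, mul_left_comm]
    refine Subring.mul_mem _ ?_ (hf.2 _ (isCharacter_mul (isCharacter_of_isIrr μ.2) hθ))
    rw [classInner_def]
    exact hg.2 _ (isCharacter_conj (isCharacter_of_isIrr μ.2))⟩

variable {M P}

theorem char_mem_pairingRing {θ : P → ℂ} (hθ : IsCharacter P θ) : θ ∈ pairingRing M P := by
  refine ⟨isClassFunction_of_isCharacter hθ, fun η hη => ?_⟩
  obtain ⟨m, hm⟩ := classInner_char_nat hθ (isCharacter_conj hη)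
  rw [classInner_def] at hm
  simp only [Complex.conj_conj] at hm
  rw [hm]
  exact natCast_mem _ m

/-- The constants. -/
def constHom (M : Ideal AlgInt) [M.IsMaximal] (P : Type*) [Group P] [Fintype P] : locRing M →+* (P → ℂ) :=
  (Pi.constRingHom P ℂ).comp (locRing M).subtype

theorem const_mem_pairingRing (c : locRing M) : constHom M P c ∈ pairingRing M P := by
  refine ⟨fun _ _ => rfl, fun θ hθ => ?_⟩
  have h := (pairingRing M P).one_mem.2 θ hθ
  simp only [Pi.one_apply, one_mul] at h
  show (Nat.card P : ℂ)⁻¹ * ∑ u, (c : ℂ) * θ u ∈ locRing M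
  rw [← Finset.mul_sum, mul_left_comm]
  exact Subring.mul_mem _ c.2 h

/-- A member with unit values is invertible. -/
theorem inv_mem_pairingRing {f : P → ℂ} (hf : f ∈ pairingRing M P)
    (hu : ∀ u, ∃ h : f u ∈ locRing M, res M ⟨f u, h⟩ ≠ 0) :
    (fun u => (f u)⁻¹) ∈ pairingRing M P := by
  classical
  choose hm hne using hu
  set q : (locRing M)[X] := ∏ u : P, (X - C ⟨f u, hm u⟩) with hq
  have hc : IsUnit (q.coeff 0) := by
    rw [isUnit_iff_res_ne_zero, coeff_zero_eq_eval_zero, hq, eval_prod, map_prod, Finset.prod_ne_zero_iff]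
    intro u _
    simp only [eval_sub, eval_X, eval_C, zero_sub, map_neg, neg_ne_zero]
    exact hne u
  obtain ⟨c', hc'⟩ := hc.exists_right_inv
  have hmem : ∀ r : (locRing M)[X], r.eval₂ (constHom M P) f ∈ pairingRing M P := by
    intro r
    induction r using Polynomial.induction_on with
    | C c => rw [eval₂_C]; exact const_mem_pairingRing c
    | add a b ha hb => rw [eval₂_add]; exact Subring.add_mem _ ha hb
    | monomial n c _ =>
      rw [eval₂_mul, eval₂_C, eval₂_X_pow]
      exact Subring.mul_mem _ (const_mem_pairingRing c) (Subring.pow_mem _ hf _)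
  have heval : ∀ (r : (locRing M)[X]) (u : P), r.eval₂ (constHom M P) f u = r.eval₂ (locRing M).subtype (f u) :=
    fun r u => hom_eval₂ r (constHom M P) (Pi.evalRingHom (fun _ : P => ℂ) u) f
  suffices h : (fun u => (f u)⁻¹) = (-C c' * q.divX).eval₂ (constHom M P) f by rw [h]; exact hmem _
  funext u
  rw [heval]
  have hfu : f u ≠ 0 := fun h0 => hne u (by
    rw [show (⟨f u, hm u⟩ : locRing M) = 0 from Subtype.ext h0, map_zero])
  have hzero : q.eval₂ (locRing M).subtype (f u) = 0 := by
    rw [hq, eval₂_finsetProd]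
    exact Finset.prod_eq_zero (Finset.mem_univ u) (by simp)
  rw [← X_mul_divX_add q] at hzero
  simp only [eval₂_add, eval₂_mul, eval₂_X, eval₂_C] at hzero
  simp only [eval₂_mul, eval₂_neg, eval₂_C]
  have hcc : ((q.coeff 0 : locRing M) : ℂ) * (c' : ℂ) = 1 := congrArg Subtype.val hc'
  refine (eq_inv_of_mul_eq_one_right ?_).symm
  change (f u) * (-(c' : ℂ) * _) = 1
  change f u * _ + (q.coeff 0 : ℂ) = 0 at hzero
  linear_combination (-(c' : ℂ)) * hzero + hcc

theorem res_eq_res_one {p : ℕ} (hM : IsPModular p M) (hP : IsPGroup p P) {θ : P → ℂ}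
    (hθ : IsCharacter P θ) (u : P) :
    res M (cvalR M hθ u) = res M (cvalR M hθ 1) := by
  obtain ⟨k, hk⟩ := hP u
  simpa using res_cvalR_mul hM hθ (Commute.one_right u) hk

variable {G : Type*} [Group G] [Fintype G]

/-- `u ↦ χ(u i)` for an idempotent `i` commuting with the subgroup. -/
theorem isCharacter_idem {χ : G → ℂ} (hχ : IsCharacter G χ) {S : Subgroup G} {i : CA G} (hi : i * i = i)
    (hS : ∀ u ∈ S, Commute i (MonoidAlgebra.single u 1)) :
    IsCharacter S (fun u : S => charLin χ (MonoidAlgebra.single (u : G) 1 * i)) := by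
  obtain ⟨n, ρ, rfl⟩ := hχ
  set π := ρ.asAlgebraHom i
  have hπ : π * π = π := by rw [← map_mul, hi]
  have hcomm : ∀ (u : S) (x : Fin n → ℂ), π (ρ (u : G) x) = ρ (u : G) (π x) := fun u x => by
    have h := congrArg ρ.asAlgebraHom (hS u u.2).eq
    rw [map_mul, map_mul, Representation.asAlgebraHom_single_one] at h
    exact LinearMap.congr_fun h x
  have hinv : ∀ (u : S), ∀ x ∈ LinearMap.range π, ρ (u : G) x ∈ LinearMap.range π := by
    rintro u _ ⟨x, rfl⟩
    exact ⟨ρ (u : G) x, hcomm u x⟩
  let σ : Representation ℂ S (LinearMap.range π) :=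
    { toFun := fun u => (ρ (u : G)).restrict (hinv u)
      map_one' := LinearMap.ext fun x => Subtype.ext (by
        show ρ ((1 : S) : G) x = x
        simp)
      map_mul' := fun a b => LinearMap.ext fun x => Subtype.ext (by
        show ρ ((a * b : S) : G) x = ρ (a : G) (ρ (b : G) x)
        simp) }
  convert CfsgLib.Char.isCharacter_char σ using 1
  funext u
  rw [charLin_eq_trace, map_mul, Representation.asAlgebraHom_single_one]
  show LinearMap.trace ℂ _ (ρ (u : G) * π) = LinearMap.trace ℂ _ (σ u)
  rw [show ρ (u : G) * π = (LinearMap.range π).subtype ∘ₗ ((σ u) ∘ₗ π.rangeRestrict) from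
      LinearMap.ext fun x => rfl, LinearMap.trace_comp_comm', LinearMap.comp_assoc]
  congr 1
  refine LinearMap.ext fun x => Subtype.ext ?_
  show ρ (u : G) (π x) = ρ (u : G) x
  obtain ⟨y, hy⟩ := x.2
  rw [← hy]
  exact congrArg (ρ (u : G)) (LinearMap.congr_fun hπ y)

end CfsgLib.NilBlock
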