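import Cfsg.Agent.Lib.NilBlock.Spectral
import Cfsg.Agent.Lib.Modular.Lifting
import Cfsg.Agent.Lib.Modular.TraceForm
import Cfsg.Agent.Lib.BrauerPairs.Principal
import Cfsg.Agent.Lib.Blocks.ThirdMain

/-!
# A rank one idempotent of a local block with one Brauer character

`exists_local_elt`: if `(P, e)` is a Brauer pair of `B` and `e` has one Brauer character, then `k C(P) e` has an
idempotent at which the height zero characters of `B` do not vanish modulo `M`.
-/

set_option autoImplicit false

noncomputable section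

namespace CfsgLib.NilBlock

open Cfsg CfsgLib.Blocks CfsgLib.Modular CfsgLib.Char CfsgLib.BrauerPairs
open scoped ComplexConjugate

attribute [local instance] CfsgLib.Blocks.resField

variable {M : Ideal AlgInt} [M.IsMaximal] {p : ℕ} [hp : Fact p.Prime]

/-- The idempotent inside the group of the block. -/
theorem exists_rank_one {C : Type*} [Group C] [Fintype C] (hM : IsPModular p M) {e : Set (IrrCharacter C)}
    (he : IsPBlock M e) (hl : blockRank p e = 1) :
    ∃ (l : MonoidAlgebra (Res M) C) (φ : C → ℂ) (d : IrrCharacter C → ℕ), l * l = l ∧ l * ridem he = l ∧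
      φ ∈ ibrOf hM e ∧
      (∀ θ ∈ e, pRegularPart p (θ : C → ℂ) = (d θ : ℂ) • φ) ∧
      (∀ θ ∈ e, ∑ c : C, l.coeff c * res M (cvalR M (isCharacter_of_isIrr θ.2) c) = (d θ : Res M)) ∧
      ∀ θ : IrrCharacter C, θ ∉ e → ∑ c : C, l.coeff c * res M (cvalR M (isCharacter_of_isIrr θ.2) c) = 0 := by
  classical
  obtain ⟨φ, hφe⟩ := Finset.card_eq_one.mp ((blockRank_eq_card hM he).symm.trans hl)
  have hφ : φ ∈ ibrOf hM e := by rw [hφe]; exact Finset.mem_singleton_self _
  have hreg : ∀ θ ∈ e, pRegularPart p (θ : C → ℂ) = (dnum hM θ φ : ℂ) • φ := fun θ hθ => by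
    rw [regPart_eq_block hM hθ, hφe, Finset.sum_singleton]
  obtain ⟨-, θ₀, hθ₀, hd₀⟩ := mem_ibrOf.mp hφ
  obtain ⟨j, σ, hσi, hσφ, hact⟩ := ((exists_ibr_decomp hM θ₀).choose_spec.2 φ hd₀).2 e he
  rw [if_pos hθ₀] at hact
  -- a projection of rank one
  obtain ⟨v, hv⟩ : ∃ v : Fin j → Res M, v ≠ 0 := by
    have : IsSimpleModule (MonoidAlgebra (Res M) C) σ.asModule :=
      σ.irreducible_iff_isSimpleModule_asModule.mp hσi
    have : Nontrivial σ.asModule := IsSimpleModule.nontrivial (MonoidAlgebra (Res M) C) σ.asModule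
    obtain ⟨m, hm⟩ := exists_ne (0 : σ.asModule)
    exact ⟨σ.asModuleEquiv m, fun h => hm (σ.asModuleEquiv.map_eq_zero_iff.mp h)⟩
  obtain ⟨i₀, hi₀⟩ : ∃ i₀, v i₀ ≠ 0 := Function.ne_iff.mp hv
  let δ : (Fin j → Res M) →ₗ[Res M] Res M :=
    { toFun := fun x => (v i₀)⁻¹ * x i₀
      map_add' := fun x y => mul_add _ _ _
      map_smul' := fun c x => mul_left_comm _ _ _ }
  have hδ : δ v = 1 := inv_mul_cancel₀ hi₀
  set π := δ.smulRight v
  have hππ : π * π = π := LinearMap.ext fun x => by
    show δ (δ x • v) • v = δ x • v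
    rw [map_smul, hδ, smul_eq_mul, mul_one]
  obtain ⟨a, ha⟩ := asAlgebraHom_range_eq_top σ hσi π
  obtain ⟨ee, bb, hab, -, hee, -, -, -, m, hm⟩ := exists_spectral hM (liftLA M a)
  have hσe : σ.asAlgebraHom (redLA M C ee) = π := by
    symm
    refine eq_of_spectral (y := σ.asAlgebraHom (redLA M C bb)) (m := m) ?_ ?_ hππ
    · rw [← ha, ← map_mul, ← redLA_liftLA (M := M) a, ← map_mul, hab]
    · rw [← ha, ← map_pow, ← map_one σ.asAlgebraHom, ← map_sub, ← map_mul, ← redLA_liftLA (M := M) a,
        ← map_pow, ← map_one (redLA M C), ← map_sub, ← map_mul, hm, map_zero]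
  obtain ⟨ε, hε⟩ : ∃ ε, ε = redLA M C ee := ⟨_, rfl⟩
  rw [← hε] at hσe
  have hεε : ε * ε = ε := by rw [hε, ← map_mul, hee]
  have hcen : ∀ x : MonoidAlgebra (Res M) C, ridem he * x = x * ridem he := fun x =>
    (Subsemiring.mem_center_iff.mp (red_mem_center (idem he)) x).symm
  obtain ⟨l, hl'⟩ : ∃ l, l = ε * ridem he := ⟨_, rfl⟩
  have hσl : σ.asAlgebraHom l = π := by
    rw [hl', map_mul, hσe]
    refine LinearMap.ext fun x => ?_
    rw [Module.End.mul_apply, hact x, one_smul]
  have hle : l * ridem he = l := by rw [hl', mul_assoc, ridem_mul_self]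
  have hll : l * l = l := by
    calc l * l = ε * (ridem he * ε) * ridem he := by simp only [hl', mul_assoc]
      _ = ε * ε * (ridem he * ridem he) := by rw [hcen]; simp only [mul_assoc]
      _ = l := by rw [hεε, ridem_mul_self, ← hl']
  refine ⟨l, φ, fun θ => dnum hM θ φ, hll, hle, hφ, hreg, fun θ hθ => ?_, fun θ hθ => ?_⟩
  · have hc : ∀ c : C, res M (cvalR M (isCharacter_of_isIrr θ.2) c) =
        (dnum hM θ φ : Res M) * LinearMap.trace (Res M) _ (σ c) := by
      intro c
      obtain ⟨z, y, hzy, hcomm, ⟨k, hk⟩, hy⟩ := exists_isPPart (p := p) c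
      rw [← hzy, res_cvalR_mul hM (isCharacter_of_isIrr θ.2) hcomm (k := k)
        (by rw [← hk, pow_orderOf_eq_one]), trace_mul_pElement hM σ hcomm ⟨k, hk⟩,
        ← (resI_brauerFun σ hM hy).2]
      have h := congrFun (hreg θ hθ) y
      rw [CfsgLib.BlockArith.pRegularPart_apply, if_neg hy, Pi.smul_apply, smul_eq_mul,
        ← congrFun hσφ y] at h
      have hm := (resI_brauerFun σ hM hy).1
      rw [show cvalR M (isCharacter_of_isIrr θ.2) y =
          (dnum hM θ φ : locRing M) * ⟨brauerFun p M σ y, hm⟩ from Subtype.ext (by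
        simpa using h), map_mul, map_natCast, ← resI_coe ⟨brauerFun p M σ y, hm⟩]
    simp only [hc, mul_left_comm (l.coeff _)]
    rw [← Finset.mul_sum]
    have h1 : LinearMap.trace (Res M) _ π = 1 := by
      rw [LinearMap.trace_smulRight]; exact hδ
    rw [show ∑ c : C, l.coeff c * LinearMap.trace (Res M) _ (σ c) =
      LinearMap.trace (Res M) _ (σ.asAlgebraHom l) by simp [asAlgebraHom_eq_sum], hσl, h1, mul_one]
  · -- a lift that meets only `e`
    have h0 : charLin (θ : C → ℂ) (toCA M C (toLA (idem he) * ee)) = 0 := by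
      rw [map_mul, toCA_toLA, charLin_mul_of_central θ.2 (Zint_center _), ← coe_zomega, zomega_idem he,
        if_neg hθ]
      simp
    rw [charLin_apply] at h0
    simp only [coeff_toCA] at h0
    have h1 : ∑ c : C, (toLA (idem he) * ee).coeff c * cvalR M (isCharacter_of_isIrr θ.2) c = 0 :=
      Subtype.ext (by rw [AddSubmonoidClass.coe_finsetSum]; exact h0)
    have h2 := congrArg (res M) h1
    rw [map_zero, map_sum] at h2
    refine (Finset.sum_congr rfl fun c _ => ?_).trans h2
    rw [map_mul, ← coeff_redLA, map_mul, hl', ← hcen, hε,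
      show redLA M C (toLA (idem he)) = ridem he from MonoidAlgebra.coeff_injective (Finsupp.ext fun g => by
        rw [coeff_redLA, coeff_red, rcoeff]
        exact congrArg (res M) (Subtype.ext (coeff_toLA _ g)))]

variable {G : Type*} [Group G] [Fintype G]

theorem exists_local_elt (hM : IsPModular p M) {B : Set (IrrCharacter G)} {P : Subgroup G}
    {e : Set (IrrCharacter (Cen P))} (hPe : IsBrauerPairOf p M B P e) (hl : blockRank p e = 1) :
    ∃ l : KG M G, l * l = l ∧ (∀ g, g ∉ Cen P → l.coeff g = 0) ∧ l * pid M ⟨P, e⟩ = l ∧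
      ∀ χ ∈ B, blockHeight p B (χ : G → ℂ) = 0 →
        ∑ g : G, l.coeff g * res M (cvalR M (isCharacter_of_isIrr χ.2) g) ≠ 0 := by
  classical
  have := Fintype.ofFinite (Cen P)
  have he := hPe.1.2
  have hind := (brauerPairOf_iff_induced hM hPe.1.1 he hPe.2.1).mp hPe
  obtain ⟨l, φ, d, hll, hle, hφ, hreg, hin, hout⟩ := exists_rank_one hM he hl
  refine ⟨emb (Cen P) l, by rw [← map_mul, hll], fun g hg => coeff_emb_of_notMem _ _ hg, ?_,
    fun χ hχ h0 => ?_⟩
  · rw [pid, gidem_eq_emb he, ← map_mul, hle]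
  obtain ⟨ξ, hξ⟩ := IsPBlock.nonempty he
  have hcχ := isCharacter_res (Cen P) (isCharacter_of_isIrr χ.2)
  choose mult hmult using fun θ : IrrCharacter (Cen P) =>
    classInner_char_nat hcχ (isCharacter_of_isIrr θ.2)
  have hdec : ∀ c : Cen P, (χ : G → ℂ) c = ∑ θ : IrrCharacter (Cen P), (mult θ : ℂ) * (θ : _ → ℂ) c := by
    intro c
    have h := congrFun (classFun_eq_sum (isClassFunction_of_isCharacter hcχ)) c
    simp only [Finset.sum_apply, Pi.smul_apply, smul_eq_mul, hmult] at h
    exact h
  set n : ℕ := ∑ θ : IrrCharacter (Cen P), if θ ∈ e then mult θ * d θ else 0 with hn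
  have hval : ∑ g : G, (emb (Cen P) l).coeff g * res M (cvalR M (isCharacter_of_isIrr χ.2) g) = (n : Res M) := by
    rw [← Finset.sum_subset (Finset.subset_univ
        (Finset.univ.map (⟨Subtype.val, Subtype.val_injective⟩ : Cen P ↪ G))), Finset.sum_map]
    · have hc : ∀ c : Cen P, res M (cvalR M (isCharacter_of_isIrr χ.2) (c : G)) =
          ∑ θ : IrrCharacter (Cen P), (mult θ : Res M) * res M (cvalR M (isCharacter_of_isIrr θ.2) c) := by
        intro c
        rw [show cvalR M (isCharacter_of_isIrr χ.2) (c : G) = ∑ θ : IrrCharacter (Cen P),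
          (mult θ : locRing M) * cvalR M (isCharacter_of_isIrr θ.2) c from Subtype.ext (by
            rw [coe_cvalR, hdec, AddSubmonoidClass.coe_finsetSum]; simp), map_sum]
        exact Finset.sum_congr rfl fun θ _ => by rw [map_mul, map_natCast]
      simp only [Function.Embedding.coeFn_mk, coeff_emb, hc, Finset.mul_sum]
      rw [Finset.sum_comm, hn, Nat.cast_sum]
      refine Finset.sum_congr rfl fun θ _ => ?_
      simp only [mul_left_comm (l.coeff _)]
      rw [← Finset.mul_sum]
      split_ifs with hθ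
      · rw [hin θ hθ, Nat.cast_mul]
      · rw [hout θ hθ, mul_zero, Nat.cast_zero]
    · intro g _ hg
      rw [coeff_emb_of_notMem _ _ fun h => hg (Finset.mem_map.mpr ⟨⟨g, h⟩, Finset.mem_univ _, rfl⟩), zero_mul]
  rw [hval]
  intro hn0
  have h0' : blockHeight p (blockOf M (χ : G → ℂ)) (χ : G → ℂ) = 0 := by
    rwa [← isPBlock_eq_blockOf hPe.2.1 hχ]
  refine (bomega_regElt_res_ne_zero_iff hM h0' hind hξ).mpr hχ ?_
  -- the pairing is `n` times a local integer
  obtain ⟨a, hcomb⟩ := exists_int_combination hM he hφ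
  set K : locRing M := ∑ η : IrrCharacter (Cen P), if η ∈ e then
    (a η : locRing M) * zomega ξ (regElt M p (isCharacter_of_isIrr η.2)) else 0
  have hz : zomega ξ (regElt M p hcχ) = (n : locRing M) * K := by
    apply Subtype.ext
    have hφK : (K : ℂ) = (∑ c : Cen P, (ξ : Cen P → ℂ) c * conj (φ c)) / (ξ : Cen P → ℂ) 1 := by
      have hφc : ∀ c : Cen P, conj (φ c) = ∑ η : IrrCharacter (Cen P), if η ∈ e then
          (a η : ℂ) * (if p ∣ orderOf c then 0 else conj ((η : Cen P → ℂ) c)) else 0 := fun c => by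
        conv_lhs => rw [hcomb]
        simp only [Finset.sum_filter, Finset.sum_apply, map_sum]
        refine Finset.sum_congr rfl fun η _ => ?_
        split_ifs with h1 h2
        · simp [CfsgLib.BlockArith.pRegularPart_apply, h2]
        · simp [CfsgLib.BlockArith.pRegularPart_apply, h2]
        · simp
      simp only [hφc, Finset.mul_sum, K, AddSubmonoidClass.coe_finsetSum]
      rw [Finset.sum_comm, Finset.sum_div]
      refine Finset.sum_congr rfl fun η _ => ?_
      split_ifs
      · rw [Subring.coe_mul, SubringClass.coe_intCast, zomega_regElt, ← mul_div_assoc, Finset.mul_sum]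
        congr 1
        exact Finset.sum_congr rfl fun c _ => by split_ifs <;> ring
      · simp
    rw [Subring.coe_mul, SubringClass.coe_natCast, hφK, zomega_regElt, ← mul_div_assoc]
    congr 1
    have hθsum : ∀ θ : IrrCharacter (Cen P),
        (∑ c : Cen P, if p ∣ orderOf c then 0 else (ξ : Cen P → ℂ) c * conj ((θ : Cen P → ℂ) c)) =
          if θ ∈ e then (d θ : ℂ) * ∑ c : Cen P, (ξ : Cen P → ℂ) c * conj (φ c) else 0 := by
      intro θ
      split_ifs with hθ
      · rw [Finset.mul_sum]
        refine Finset.sum_congr rfl fun c _ => ?_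
        have h := congrFun (hreg θ hθ) c
        rw [CfsgLib.BlockArith.pRegularPart_apply, Pi.smul_apply, smul_eq_mul] at h
        calc _ = (ξ : Cen P → ℂ) c * conj (if p ∣ orderOf c then 0 else (θ : Cen P → ℂ) c) := by
              split_ifs <;> simp
          _ = _ := by rw [h, map_mul, Complex.conj_natCast]; ring
      · exact regular_orthogonality hM fun hs => hθ (isPBlock_eq_blockOf he hξ ▸ hs)
    calc _ = ∑ θ : IrrCharacter (Cen P), (mult θ : ℂ) *
          ∑ c : Cen P, (if p ∣ orderOf c then 0 else (ξ : Cen P → ℂ) c * conj ((θ : Cen P → ℂ) c)) := by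
          simp only [hdec, map_sum, map_mul, Complex.conj_natCast, Finset.mul_sum]
          rw [Finset.sum_comm]
          refine Finset.sum_congr rfl fun c _ => ?_
          split_ifs
          · simp
          · exact Finset.sum_congr rfl fun θ _ => by ring
      _ = _ := by
          rw [hn, Nat.cast_sum, Finset.sum_mul]
          refine Finset.sum_congr rfl fun θ _ => ?_
          rw [hθsum]
          split_ifs <;> push_cast <;> ring
  rw [bomega_apply, hz, map_mul, map_natCast, hn0, zero_mul]

end CfsgLib.NilBlock
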