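import Cfsg.Agent.Lib.NilBlock.Setup
import Mathlib.Analysis.SpecialFunctions.Log.Basic

/-!
# The contributions against a character of height zero

* `Setup.self_eq_one`: the contribution of a height zero character to each subsection is one;
* `Setup.gram`: the contribution vectors of the elements of `P` are orthogonal, by classes of `P`.
-/

set_option autoImplicit false

noncomputable section

namespace CfsgLib.NilBlock

open Cfsg CfsgLib.Blocks CfsgLib.BlockArith CfsgLib.Char CfsgLib.BrauerPairs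
open scoped ComplexConjugate Classical

universe u

variable {G : Type u} [Group G] [Fintype G] {M : Ideal AlgInt} [M.IsMaximal] {p : ℕ} [hp : Fact p.Prime]
  {B : Set (IrrCharacter G)} {P : Subgroup G} {e : Set (IrrCharacter (Cen P))}

/-- The members of `B`. -/
def bset (B : Set (IrrCharacter G)) : Finset (IrrCharacter G) := by
  classical exact Finset.univ.filter (· ∈ B)

omit [M.IsMaximal] hp in
@[simp] theorem mem_bset {χ : IrrCharacter G} : χ ∈ bset B ↔ χ ∈ B := by simp [bset]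

variable (p) in
/-- The contribution of the subsection of `x`. -/
def cc (β : (x : P) → Set (IrrCharacter (Cen (Subgroup.zpowers (x : G))))) (x : P)
    (χ ψ : IrrCharacter G) : ℂ :=
  ctr p (x : G) (Cen (Subgroup.zpowers (x : G))) (β x) χ ψ

variable {β : (x : P) → Set (IrrCharacter (Cen (Subgroup.zpowers (x : G))))}

theorem Setup.row (S : Setup p M B P e β) {χ ψ : IrrCharacter G} (hχ : χ ∈ B) (hψ : ψ ∈ B)
    :
    ∑ x : P, cc p β x χ ψ = (Nat.card P : ℂ) * if χ = ψ then 1 else 0 :=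
  sum_ctr_eq S.hM S.hmax S.hnil β S.hβ S.hd hχ hψ

omit [M.IsMaximal] hp in
theorem cc_symm (x : P) (χ ψ : IrrCharacter G) : cc p β x ψ χ = conj (cc p β x χ ψ) := ctr_conj χ ψ

theorem Setup.integral (S : Setup p M B P e β) (x : P) (χ ψ : IrrCharacter G) :
    IsIntegral ℤ (cc p β x χ ψ) :=
  isIntegral_ctr (cen_zpowers _) S.hM (S.pairOf x).1.2 χ ψ

theorem Setup.galois (S : Setup p M B P e β) (σ : ℂ ≃+* ℂ) (x : P) (χ ψ : IrrCharacter G) :
    σ (conj (cc p β x χ ψ)) = conj (σ (cc p β x χ ψ)) :=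
  ctr_mem_conjCommute (cen_zpowers _) σ χ ψ

theorem Setup.sum_mul (S : Setup p M B P e β) (x : P) (χ η : IrrCharacter G) :
    ∑ ψ ∈ bset B, cc p β x χ ψ * cc p β x ψ η =
      ((p ^ blockDefect p (β x) : ℕ) : ℂ) * cc p β x χ η := by
  classical
  refine Eq.trans (Finset.sum_congr ?_ fun _ _ => rfl) (ctr_sum_mul (cen_zpowers _) S.hM
    (exists_pow_of_mem S.isPGroup x.2) (S.induced x) χ η)
  ext; simp

/-- Conjugation invariance. -/
theorem Setup.cc_conjugate (S : Setup p M B P e β) (w x : P) (χ ψ : IrrCharacter G) :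
    cc p β (w * x * w⁻¹) χ ψ = cc p β x χ ψ := by
  let a : P → BrauerPairIdx G := fun y => ⟨Subgroup.zpowers (y : G), β y⟩
  have h1 := subpair_cjPair S.hM (w : G) (a := a x) (b := ⟨P, e⟩) (S.hβ x)
  rw [cjPair_eq_self_of_mem_stab S.hmax.1.1 (le_stab e w.2)] at h1
  have hcoe : ((w * x * w⁻¹ : P) : G) = (w : G) * x * (w : G)⁻¹ := by simp
  have hpe : a (w * x * w⁻¹) = cjPair (w : G) (a x) :=
    pair_eq_of_le S.hM S.hmax.1.1 (S.hβ _) h1 (by
      rw [cjPair_fst]
      show Subgroup.zpowers ((w * x * w⁻¹ : P) : G) =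
        (Subgroup.zpowers (x : G)).map (MulAut.conj (w : G)).toMonoidHom
      rw [hcoe, map_conj_zpowers])
  have h3 := congrArg
    (fun t : BrauerPairIdx G => ctr p ((w * x * w⁻¹ : P) : G) (Cen t.1) t.2 χ ψ) hpe
  unfold cc
  refine h3.trans ?_
  beta_reduce
  rw [hcoe]
  show ctr p _ _ (conjBlock (Subgroup.zpowers (x : G)) (w : G) (β x)) χ ψ = _
  rw [conjBlock_eq_tblock]
  exact ctr_tblock (w : G) (x : G) _ (fun c => rfl) _ χ ψ

variable {χ₀ : IrrCharacter G}

theorem Setup.exists_pos_self (S : Setup p M B P e β) (h₀ : χ₀ ∈ B)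
    (hh₀ : blockHeight p B (χ₀ : G → ℂ) = 0) (σ : ℂ ≃+* ℂ) (x : P) :
    ∃ r : ℝ, 0 < r ∧ σ (cc p β x χ₀ χ₀) = (r : ℂ) := by
  have hq : ((p ^ blockDefect p (β x) : ℕ) : ℂ) ≠ 0 := Nat.cast_ne_zero.mpr (pow_ne_zero _ hp.out.ne_zero)
  have hsum : ((∑ ψ ∈ bset B, Complex.normSq (σ (cc p β x χ₀ ψ)) : ℝ) : ℂ) =
      ((p ^ blockDefect p (β x) : ℕ) : ℂ) * σ (cc p β x χ₀ χ₀) := by
    rw [← map_natCast σ (p ^ blockDefect p (β x)), ← map_mul, ← S.sum_mul x χ₀ χ₀, map_sum,
      Complex.ofReal_sum]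
    refine Finset.sum_congr rfl fun ψ _ => ?_
    rw [map_mul, cc_symm x χ₀ ψ, S.galois σ x χ₀ ψ, Complex.mul_conj]
  have hne : cc p β x χ₀ χ₀ ≠ 0 := ctr_ne_zero (cen_zpowers _) S.hM (exists_pow_of_mem S.isPGroup x.2)
    (S.induced x) h₀ hh₀ h₀ hh₀
  set s := ∑ ψ ∈ bset B, Complex.normSq (σ (cc p β x χ₀ ψ))
  have hs : 0 ≤ s := Finset.sum_nonneg fun ψ _ => Complex.normSq_nonneg _
  refine ⟨s / (p ^ blockDefect p (β x) : ℕ), ?_, ?_⟩
  · refine div_pos (lt_of_le_of_ne hs fun h => ?_) (by exact_mod_cast pow_pos hp.out.pos _)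
    rw [← h, Complex.ofReal_zero] at hsum
    rcases mul_eq_zero.mp hsum.symm with h' | h'
    · exact hq h'
    · exact hne (σ.injective (h'.trans (map_zero σ).symm))
  · rw [Complex.ofReal_div, hsum, Complex.ofReal_natCast, mul_div_cancel_left₀ _ hq]

/-- **The contributions of a height zero character are one.** -/
theorem Setup.self_eq_one (S : Setup p M B P e β) (h₀ : χ₀ ∈ B)
    (hh₀ : blockHeight p B (χ₀ : G → ℂ) = 0) (x : P) : cc p β x χ₀ χ₀ = 1 := by
  classical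
  set a : P → ℂ := fun y => cc p β y χ₀ χ₀ with ha
  choose r hr0 hr using S.exists_pos_self h₀ hh₀
  set s := (Finset.univ : Finset P).erase 1 with hs
  obtain ⟨m, hm⟩ := ctr_one_int (p := p) (cen_zpowers _) S.hM (S.pairOf 1).1.2 (Subgroup.coe_one P) χ₀ χ₀
  have hm' : ∀ σ : ℂ ≃+* ℂ, r σ 1 = (m : ℝ) := fun σ => by
    apply Complex.ofReal_injective
    rw [← hr σ 1, show cc p β 1 χ₀ χ₀ = (m : ℂ) from hm, map_intCast, Complex.ofReal_intCast]
  have hm1 : (1 : ℝ) ≤ m := by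
    have h := hr0 (RingEquiv.refl ℂ) 1
    rw [hm'] at h
    exact_mod_cast (show (0 : ℤ) < m by exact_mod_cast h)
  have hrow : ∑ y : P, a y = (Nat.card P : ℂ) := by
    rw [ha]; simpa using S.row h₀ h₀
  obtain ⟨σ, hσ⟩ := exists_conjugate_ge_one (z := ∏ y ∈ s, a y)
    (IsIntegral.prod _ fun y _ => S.integral y χ₀ χ₀)
    (Finset.prod_ne_zero_iff.mpr fun y _ h => by
      have h' := hr (RingEquiv.refl ℂ) y
      rw [show cc p β y χ₀ χ₀ = 0 from h, map_zero] at h'
      exact (hr0 (RingEquiv.refl ℂ) y).ne' (Complex.ofReal_eq_zero.mp h'.symm))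
    (fun σ => ⟨∏ y ∈ s, r σ y, Finset.prod_nonneg fun y _ => (hr0 σ y).le, by
      rw [map_prod, Complex.ofReal_prod]; exact Finset.prod_congr rfl fun y _ => hr σ y⟩)
  have hprod : 1 ≤ ∏ y ∈ s, r σ y := by
    have : σ (∏ y ∈ s, a y) = ((∏ y ∈ s, r σ y : ℝ) : ℂ) := by
      rw [map_prod, Complex.ofReal_prod]; exact Finset.prod_congr rfl fun y _ => hr σ y
    rwa [this, Complex.ofReal_re] at hσ
  have hsum : ∑ y ∈ s, r σ y + m = (Nat.card P : ℝ) := by
    apply Complex.ofReal_injective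
    rw [Complex.ofReal_natCast, ← map_natCast σ (Nat.card P), ← hrow, ← hm' σ,
      Finset.sum_erase_add _ _ (Finset.mem_univ 1), map_sum, Complex.ofReal_sum]
    exact Finset.sum_congr rfl fun y _ => (hr σ y).symm
  have hcard : ((s.card : ℝ)) + 1 = (Nat.card P : ℝ) := by
    rw [Nat.card_eq_fintype_card, ← Finset.card_univ, ← Finset.card_erase_add_one (Finset.mem_univ (1 : P))]
    push_cast; rfl
  have hlog : 0 ≤ ∑ y ∈ s, Real.log (r σ y) := by
    rw [← Real.log_prod fun y _ => (hr0 σ y).ne']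
    exact Real.log_nonneg hprod
  have hle : ∀ y ∈ s, 0 ≤ r σ y - 1 - Real.log (r σ y) := fun y _ => by
    linarith [Real.log_le_sub_one_of_pos (hr0 σ y)]
  have htot : ∑ y ∈ s, (r σ y - 1 - Real.log (r σ y)) = (1 - (m : ℝ)) - ∑ y ∈ s, Real.log (r σ y) := by
    rw [Finset.sum_sub_distrib, Finset.sum_sub_distrib, Finset.sum_const, nsmul_eq_mul, mul_one]
    linarith
  have hnn := Finset.sum_nonneg hle
  by_cases hx : x = 1
  · subst hx
    have : (m : ℝ) = 1 := by linarith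
    show cc p β 1 χ₀ χ₀ = 1
    rw [show cc p β 1 χ₀ χ₀ = (m : ℂ) from hm]
    exact_mod_cast this
  · have h0 := (Finset.sum_eq_zero_iff_of_nonneg hle).mp (by linarith) x
      (Finset.mem_erase.mpr ⟨hx, Finset.mem_univ x⟩)
    have h1 : r σ x = 1 := by
      by_contra hne
      linarith [Real.log_lt_sub_one_of_pos (hr0 σ x) hne]
    refine σ.injective ?_
    rw [hr σ x, h1, map_one, Complex.ofReal_one]

theorem Setup.norm_sum (S : Setup p M B P e β) (h₀ : χ₀ ∈ B)
    (hh₀ : blockHeight p B (χ₀ : G → ℂ) = 0) (x : P) :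
    ∑ ψ ∈ bset B, cc p β x ψ χ₀ * conj (cc p β x ψ χ₀) = ((p ^ blockDefect p (β x) : ℕ) : ℂ) := by
  rw [← mul_one ((p ^ blockDefect p (β x) : ℕ) : ℂ), ← S.self_eq_one h₀ hh₀ x, ← S.sum_mul x χ₀ χ₀]
  refine Finset.sum_congr rfl fun ψ _ => ?_
  rw [← cc_symm x ψ χ₀, mul_comm]

/-- Away from the identity the contribution matrix has rank one. -/
theorem Setup.secH_eq (S : Setup p M B P e β) (h₀ : χ₀ ∈ B)
    (hh₀ : blockHeight p B (χ₀ : G → ℂ) = 0) {x : P} (hx : x ≠ 1) (χ : IrrCharacter G)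
    {s : Cen (Subgroup.zpowers (x : G))} (hs : ¬ p ∣ orderOf s) :
    secH (x : G) (Cen (Subgroup.zpowers (x : G))) (β x) χ s =
      cc p β x χ χ₀ * secH (x : G) (Cen (Subgroup.zpowers (x : G))) (β x) χ₀ s := by
  have h1 := S.self_eq_one h₀ hh₀ x
  obtain ⟨t, ht, ht', -⟩ := exists_secH_mul (p := p) (x := (x : G)) (H := Cen (Subgroup.zpowers (x : G)))
    S.hM (S.pairOf x).1.2 (S.hrank x hx) (ψ := χ₀) (fun h => one_ne_zero (h1.symm.trans h)) χ
  rw [ht s hs, show cc p β x χ χ₀ = t by rw [cc, ht', ← cc, h1, mul_one]]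

theorem Setup.mul_row (S : Setup p M B P e β) (h₀ : χ₀ ∈ B)
    (hh₀ : blockHeight p B (χ₀ : G → ℂ) = 0) {x : P} (hx : x ≠ 1) (χ ψ : IrrCharacter G) :
    cc p β x χ ψ = cc p β x χ χ₀ * conj (cc p β x ψ χ₀) := by
  have := Fintype.ofFinite (Cen (Subgroup.zpowers (x : G)))
  rw [← mul_one (cc p β x χ χ₀ * conj (cc p β x ψ χ₀))]
  conv_rhs => arg 2; rw [← S.self_eq_one h₀ hh₀ x]
  generalize hA : cc p β x χ χ₀ = A
  generalize hC : cc p β x ψ χ₀ = C
  simp only [cc, ctr, regSum_eq, Finset.mul_sum]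
  refine Finset.sum_congr rfl fun s _ => ?_
  split_ifs with hs
  · simp
  · rw [S.secH_eq h₀ hh₀ hx χ hs, S.secH_eq h₀ hh₀ hx ψ hs, hA, hC, map_mul]
    ring

theorem Setup.natCard_centralizer (S : Setup p M B P e β) (v : P) :
    Nat.card {w : P // w * v = v * w} = p ^ blockDefect p (β v) := by
  rw [S.hd v]
  refine Nat.card_congr
    { toFun := fun w => ⟨(w.1 : G), w.1.2, mem_cen_zpowers.mpr (congrArg Subtype.val w.2)⟩
      invFun := fun z => ⟨⟨z.1, z.2.1⟩, Subtype.ext (mem_cen_zpowers.mp z.2.2)⟩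
      left_inv := fun w => rfl
      right_inv := fun z => rfl }

/-- A sum over conjugates. -/
theorem Setup.sum_conjugates (S : Setup p M B P e β) (v : P) (f : P → ℂ) :
    ∑ w : P, f (w * v * w⁻¹) = ((p ^ blockDefect p (β v) : ℕ) : ℂ) *
      ∑ x ∈ Finset.univ.filter (IsConj v), f x := by
  rw [Finset.mul_sum, ← Finset.sum_fiberwise_of_maps_to (t := Finset.univ.filter (IsConj v))
    (g := fun w : P => w * v * w⁻¹)
    (fun w _ => Finset.mem_filter.mpr ⟨Finset.mem_univ _, isConj_iff.mpr ⟨w, rfl⟩⟩)]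
  refine Finset.sum_congr rfl fun x hx => ?_
  obtain ⟨w₀, hw₀⟩ := isConj_iff.mp (Finset.mem_filter.mp hx).2
  rw [Finset.sum_congr rfl (g := fun _ => f x) fun w hw => by rw [(Finset.mem_filter.mp hw).2],
    Finset.sum_const, nsmul_eq_mul, ← S.natCard_centralizer v, ← Nat.card_eq_finsetCard]
  congr 2
  refine Nat.card_congr
    { toFun := fun w => ⟨w₀⁻¹ * w.1, ?_⟩
      invFun := fun w => ⟨w₀ * w.1, Finset.mem_filter.mpr ⟨Finset.mem_univ _, ?_⟩⟩
      left_inv := fun w => Subtype.ext (mul_inv_cancel_left w₀ w.1)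
      right_inv := fun w => Subtype.ext (inv_mul_cancel_left w₀ w.1) }
  · have h : w.1 * v * w.1⁻¹ = w₀ * v * w₀⁻¹ := (Finset.mem_filter.mp w.2).2.trans hw₀.symm
    calc w₀⁻¹ * w.1 * v = w₀⁻¹ * (w.1 * v * w.1⁻¹) * w.1 := by group
      _ = v * (w₀⁻¹ * w.1) := by rw [h]; group
  · calc w₀ * w.1 * v * (w₀ * w.1)⁻¹ = w₀ * (w.1 * v) * w.1⁻¹ * w₀⁻¹ := by group
      _ = w₀ * v * w₀⁻¹ := by rw [w.2]; group
      _ = x := hw₀

theorem Setup.gram_off (S : Setup p M B P e β) (h₀ : χ₀ ∈ B)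
    (hh₀ : blockHeight p B (χ₀ : G → ℂ) = 0) {v : P} (hv : v ≠ 1) {x : P} (hx : ¬ IsConj v x) :
    ∑ ψ ∈ bset B, cc p β x ψ χ₀ * conj (cc p β v ψ χ₀) = 0 := by
  set ρ : IrrCharacter G → ℂ := fun χ => cc p β v χ χ₀ with hρ
  choose t ht0 htT htz using fun y : P => ctr_form (p := p) (x := (y : G))
    (H := Cen (Subgroup.zpowers (y : G))) (b := β y) (bset B) ρ
  set q : ℂ := ((p ^ blockDefect p (β v) : ℕ) : ℂ) with hq
  have hnorm : ∑ χ ∈ bset B, conj (ρ χ) * ρ χ = q := by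
    rw [hq, ← S.norm_sum h₀ hh₀ v]
    exact Finset.sum_congr rfl fun χ _ => mul_comm _ _
  have hall : ∑ y : P, (t y : ℂ) = (Nat.card P : ℂ) * q := by
    simp only [← htT, ← hnorm, Finset.mul_sum]
    rw [Finset.sum_comm]
    refine Finset.sum_congr rfl fun χ hχ => ?_
    rw [Finset.sum_comm, Finset.sum_eq_single χ]
    · rw [← Finset.sum_mul, ← Finset.mul_sum]
      show conj (ρ χ) * (∑ y : P, cc p β y χ χ) * ρ χ = _
      rw [S.row (mem_bset.mp hχ) (mem_bset.mp hχ), if_pos rfl]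
      ring
    · intro ψ hψ hne
      rw [← Finset.sum_mul, ← Finset.mul_sum]
      show conj (ρ χ) * (∑ y : P, cc p β y χ ψ) * ρ ψ = 0
      rw [S.row (mem_bset.mp hχ) (mem_bset.mp hψ), if_neg (Ne.symm hne)]
      ring
    · exact fun h => absurd hχ h
  have hconst : ∀ w : P, (t (w * v * w⁻¹) : ℂ) = q * q := by
    intro w
    rw [← htT, ← hnorm, Finset.sum_mul_sum]
    refine Finset.sum_congr rfl fun χ _ => Finset.sum_congr rfl fun ψ _ => ?_
    show conj (ρ χ) * cc p β (w * v * w⁻¹) χ ψ * ρ ψ = _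
    rw [S.cc_conjugate, S.mul_row h₀ hh₀ hv]
    ring
  have hclass : ∑ y ∈ Finset.univ.filter (IsConj v), (t y : ℂ) = (Nat.card P : ℂ) * q := by
    have h := S.sum_conjugates v (fun y => (t y : ℂ))
    simp only [hconst, Finset.sum_const, Finset.card_univ, nsmul_eq_mul, ← Nat.card_eq_fintype_card] at h
    have hq0 : q ≠ 0 := Nat.cast_ne_zero.mpr (pow_ne_zero _ hp.out.ne_zero)
    refine mul_left_cancel₀ hq0 ?_
    rw [← h]; ring
  have hrest : ∑ y ∈ Finset.univ.filter (fun y : P => ¬ IsConj v y), t y = 0 := by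
    apply Complex.ofReal_injective
    rw [Complex.ofReal_sum, Complex.ofReal_zero]
    have := Finset.sum_filter_add_sum_filter_not Finset.univ (IsConj v) (fun y : P => (t y : ℂ))
    rw [hall, hclass] at this
    linear_combination this
  have h0 := (Finset.sum_eq_zero_iff_of_nonneg fun y _ => ht0 y).mp hrest x
    (Finset.mem_filter.mpr ⟨Finset.mem_univ _, hx⟩)
  rw [← htz x h0 χ₀]
  exact Finset.sum_congr rfl fun ψ _ => mul_comm _ _

/-- **Orthogonality of the contribution vectors.** -/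
theorem Setup.gram (S : Setup p M B P e β) (h₀ : χ₀ ∈ B)
    (hh₀ : blockHeight p B (χ₀ : G → ℂ) = 0) (x v : P) :
    ∑ ψ ∈ bset B, cc p β x ψ χ₀ * conj (cc p β v ψ χ₀) =
      if IsConj x v then ((p ^ blockDefect p (β x) : ℕ) : ℂ) else 0 := by
  split_ifs with h
  · obtain ⟨w, rfl⟩ := isConj_iff.mp h
    simp only [S.cc_conjugate]
    exact S.norm_sum h₀ hh₀ x
  · by_cases hv : v = 1
    · subst hv
      have hx1 : x ≠ 1 := fun he => h (he ▸ IsConj.refl _)
      have h1 := congrArg conj (S.gram_off h₀ hh₀ hx1 h)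
      rw [map_sum, map_zero] at h1
      refine Eq.trans (Finset.sum_congr rfl fun ψ _ => ?_) h1
      rw [map_mul, Complex.conj_conj, mul_comm]
    · exact S.gram_off h₀ hh₀ hv fun hc => h hc.symm

theorem Setup.isClassFunction (S : Setup p M B P e β) (χ ψ : IrrCharacter G) :
    IsClassFunction P (fun x => cc p β x χ ψ) := fun g h => S.cc_conjugate h g χ ψ

/-- The coefficient vectors on `Irr P` are orthonormal. -/
theorem Setup.coeff_orth (S : Setup p M B P e β) (h₀ : χ₀ ∈ B)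
    (hh₀ : blockHeight p B (χ₀ : G → ℂ) = 0) (μ ν : IrrCharacter P) :
    ∑ ψ ∈ bset B, classInner (fun x => cc p β x ψ χ₀) (μ : P → ℂ) *
      conj (classInner (fun x => cc p β x ψ χ₀) (ν : P → ℂ)) = if μ = ν then 1 else 0 := by
  have hN : (Nat.card P : ℂ) ≠ 0 := card_ne_zero'
  have hexp : ∀ ψ : IrrCharacter G, classInner (fun x => cc p β x ψ χ₀) (μ : P → ℂ) *
      conj (classInner (fun x => cc p β x ψ χ₀) (ν : P → ℂ)) =
      (Nat.card P : ℂ)⁻¹ * (Nat.card P : ℂ)⁻¹ * ∑ x : P, ∑ v : P,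
        conj ((μ : P → ℂ) x) * (ν : P → ℂ) v * (cc p β x ψ χ₀ * conj (cc p β v ψ χ₀)) := by
    intro ψ
    simp only [classInner, map_mul, map_inv₀, Complex.conj_natCast, map_sum, Complex.conj_conj]
    rw [mul_mul_mul_comm, Finset.sum_mul_sum]
    congr 1
    exact Finset.sum_congr rfl fun x _ => Finset.sum_congr rfl fun v _ => by ring
  simp only [hexp, ← Finset.mul_sum]
  rw [Finset.sum_comm]
  simp only [fun x : P => Finset.sum_comm (s := bset B) (t := (Finset.univ : Finset P))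
    (f := fun ψ v => conj ((μ : P → ℂ) x) * (ν : P → ℂ) v * (cc p β x ψ χ₀ * conj (cc p β v ψ χ₀))),
    ← Finset.mul_sum, S.gram h₀ hh₀]
  have hin : ∀ x : P, (∑ v : P, conj ((μ : P → ℂ) x) * (ν : P → ℂ) v *
      if IsConj x v then ((p ^ blockDefect p (β x) : ℕ) : ℂ) else 0) =
      (Nat.card P : ℂ) * ((ν : P → ℂ) x * conj ((μ : P → ℂ) x)) := by
    intro x
    simp only [mul_ite, mul_zero, ← Finset.sum_filter]
    have h := S.sum_conjugates x (fun v => (ν : P → ℂ) v)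
    simp only [CfsgLib.Char.isClassFunction_of_isIrr ν.2 x, Finset.sum_const, Finset.card_univ,
      nsmul_eq_mul, ← Nat.card_eq_fintype_card] at h
    rw [show (Nat.card P : ℂ) * ((ν : P → ℂ) x * conj ((μ : P → ℂ) x)) =
      conj ((μ : P → ℂ) x) * ((Nat.card P : ℂ) * (ν : P → ℂ) x) by ring, h, Finset.mul_sum, Finset.mul_sum]
    exact Finset.sum_congr rfl fun v _ => by ring
  simp only [hin, ← Finset.mul_sum]
  rw [← mul_assoc, mul_assoc _ (Nat.card P : ℂ)⁻¹, inv_mul_cancel₀ hN, mul_one]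
  show classInner (ν : P → ℂ) (μ : P → ℂ) = _
  split_ifs with h
  · subst h; exact classInner_irr_self μ.2
  · exact classInner_irr_ne ν.2 μ.2 fun h' => h (Subtype.ext h').symm

end CfsgLib.NilBlock
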