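import Cfsg.Agent.Lib.NilBlock.Spectral
import Cfsg.Agent.Lib.BrauerPairs.Maximal

/-!
# An idempotent whose Brauer images follow the pairs below a given pair

`exists_local_idem`: given an idempotent `l` of `k C(P) e`, there is an idempotent `i` of the local group
algebra, fixed by `P`, with `br_P i = l` and `br_Q i` inside the block of the pair on `Q` for every `Q ≤ P`.
-/

set_option autoImplicit false

noncomputable section

namespace CfsgLib.NilBlock

open Cfsg CfsgLib.Blocks CfsgLib.BrauerPairs

attribute [local instance] CfsgLib.Blocks.resField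

universe u

variable {M : Ideal AlgInt} [M.IsMaximal] {G : Type u} [Group G] [Fintype G] {p : ℕ} [hp : Fact p.Prime]

omit hp in
theorem supp_mul {H : Subgroup G} {x y : KG M G} (hx : ∀ g, g ∉ H → x.coeff g = 0)
    (hy : ∀ g, g ∉ H → y.coeff g = 0) {g : G} (hg : g ∉ H) : (x * y).coeff g = 0 := by
  rw [coeff_mul_eq_sum]
  refine Finset.sum_eq_zero fun h _ => ?_
  by_cases hh : h ∈ H
  · rw [hy _ (fun h2 => hg (by simpa using H.mul_mem hh h2)), mul_zero]
  · rw [hx h hh, zero_mul]

omit [M.IsMaximal] [Fintype G] hp in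
theorem cjPair_mem_self [M.IsMaximal] [Fintype G] {P : Subgroup G} {e : Set (IrrCharacter (Cen P))}
    (hP : IsBrauerPair p M P e) {v : G} (hv : v ∈ P) :
    cjPair v (⟨P, e⟩ : BrauerPairIdx G) = ⟨P, e⟩ :=
  pair_ext (M := M) (isBrauerPair_cjPair v (a := ⟨P, e⟩) hP).2 hP.2
    (map_conj_eq_self (Subgroup.le_normalizer hv)) (by rw [pid_cjPair]; exact isFixed_self e v hv)

theorem exists_local_idem (hM : IsPModular p M) {P : Subgroup G} {e : Set (IrrCharacter (Cen P))}
    (hP : IsBrauerPair p M P e) {l : KG M G} (hll : l * l = l)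
    (hsupp : ∀ g, g ∉ Cen P → l.coeff g = 0) (hle : l * pid M ⟨P, e⟩ = l) :
    ∃ i : LA M G, i * i = i ∧ (∀ u ∈ P, Commute i (MonoidAlgebra.single u 1)) ∧
      br P (redLA M G i) = l ∧
      ∀ (Q : Subgroup G) (f : Set (IrrCharacter (Cen Q))), SubpairLE p M Q f P e →
        br Q (redLA M G i) * pid M ⟨Q, f⟩ = br Q (redLA M G i) := by
  classical
  choose F hF using fun (Q : Subgroup G) (hQ : Q ≤ P) => (existsUnique_subpair hM hQ hP).exists
  let E : Subgroup G → KG M G := fun Q => if h : Q ≤ P then pid M ⟨Q, F Q h⟩ else 0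
  have hE : ∀ (Q : Subgroup G) (f : Set (IrrCharacter (Cen Q))), SubpairLE p M Q f P e →
      E Q = pid M ⟨Q, f⟩ := fun Q f hf => by
    have hQ : Q ≤ P := subgroup_le (a := ⟨Q, f⟩) (b := ⟨P, e⟩) hf
    simp only [E, dif_pos hQ, subpair_eq hM hP (hF Q hQ) hf]
  have hEe : ∀ Q, (hQ : Q ≤ P) → IsBrauerPair p M Q (F Q hQ) := fun Q hQ =>
    isBrauerPair_left (a := ⟨Q, F Q hQ⟩) (b := ⟨P, e⟩) (hF Q hQ) hP
  have hEc : ∀ Q, Q ≤ P → CentralIn (Cen Q) (E Q) := fun Q hQ => by
    simp only [E, dif_pos hQ]; exact centralIn_gidem _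
  have hEE : ∀ Q, Q ≤ P → E Q * E Q = E Q := fun Q hQ => by
    simp only [E, dif_pos hQ]; exact gidem_mul_self (hEe Q hQ).2
  have hEcj : ∀ v ∈ P, ∀ Q, Q ≤ P → cjA v (E Q) = E (Q.map (MulAut.conj v).toMonoidHom) := by
    intro v hv Q hQ
    have h1 := subpair_cjPair hM v (a := ⟨Q, F Q hQ⟩) (b := ⟨P, e⟩) (hF Q hQ)
    rw [cjPair_mem_self hP hv] at h1
    rw [show E (Q.map (MulAut.conj v).toMonoidHom) = pid M (cjPair v ⟨Q, F Q hQ⟩) from hE _ _ h1]
    simp only [E, dif_pos hQ]
    exact (pid_cjPair v ⟨Q, F Q hQ⟩).symm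
  have hlfix : IsFixed P l := isFixed_iff.mpr fun v hv g => by
    by_cases hg : g ∈ Cen P
    · congr 1
      rw [Subgroup.mem_centralizer_iff.mp hg v hv, mul_inv_cancel_right]
    · rw [hsupp g hg, hsupp]
      intro h
      apply hg
      have hN := mem_normalizer_centralizer (Subgroup.le_normalizer hv : v ∈ Subgroup.normalizer (P : Set G))
      exact (Subgroup.mem_set_normalizer_iff.mp hN g).mpr h
  let D : G → Subgroup G := fun g => P ⊓ Subgroup.centralizer ({g} : Set G)
  have hgD : ∀ {g : G} {Q : Subgroup G}, Q ≤ P → g ∈ Cen Q → Q ≤ D g := fun {g Q} hQ hg q hq =>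
    ⟨hQ hq, Subgroup.mem_centralizer_singleton_iff.mpr (Subgroup.mem_centralizer_iff.mp hg q hq)⟩
  have hDg : ∀ g : G, g ∈ Cen (D g) := fun g => Subgroup.mem_centralizer_iff.mpr fun q hq =>
    Subgroup.mem_centralizer_singleton_iff.mp hq.2
  -- the recursion
  suffices h : ∀ n : ℕ, ∃ a : KG M G, IsFixed P a ∧ br P a = l ∧
      ∀ Q, Q ≤ P → Nat.card P - Nat.card Q < n → br Q a * E Q = br Q a by
    obtain ⟨a, hafix, haP, haQ⟩ := h (Nat.card P + 1)
    obtain ⟨i, b, hab, -, hii, -, -, hcom, m, hm⟩ := exists_spectral hM (liftLA M a)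
    have hcomm : ∀ u ∈ P, Commute i (MonoidAlgebra.single u 1) ∧ Commute b (MonoidAlgebra.single u 1) :=
      fun u hu => hcom _ (commute_liftLA fun g => isFixed_iff.mp hafix u hu g)
    have hfixred : ∀ x : LA M G, (∀ u ∈ P, Commute x (MonoidAlgebra.single u 1)) →
        IsFixed P (redLA M G x) := fun x hx => isFixed_iff.mpr fun u hu g => by
      rw [coeff_redLA, coeff_redLA, (commute_single_iff x u).mp (hx u hu) g]
    have hbfix := hfixred b fun u hu => (hcomm u hu).2
    have hifix := hfixred i fun u hu => (hcomm u hu).1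
    have hred : redLA M G i = a * redLA M G b := by rw [← hab, map_mul, redLA_liftLA]
    refine ⟨i, hii, fun u hu => (hcomm u hu).1, ?_, fun Q f hf => ?_⟩
    · symm
      have hpow : ∀ k : ℕ, br P (a ^ k) = l ^ k ∧ IsFixed P (a ^ k) := fun k => by
        induction k with
        | zero => exact ⟨by rw [pow_zero, pow_zero, br_one], by rw [pow_zero]; exact isFixed_one P⟩
        | succ k ih => rw [pow_succ, pow_succ]; exact ⟨by rw [br_mul hM hP.1 ih.2 hafix, ih.1, haP], ih.2.mul hafix⟩
      refine eq_of_spectral (y := br P (redLA M G b)) (m := m) ?_ ?_ hll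
      · rw [← haP, ← br_mul hM hP.1 hafix hbfix, hred]
      · have hsub : br P (1 - redLA M G i) = 1 - br P (redLA M G i) := by
          refine ext_coeff fun g => ?_
          conv_rhs => rw [← br_one (M := M) P]
          simp only [coeff_br, MonoidAlgebra.coeff_sub, Finsupp.sub_apply]
          split_ifs <;> simp
        rw [← (hpow m).1, ← hsub, ← br_mul hM hP.1 (hpow m).2
          (fun u hu => by rw [map_sub, map_one, hifix u hu]), ← redLA_liftLA (M := M) a, ← map_pow,
          ← map_one (redLA M G), ← map_sub, ← map_mul, hm, br_zero]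
    · have hQ : Q ≤ P := subgroup_le (a := ⟨Q, f⟩) (b := ⟨P, e⟩) hf
      rw [← hE Q f hf, hred, br_mul hM (hP.1.to_le hQ) (hafix.mono hQ) (hbfix.mono hQ), mul_assoc,
        ← (hEc Q hQ).commute_of_supp (fun g hg => by rw [coeff_br, if_neg hg]), ← mul_assoc,
        haQ Q hQ (by omega)]
  intro n
  induction n with
  | zero => exact ⟨l, hlfix, br_eq_self hsupp, fun Q _ h => absurd h (Nat.not_lt_zero _)⟩
  | succ n ih =>
    obtain ⟨a, hafix, haP, haQ⟩ := ih
    have hEfix : ∀ {Q R : Subgroup G}, R ≤ P → Q ≤ R → R ≤ Subgroup.normalizer (Q : Set G) →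
        IsFixed R (E Q) ∧ br R (E Q) * E R = E R := by
      intro Q R hR hQR hRN
      have hQ := hQR.trans hR
      have hn : NormalSubpairRel p M ⟨Q, F Q hQ⟩ ⟨R, F R hR⟩ :=
        normal_of_subpair hM (hEe R hR) (subpair_of_le hM hP hQR (hF Q hQ) (hF R hR)) hRN
      obtain ⟨-, -, -, -, hfix, hocc⟩ := (normalSubpair_iff hM).mp hn
      simp only [E, dif_pos hQ, dif_pos hR]
      exact ⟨hfix, hocc⟩
    let a' : KG M G := ofFun fun g =>
      if Nat.card P - Nat.card (D g) = n then (br (D g) a * E (D g)).coeff g else a.coeff g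
    have hkey : ∀ Q, Q ≤ P → Nat.card P - Nat.card Q = n → br Q a' = br Q a * E Q := by
      intro Q hQ hn
      refine ext_coeff fun g => ?_
      rw [coeff_br]
      by_cases hg : g ∈ Subgroup.centralizer (Q : Set G)
      swap
      · rw [if_neg hg, supp_mul (fun g h => by rw [coeff_br, if_neg h]) (hEc Q hQ).1 hg]
      rw [if_pos hg]
      rcases (hgD hQ hg).eq_or_lt with hDe | hlt
      · simp only [a', coeff_ofFun, ← hDe, hn, if_true]
      · have hlt' := card_lt_card_of_lt hlt
        have hDP : Nat.card (D g) ≤ Nat.card P := Subgroup.card_le_of_le inf_le_left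
        simp only [a', coeff_ofFun]
        rw [if_neg (by omega)]
        set R := D g ⊓ Subgroup.normalizer (Q : Set G) with hR
        have hQR : Q < R := exists_normalizer_gt (hP.1.to_le inf_le_left) hlt
        have hRP : R ≤ P := inf_le_left.trans inf_le_left
        obtain ⟨hfix, hocc⟩ := hEfix hRP hQR.le inf_le_right
        have hgR : g ∈ Subgroup.centralizer (R : Set G) := centralizer_anti inf_le_left (hDg g)
        have hcardR := card_lt_card_of_lt hQR
        have h1 : br R (br Q a * E Q) = br R a := by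
          rw [br_mul hM (hP.1.to_le hRP) ((hafix.mono hRP).br inf_le_right) hfix, br_br hQR.le]
          have hcomm : br R (E Q) * E R = E R * br R (E Q) :=
            (centralIn_br ((hEc Q hQ).2.mono (centralizer_anti hQR.le))).commute_of_supp (hEc R hRP).1
          conv_lhs => rw [← haQ R hRP (by omega), mul_assoc, ← hcomm, hocc]
          exact haQ R hRP (by omega)
        have h2 := congrArg (fun z : KG M G => z.coeff g) h1
        simp only [coeff_br, if_pos hgR] at h2
        exact h2.symm
    refine ⟨a', isFixed_iff.mpr fun v hv g => ?_, ?_, fun Q hQ hn => ?_⟩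
    · have hmap : D (v * g * v⁻¹) = (D g).map (MulAut.conj v).toMonoidHom := by
        ext w
        constructor
        · rintro ⟨hw, hwc⟩
          refine ⟨v⁻¹ * w * v, ⟨P.mul_mem (P.mul_mem (P.inv_mem hv) hw) hv,
            Subgroup.mem_centralizer_singleton_iff.mpr ?_⟩, by simp [mul_assoc]⟩
          have h := Subgroup.mem_centralizer_singleton_iff.mp hwc
          calc v⁻¹ * w * v * g = v⁻¹ * (w * (v * g * v⁻¹)) * v := by group
            _ = g * (v⁻¹ * w * v) := by rw [h]; group
        · rintro ⟨z, ⟨hz, hzc⟩, rfl⟩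
          refine ⟨P.mul_mem (P.mul_mem hv hz) (P.inv_mem hv), Subgroup.mem_centralizer_singleton_iff.mpr ?_⟩
          show v * z * v⁻¹ * (v * g * v⁻¹) = v * g * v⁻¹ * (v * z * v⁻¹)
          calc v * z * v⁻¹ * (v * g * v⁻¹) = v * (z * g) * v⁻¹ := by group
            _ = _ := by rw [Subgroup.mem_centralizer_singleton_iff.mp hzc]; group
      have hcard : Nat.card (D (v * g * v⁻¹)) = Nat.card (D g) := by
        rw [hmap]; exact Subgroup.card_map_of_injective (MulEquiv.injective _)
      simp only [a', coeff_ofFun, hcard]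
      rw [hmap]
      split_ifs
      · rw [← hEcj v hv (D g) inf_le_left]
        conv_lhs => rw [← hafix v hv, ← cjA_br, ← map_mul, coeff_cjA]
        congr 1
        group
      · exact isFixed_iff.mp hafix v hv g
    · by_cases h0 : n = 0
      · rw [hkey P le_rfl (by omega), haP, hE P e .refl, hle]
      · rw [← haP]
        refine ext_coeff fun g => ?_
        simp only [coeff_br]
        split_ifs with hg
        · have : D g = P := le_antisymm inf_le_left (hgD le_rfl hg)
          simp only [a', coeff_ofFun, this, Nat.sub_self, if_neg (Ne.symm h0)]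
        · rfl
    · rcases Nat.lt_succ_iff_lt_or_eq.mp hn with hlt | heq
      · have : br Q a' = br Q a := ext_coeff fun g => by
          simp only [coeff_br]
          split_ifs with hg
          · have h1 := Subgroup.card_le_of_le (hgD hQ hg)
            simp only [a', coeff_ofFun]
            rw [if_neg (by omega)]
          · rfl
        rw [this]
        exact haQ Q hQ hlt
      · rw [hkey Q hQ heq, mul_assoc, hEE Q hQ]

end CfsgLib.NilBlock
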