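import Cfsg.Agent.Lib.NilBlock.Gram
import Cfsg.Agent.Lib.NilBlock.LocalElt
import Cfsg.Agent.Lib.NilBlock.LocalIdem
import Cfsg.Agent.Lib.NilBlock.RingP

/-!
# Integrality of the coefficient vectors

`Setup.mem_pairingRing`: the contributions against a character of height zero form a function on `P`
with local integral pairings; `Setup.isIntegral_coeff`: its inner products with `Irr P` are
algebraic integers.
-/

set_option autoImplicit false

noncomputable section

namespace CfsgLib.NilBlock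

open Cfsg CfsgLib.Blocks CfsgLib.BlockArith CfsgLib.Char CfsgLib.BrauerPairs
open scoped ComplexConjugate Classical

attribute [local instance] CfsgLib.Blocks.resField

universe u

variable {G : Type u} [Group G] [Fintype G] {M : Ideal AlgInt} [M.IsMaximal] {p : ℕ} [hp : Fact p.Prime]
  {B : Set (IrrCharacter G)} {P : Subgroup G} {e : Set (IrrCharacter (Cen P))}
  {β : (x : P) → Set (IrrCharacter (Cen (Subgroup.zpowers (x : G))))} {χ₀ : IrrCharacter G}

omit [M.IsMaximal] hp in
theorem toCA_single_one [M.IsMaximal] (g : G) :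
    toCA M G (MonoidAlgebra.single g 1) = MonoidAlgebra.single g 1 := by
  simp [toCA]

/-- The value at `x ≠ 1` of the local character of `χ`. -/
theorem Setup.eval_idem (S : Setup p M B P e β) {i : LA M G} (hi : i * i = i)
    (hcomm : ∀ w ∈ P, Commute i (MonoidAlgebra.single w 1))
    (hbr : ∀ (Q : Subgroup G) (f : Set (IrrCharacter (Cen Q))), SubpairLE p M Q f P e →
        br Q (redLA M G i) * pid M ⟨Q, f⟩ = br Q (redLA M G i)) (x : P) :
    ∃ j : LA M (Cen (Subgroup.zpowers (x : G))), ∀ χ : IrrCharacter G,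
      charLin (χ : G → ℂ) (MonoidAlgebra.single (x : G) 1 * toCA M G i) =
        ∑ k : Cen (Subgroup.zpowers (x : G)), if p ∣ orderOf k then 0 else
          (j.coeff k : ℂ) * secH (x : G) (Cen (Subgroup.zpowers (x : G))) (β x) χ k := by
  have hu := exists_pow_of_mem S.isPGroup x.2
  have hQ : IsPGroup p (Subgroup.zpowers (x : G)) := isPGroup_zpowers hu
  obtain ⟨y, hy⟩ : ∃ y, y = br (Subgroup.zpowers (x : G)) (redLA M G i) := ⟨_, rfl⟩
  have hyy : y * y = y := by
    rw [hy, ← br_mul S.hM hQ (isFixed_redLA (hcomm x x.2)) (isFixed_redLA (hcomm x x.2)), ← map_mul, hi]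
  have hb := (S.pairOf x).1.2
  obtain ⟨x', hx'⟩ : ∃ x' : KG M (Cen (Subgroup.zpowers (x : G))), emb (Cen (Subgroup.zpowers (x : G))) x' = y := by
    refine ⟨ofFun fun c => y.coeff (c : G), ext_coeff fun g => ?_⟩
    by_cases hg : g ∈ Cen (Subgroup.zpowers (x : G))
    · rw [show g = ((⟨g, hg⟩ : Cen (Subgroup.zpowers (x : G))) : G) from rfl, coeff_emb, coeff_ofFun]
    · rw [coeff_emb_of_notMem _ _ hg, hy, coeff_br, if_neg hg]
  have hxx : x' * x' = x' := emb_injective _ (by rw [map_mul, hx', hyy])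
  have hxb : x' * ridem hb = x' := emb_injective _ (by
    rw [map_mul, hx', ← gidem_eq_emb hb, hy]; exact hbr _ _ (S.hβ x))
  obtain ⟨j, b, hab, -, hjj, -, -, -, m, hm⟩ := exists_spectral S.hM (liftLA M x')
  have hjred : x' = redLA M _ j := by
    refine eq_of_spectral (y := redLA M _ b) ?_ (m := m) ?_ hxx
    · have h := congrArg (redLA M _) hab
      rwa [map_mul, redLA_liftLA] at h
    · rw [map_mul, map_pow, map_sub, map_one, redLA_liftLA] at hm
      exact hm
  refine ⟨j, fun χ => ?_⟩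
  have hcl := isClassFunction_of_isIrr χ.2
  rw [← toCA_single_one (M := M) (x : G), ← map_mul,
    charLin_single_mul_transfer S.hM hu hcl hi (hcomm x x.2) hjj (by rw [← hjred, hx', hy]),
    sum_single_section S.hM hcl hjj hb fun b' hb' hne => ?_]
  · rfl
  · rw [← hjred, ← hxb, mul_assoc, ridem_mul_of_ne hb hb' (Ne.symm hne), mul_zero]

theorem Setup.mem_pairingRing (S : Setup p M B P e β) (h₀ : χ₀ ∈ B)
    (hh₀ : blockHeight p B (χ₀ : G → ℂ) = 0) {ψ : IrrCharacter G} (hψ : ψ ∈ B) :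
    (fun x => cc p β x ψ χ₀) ∈ pairingRing M P := by
  have hM := S.hM
  have : CharP (Res M) p := res_charP M hM
  obtain ⟨l, hll, hsupp, hle, hne⟩ := exists_local_elt hM S.hmax.1 S.herank
  obtain ⟨i, hi, hcomm, hbrP, hbr⟩ := exists_local_idem hM S.hmax.1.1 hll hsupp hle
  let F : IrrCharacter G → P → ℂ := fun χ x =>
    charLin (χ : G → ℂ) (MonoidAlgebra.single (x : G) 1 * toCA M G i)
  have hF : ∀ χ : IrrCharacter G, IsCharacter P (F χ) := fun χ =>
    isCharacter_idem (isCharacter_of_isIrr χ.2) (i := toCA M G i) (by rw [← map_mul, hi]) fun w hw => by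
      rw [← toCA_single_one (M := M) w]
      exact (hcomm w hw).map (toCA M G)
  -- the unit
  have h1 : res M (cvalR M (hF χ₀) 1) ≠ 0 := by
    have hv : cvalR M (hF χ₀) 1 = ∑ g : G, i.coeff g * cvalR M (isCharacter_of_isIrr χ₀.2) g := by
      refine Subtype.ext ?_
      rw [coe_cvalR, AddSubmonoidClass.coe_finsetSum]
      show charLin (χ₀ : G → ℂ) (MonoidAlgebra.single ((1 : P) : G) 1 * toCA M G i) = _
      rw [Subgroup.coe_one, ← MonoidAlgebra.one_def, one_mul, charLin_apply]
      simp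
    rw [hv, map_sum]
    simp only [map_mul, ← coeff_redLA]
    let _ : MulAction P G := MulAction.compHom G (MulAut.conj.comp P.subtype)
    have hsm : ∀ (w : P) (g : G), w • g = (w : G) * g * (w : G)⁻¹ := fun _ _ => rfl
    rw [sum_eq_sum_fixedPoints (p := p) S.isPGroup _ fun w g => ?_, Finset.sum_filter]
    · refine fun h0 => hne χ₀ h₀ hh₀ (Eq.trans (Finset.sum_congr rfl fun g _ => ?_) h0)
      by_cases hg : g ∈ Cen P
      · rw [if_pos (show g ∈ MulAction.fixedPoints P G from MulAction.mem_fixedPoints.mpr fun w => by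
          rw [hsm]; exact mul_inv_eq_iff_eq_mul.mpr (Subgroup.mem_centralizer_iff.mp hg w w.2)),
          ← hbrP, coeff_br, if_pos hg]
      · rw [if_neg (show g ∉ MulAction.fixedPoints P G from fun h =>
          hg (Subgroup.mem_centralizer_iff.mpr fun w hw =>
            mul_inv_eq_iff_eq_mul.mp (MulAction.mem_fixedPoints.mp h ⟨w, hw⟩))), hsupp g hg, zero_mul]
    · rw [hsm]
      congr 1
      · rw [coeff_redLA, coeff_redLA, (commute_single_iff i (w : G)).mp (hcomm w w.2) g]
      · exact congrArg (res M) (Subtype.ext (isClassFunction_of_isIrr χ₀.2 g w))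
  have hunit : ∀ x : P, ∃ h : F χ₀ x ∈ locRing M, res M ⟨F χ₀ x, h⟩ ≠ 0 := fun x =>
    ⟨(cvalR M (hF χ₀) x).2, by
      show res M (cvalR M (hF χ₀) x) ≠ 0
      rwa [res_eq_res_one hM S.isPGroup (hF χ₀) x]⟩
  set f : P → ℂ := F ψ * fun x => (F χ₀ x)⁻¹ with hf
  have hfmem : f ∈ pairingRing M P :=
    Subring.mul_mem _ (char_mem_pairingRing (hF ψ)) (inv_mem_pairingRing (char_mem_pairingRing (hF χ₀)) hunit)
  -- away from the identity
  have hoff : ∀ x : P, x ≠ 1 → f x = cc p β x ψ χ₀ := by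
    intro x hx
    obtain ⟨j, hj⟩ := S.eval_idem hi hcomm hbr x
    have hFF : F ψ x = cc p β x ψ χ₀ * F χ₀ x := by
      simp only [F, hj, Finset.mul_sum]
      refine Finset.sum_congr rfl fun k _ => ?_
      split_ifs with hk
      · rw [mul_zero]
      · rw [S.secH_eq h₀ hh₀ hx ψ hk]; ring
    have h0 : F χ₀ x ≠ 0 := fun h => by
      obtain ⟨hm, hr⟩ := hunit x
      exact hr (by rw [show (⟨F χ₀ x, hm⟩ : locRing M) = 0 from Subtype.ext h, map_zero])
    rw [hf, Pi.mul_apply, hFF, mul_inv_cancel_right₀ h0]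
  obtain ⟨D, hD⟩ : ∃ D : ℂ, D = cc p β 1 ψ χ₀ - f 1 := ⟨_, rfl⟩
  have hsplit : ∀ θ : P → ℂ, ∑ x : P, cc p β x ψ χ₀ * θ x = (∑ x : P, f x * θ x) + D * θ 1 := by
    intro θ
    rw [← sub_eq_iff_eq_add', ← Finset.sum_sub_distrib,
      Finset.sum_eq_single (1 : P) (fun x _ hx => by rw [hoff x hx, sub_self])
        (fun h => absurd (Finset.mem_univ _) h), hD]
    ring
  have hDloc : (Nat.card P : ℂ)⁻¹ * D ∈ locRing M := by
    have hN : (Nat.card P : ℂ) ≠ 0 := card_ne_zero'
    have h := hsplit (fun _ => 1)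
    simp only [mul_one] at h
    rw [S.row hψ h₀] at h
    have h2 : (Nat.card P : ℂ)⁻¹ * D =
        (if ψ = χ₀ then (1 : ℂ) else 0) - (Nat.card P : ℂ)⁻¹ * ∑ x : P, f x := by
      rw [← inv_mul_cancel_left₀ hN (if ψ = χ₀ then (1 : ℂ) else 0), h]
      ring
    rw [h2]
    refine Subring.sub_mem _ (by split_ifs <;> first | exact Subring.one_mem _ | exact Subring.zero_mem _) ?_
    have := hfmem.2 (fun _ => 1) (isCharacter_one (G := P))
    simpa using this
  refine ⟨S.isClassFunction ψ χ₀, fun θ hθ => ?_⟩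
  rw [hsplit, mul_add, ← mul_assoc]
  exact Subring.add_mem _ (hfmem.2 θ hθ)
    (Subring.mul_mem _ hDloc (algInt_le_locRing M (char_isIntegral hθ 1)))

theorem Setup.isIntegral_coeff (S : Setup p M B P e β) (h₀ : χ₀ ∈ B)
    (hh₀ : blockHeight p B (χ₀ : G → ℂ) = 0) {ψ : IrrCharacter G} (hψ : ψ ∈ B) (μ : IrrCharacter P) :
    IsIntegral ℤ (classInner (fun x => cc p β x ψ χ₀) (μ : P → ℂ)) := by
  obtain ⟨k, hk⟩ := IsPGroup.iff_card.mp S.isPGroup
  refine isIntegral_of_local hp.out (n := k) ?_ fun M' hM' => ?_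
  · rw [classInner_def, ← mul_assoc, show (p : ℂ) ^ k = (Nat.card P : ℂ) by rw [hk, Nat.cast_pow],
      mul_inv_cancel₀ (card_ne_zero' : (Nat.card P : ℂ) ≠ 0), one_mul]
    exact IsIntegral.sum _ fun x _ => (S.integral x ψ χ₀).mul
      (map_isIntegral_int (starRingEnd ℂ) (char_isIntegral (isCharacter_of_isIrr μ.2) x))
  · have : M'.IsMaximal := hM'.2.1
    rw [classInner_def]
    exact ((S.change hM').mem_pairingRing h₀ hh₀ hψ).2 _ (isCharacter_conj (isCharacter_of_isIrr μ.2))

end CfsgLib.NilBlock
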