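import Cfsg.Agent.Lib.Blocks.SmallBlock
import Cfsg.Agent.Lib.BrauerPairs.Maximal
import Cfsg.Agent.Lib.FGS.FreeOverComplement

/-!
# Blocks of least dimension (Okuyama–Tsushima)

If the reduced block has dimension `p ^ (2 * a - d)`, then, as a module for `P × P`, it is the permutation
module on one orbit with stabiliser a diagonal of a defect group; so the fusion of its Brauer pairs is
induced by the Sylow subgroup.
-/

set_option autoImplicit false
set_option maxHeartbeats 400000

noncomputable section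

namespace CfsgLib.NilBlock.Minimal

open Subgroup

attribute [local instance] Classical.propDecidable

variable {G : Type*} [Group G] [Fintype G] {F : Type*} [Field F]

/-- Convolution by a fixed function. -/
def conv (e : G → F) : (G → F) →ₗ[F] (G → F) where
  toFun a y := ∑ x : G, e (y * x⁻¹) * a x
  map_add' a b := funext fun y => by simp [mul_add, Finset.sum_add_distrib]
  map_smul' c a := funext fun y => by simp [Finset.mul_sum, mul_left_comm]

variable (P : Subgroup G)

/-- Two-sided multiplication. -/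
instance twoSided : MulAction (P × P) G where
  smul w z := (w.1 : G) * z * (w.2 : G)⁻¹
  one_smul z := by show ((1 : P) : G) * z * ((1 : P) : G)⁻¹ = z; simp
  mul_smul w w' z := by
    show ((w.1 * w'.1 : P) : G) * z * ((w.2 * w'.2 : P) : G)⁻¹ = (w.1 : G) * ((w'.1 : G) * z * (w'.2 : G)⁻¹) * (w.2 : G)⁻¹
    simp [mul_assoc]

omit [Fintype G] in
theorem smul_def (w : P × P) (z : G) : w • z = (w.1 : G) * z * (w.2 : G)⁻¹ := rfl

/-- The action on functions. -/
def rho : P × P →* Module.End F (G → F) where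
  toFun w :=
    { toFun := fun a z => a (w⁻¹ • z)
      map_add' := fun _ _ => rfl
      map_smul' := fun _ _ => rfl }
  map_one' := LinearMap.ext fun a => funext fun z => by simp
  map_mul' w w' := LinearMap.ext fun a => funext fun z => by simp [mul_smul]

omit [Fintype G] in
theorem rho_apply (w : P × P) (a : G → F) (z : G) : rho P w a z = a (w⁻¹ • z) := rfl

/-- The sum of an orbit. -/
def ind (z : G) : G → F := fun x => if x ∈ MulAction.orbit (P × P) z then 1 else 0

variable {P}

theorem conv_rho {e : G → F} (hcl : ∀ g h : G, e (h * g * h⁻¹) = e g) (w : P × P) (a : G → F) :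
    conv e (rho P w a) = rho P w (conv e a) := by
  funext y
  show ∑ x : G, e (y * x⁻¹) * a (w⁻¹ • x) = ∑ x : G, e ((w⁻¹ • y) * x⁻¹) * a x
  refine Fintype.sum_equiv (MulAction.toPerm w⁻¹) _ _ fun x => ?_
  rw [MulAction.toPerm_apply, smul_def, smul_def]
  congr 1
  rw [← hcl (y * x⁻¹) ((w⁻¹).1 : G)]
  congr 1
  group

omit [Fintype G] in
/-- Fixed functions are constant on orbits. -/
theorem fixed_apply {a : G → F} (ha : ∀ w : P × P, rho P w a = a) {x z : G}
    (h : x ∈ MulAction.orbit (P × P) z) : a x = a z := by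
  obtain ⟨w, rfl⟩ := h
  have h1 := congrFun (ha w) (w • z)
  rw [rho_apply, inv_smul_smul] at h1
  exact h1.symm

/-- A fixed function is a combination of orbit sums. -/
theorem exists_ind_of_fixed {a : G → F} (ha : ∀ w : P × P, rho P w a = a) {e : G → F}
    (h : conv e a ≠ 0) : ∃ y, a y ≠ 0 ∧ conv e (ind P y) ≠ 0 := by
  by_contra hne
  push Not at hne
  refine h ?_
  have : a = ∑ q : MulAction.orbitRel.Quotient (P × P) G, a q.out • ind P q.out := by
    funext x
    rw [Finset.sum_apply, Finset.sum_eq_single (Quotient.mk'' x : MulAction.orbitRel.Quotient (P × P) G)]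
    · have hmem : x ∈ MulAction.orbit (P × P) (Quotient.mk'' x : MulAction.orbitRel.Quotient (P × P) G).out :=
        MulAction.orbitRel_apply.mp (Quotient.exact (Quotient.out_eq (Quotient.mk'' x)).symm)
      simp [ind, hmem, fixed_apply ha hmem]
    · intro q _ hq
      have : x ∉ MulAction.orbit (P × P) q.out := fun hm => hq (by
        rw [← Quotient.out_eq q]
        exact (Quotient.sound (MulAction.orbitRel_apply.mpr hm)).symm)
      simp [ind, this]
    · intro h; exact absurd (Finset.mem_univ _) h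
  rw [this, map_sum]
  refine Finset.sum_eq_zero fun q _ => ?_
  rw [map_smul]
  by_cases hq : a q.out = 0
  · rw [hq, zero_smul]
  · rw [hne _ hq, smul_zero]

theorem rho_ind (w : P × P) (z : G) : rho P w (ind P z : G → F) = ind P z := by
  funext x
  rw [rho_apply, ind, ind]
  exact if_congr (MulAction.mem_orbit_iff.trans ⟨fun ⟨m, hm⟩ => ⟨w * m, by
    show (w * m) • z = x
    rw [mul_smul, hm, smul_inv_smul]⟩, fun ⟨m, hm⟩ => ⟨w⁻¹ * m, by
    rw [mul_smul]; exact congrArg (w⁻¹ • ·) hm⟩⟩) rfl rfl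

variable {p : ℕ} [hp : Fact p.Prime] [CharP F p]

/-- The two-sided stabiliser as a subgroup of `P`. -/
def left (P : Subgroup G) (x : G) : Subgroup G :=
  (MulAction.stabilizer (P × P) x).map (P.subtype.comp (MonoidHom.fst P P))

omit [Fintype G] in
theorem card_left (P : Subgroup G) (x : G) :
    Nat.card (left P x) = Nat.card (MulAction.stabilizer (P × P) x) := by
  refine (Nat.card_congr (Equiv.ofBijective
    (fun w : MulAction.stabilizer (P × P) x => (⟨((w : P × P).1 : G), ⟨w, w.2, rfl⟩⟩ : left P x))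
    ⟨fun w w' h => ?_, fun t => ?_⟩)).symm
  · have h1 : ((w : P × P).1 : G) = ((w' : P × P).1 : G) := congrArg (fun t : left P x => (t : G)) h
    have hw : ((w : P × P).1 : G) * x * ((w : P × P).2 : G)⁻¹ = x := w.2
    have hw' : ((w' : P × P).1 : G) * x * ((w' : P × P).2 : G)⁻¹ = x := w'.2
    refine Subtype.ext (Prod.ext (Subtype.ext h1) (Subtype.ext ?_))
    rw [h1] at hw
    exact inv_injective (mul_left_cancel (hw.trans hw'.symm))
  · obtain ⟨w, hw, hwt⟩ := t.2
    exact ⟨⟨w, hw⟩, Subtype.ext hwt⟩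

omit [Fintype G] in
theorem commute_left {x y : G} (h : MulAction.stabilizer (P × P) x ≤ MulAction.stabilizer (P × P) y) :
    y * x⁻¹ ∈ centralizer ((left P x : Subgroup G) : Set G) := by
  refine mem_centralizer_iff.mpr fun t ht => ?_
  obtain ⟨w, hw, rfl⟩ := ht
  have h1 : (w.1 : G) * x * (w.2 : G)⁻¹ = x := hw
  have h2 : (w.1 : G) * y * (w.2 : G)⁻¹ = y := h hw
  show (w.1 : G) * (y * x⁻¹) = y * x⁻¹ * (w.1 : G)
  calc (w.1 : G) * (y * x⁻¹) = (w.1 : G) * y * (w.2 : G)⁻¹ * ((w.1 : G) * x * (w.2 : G)⁻¹)⁻¹ * (w.1 : G) := by group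
    _ = _ := by rw [h1, h2]

variable {e : G → F} (hcl : ∀ g h : G, e (h * g * h⁻¹) = e g)
  (hid : ∀ a : G → F, conv e (conv e a) = conv e a) (hPp : IsPGroup p P)

theorem isPGroup_prod (hPp : IsPGroup p P) : IsPGroup p (P × P) := by
  obtain ⟨k, hk⟩ := IsPGroup.iff_card.mp hPp
  exact IsPGroup.of_card (n := k + k) (by rw [Nat.card_prod, hk, pow_add])

include hcl hid hPp in
/-- Some orbit with a small stabiliser survives. -/
theorem exists_small (d : ℕ)
    (hbr : ∀ T : Subgroup G, T ≤ P → p ^ d < Nat.card T → ∀ c ∈ centralizer (T : Set G), e c = 0) :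
    ∀ n (z : G), Nat.card (MulAction.stabilizer (P × P) z) = n → conv e (ind P z) ≠ 0 →
      ∃ z', Nat.card (MulAction.stabilizer (P × P) z') ≤ p ^ d ∧ conv e (ind P z') ≠ 0 := by
  intro n
  induction n using Nat.strong_induction_on with
  | _ n ih =>
  intro z hz hne
  by_cases hsmall : n ≤ p ^ d
  · exact ⟨z, hz ▸ hsmall, hne⟩
  set g := conv e (ind P z) with hg
  have hgfix : ∀ w : P × P, rho P w g = g := fun w => by rw [hg, ← conv_rho hcl, rho_ind]
  obtain ⟨y, hy, hyne⟩ := exists_ind_of_fixed hgfix (e := e) (by rw [hg, hid]; exact hne)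
  refine ih _ ?_ y rfl hyne
  -- the stabiliser of `y` fixes a term of `g y`
  set R := MulAction.stabilizer (P × P) y
  obtain ⟨x, hxO, hxR, hxe⟩ : ∃ x ∈ MulAction.orbit (P × P) z, R ≤ MulAction.stabilizer (P × P) x ∧
      e (y * x⁻¹) ≠ 0 := by
    by_contra hne'
    push Not at hne'
    refine hy ?_
    show ∑ x : G, e (y * x⁻¹) * ind P z x = 0
    rw [CfsgLib.Blocks.sum_eq_sum_fixedPoints (p := p) ((isPGroup_prod hPp).to_subgroup R) _ fun r x => ?_]
    · refine Finset.sum_eq_zero fun x hx => ?_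
      by_cases hxO : x ∈ MulAction.orbit (P × P) z
      · rw [hne' x hxO fun r hr => MulAction.mem_stabilizer_iff.mpr
          ((Finset.mem_filter.mp hx).2 ⟨r, hr⟩), zero_mul]
      · rw [ind, if_neg hxO, mul_zero]
    · have h1 : ((r : P × P).1 : G) * y * ((r : P × P).2 : G)⁻¹ = y := r.2
      congr 1
      · rw [show r • x = ((r : P × P).1 : G) * x * ((r : P × P).2 : G)⁻¹ from rfl,
          ← hcl (y * x⁻¹) ((r : P × P).1 : G)]
        congr 1
        conv_lhs => rw [← h1]
        group
      · exact fixed_apply (fun w => rho_ind w z) (MulAction.mem_orbit x (r : P × P)) |>.trans rfl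
  have hcard : Nat.card (MulAction.stabilizer (P × P) x) = n := by
    obtain ⟨w, rfl⟩ := hxO
    rw [← hz, MulAction.stabilizer_smul_eq_stabilizer_map_conj]
    exact Subgroup.card_map_of_injective (MulEquiv.injective _)
  refine lt_of_le_of_ne (hcard ▸ Subgroup.card_le_of_le hxR) fun heq => hxe ?_
  refine hbr (left P x) ?_ (by rw [card_left, hcard]; omega) _ (commute_left ?_)
  · rintro _ ⟨w, -, rfl⟩; exact w.1.2
  · exact (Subgroup.eq_of_le_of_card_ge hxR (by rw [hcard]; exact heq.ge)).symm.le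

include hcl hid hPp in
/-- **The core.** -/
theorem fusion (a d : ℕ) (hPc : Nat.card P = p ^ a) (hd : d ≤ a) (he : conv e ≠ 0)
    (hdim : Module.finrank F (LinearMap.range (conv e)) ≤ p ^ (2 * a - d))
    (hbr : ∀ T : Subgroup G, T ≤ P → p ^ d < Nat.card T → ∀ c ∈ centralizer (T : Set G), e c = 0)
    (D : Subgroup G) (hDP : D ≤ P) (hDc : Nat.card D = p ^ d) (hDe : ∃ c ∈ centralizer (D : Set G), e c ≠ 0)
    (Q : Subgroup G) (hQP : Q ≤ P) (hQe : ∃ c ∈ centralizer (Q : Set G), e c ≠ 0)
    (g : G) (hg : g ∈ normalizer (Q : Set G)) :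
    ∃ h ∈ P, ∀ q ∈ Q, g⁻¹ * q * g = h⁻¹ * q * h := by
  have hW := isPGroup_prod hPp
  -- some orbit survives
  obtain ⟨z₀, hz₀⟩ : ∃ z, conv e (ind P z) ≠ 0 := by
    have : Nontrivial (LinearMap.range (conv e)) := by
      rw [Submodule.nontrivial_iff_ne_bot, Ne, LinearMap.range_eq_bot]
      exact he
    let ρ' : P × P →* Module.End F (LinearMap.range (conv e)) :=
      { toFun := fun w => (rho P w).restrict (p := LinearMap.range (conv e)) (q := LinearMap.range (conv e))
          (by rintro _ ⟨v, rfl⟩; exact ⟨rho P w v, conv_rho hcl w v⟩)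
        map_one' := LinearMap.ext fun v => Subtype.ext (by simp)
        map_mul' := fun w w' => LinearMap.ext fun v => Subtype.ext (by simp) }
    obtain ⟨⟨u, hu⟩, hu0, hfix⟩ := CfsgLib.FGS.FreeCompl.exists_fixed_of_pGroup (p := p) hW ρ'
    obtain ⟨v, rfl⟩ := hu
    obtain ⟨y, -, hy⟩ := exists_ind_of_fixed (a := conv e v) (fun w => congrArg Subtype.val (hfix w)) (e := e)
      (by rw [hid]; exact fun h => hu0 (Subtype.ext h))
    exact ⟨y, hy⟩
  obtain ⟨z, hzs, hz⟩ := exists_small hcl hid hPp d hbr _ z₀ rfl hz₀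
  -- the orbit
  set O := MulAction.orbit (P × P) z with hO
  let ι : (O → F) →ₗ[F] (G → F) :=
    { toFun := fun b x => if h : x ∈ O then b ⟨x, h⟩ else 0
      map_add' := fun b c => funext fun x => by by_cases h : x ∈ O <;> simp [h]
      map_smul' := fun c b => funext fun x => by by_cases h : x ∈ O <;> simp [h] }
  have hιO : ∀ (b : O → F) (x : G), x ∉ O → ι b x = 0 := fun b x hx => dif_neg hx
  have hker : ∀ f : G → F, (∀ x, x ∉ O → f x = 0) → conv e f = 0 → f = 0 := by
    let K : Submodule F (G → F) :=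
      { carrier := {f | (∀ x, x ∉ O → f x = 0) ∧ conv e f = 0}
        add_mem' := fun {f f'} hf hf' => ⟨fun x hx => by simp [hf.1 x hx, hf'.1 x hx], by
          rw [map_add, hf.2, hf'.2, add_zero]⟩
        zero_mem' := ⟨fun _ _ => rfl, map_zero _⟩
        smul_mem' := fun c f hf => ⟨fun x hx => by simp [hf.1 x hx], by rw [map_smul, hf.2, smul_zero]⟩ }
    intro f hf hf0
    by_contra hne
    have : Nontrivial K := ⟨⟨⟨f, hf, hf0⟩, 0, fun h => hne (congrArg Subtype.val h)⟩⟩
    let ρ' : P × P →* Module.End F K :=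
      { toFun := fun w => (rho P w).restrict (p := K) (q := K) (fun v hv =>
          ⟨fun x hx => hv.1 _ fun hmem => hx (by
            have := MulAction.mem_orbit_of_mem_orbit w hmem
            rwa [smul_inv_smul] at this), by rw [conv_rho hcl, hv.2, map_zero]⟩)
        map_one' := LinearMap.ext fun v => Subtype.ext (by simp)
        map_mul' := fun w w' => LinearMap.ext fun v => Subtype.ext (by simp) }
    obtain ⟨⟨u, hu1, hu2⟩, hu0, hfix⟩ := CfsgLib.FGS.FreeCompl.exists_fixed_of_pGroup (p := p) hW ρ'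
    obtain ⟨y, hy, hyz⟩ : ∃ y, u y ≠ 0 ∧ True := by
      by_contra h
      push Not at h
      exact hu0 (Subtype.ext (funext fun y => by_contra fun hy => (h y hy).elim))
    have hfix' : ∀ w : P × P, rho P w u = u := fun w => congrArg Subtype.val (hfix w)
    have hyO : y ∈ O := by_contra fun h => hy (hu1 y h)
    have hu : u = u z • ind P z := by
      funext x
      by_cases hx : x ∈ O
      · simp [ind, show x ∈ MulAction.orbit (P × P) z from hx, fixed_apply hfix' hx]
      · simp [ind, show x ∉ MulAction.orbit (P × P) z from hx, hu1 x hx]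
    rw [hu, map_smul, smul_eq_zero] at hu2
    rcases hu2 with h | h
    · exact hy ((fixed_apply hfix' hyO).trans h)
    · exact hz h
  have hinj : Function.Injective ((conv e).comp ι) := by
    refine (injective_iff_map_eq_zero _).mpr fun b hb => ?_
    have h := hker (ι b) (hιO b) hb
    funext x
    have := congrFun h x
    simpa [ι, x.2] using this
  have hle : LinearMap.range ((conv e).comp ι) ≤ LinearMap.range (conv e) := LinearMap.range_comp_le_range _ _
  have hrank : Module.finrank F (LinearMap.range ((conv e).comp ι)) = Nat.card O := by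
    rw [LinearMap.finrank_range_of_inj hinj, Module.finrank_pi, Nat.card_eq_fintype_card]
  have horb : Nat.card O * Nat.card (MulAction.stabilizer (P × P) z) = p ^ (2 * a) := by
    rw [hO, Nat.card_coe_set_eq, ← MulAction.index_stabilizer, Subgroup.index_mul_card, Nat.card_prod, hPc,
      two_mul, pow_add]
  have hOc : Nat.card O ≤ p ^ (2 * a - d) := by
    rw [← hrank]
    exact (Submodule.finrank_mono hle).trans hdim
  have hpow : p ^ (2 * a - d) * p ^ d = p ^ (2 * a) := by rw [← pow_add, Nat.sub_add_cancel (by omega)]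
  have hzc : Nat.card (MulAction.stabilizer (P × P) z) = p ^ d := by
    refine le_antisymm hzs ?_
    by_contra h
    have h1 : Nat.card O * Nat.card (MulAction.stabilizer (P × P) z) < p ^ (2 * a - d) * p ^ d :=
      Nat.mul_lt_mul_of_le_of_lt hOc (not_le.mp h) (pow_pos hp.out.pos _)
    omega
  have hsurj : LinearMap.range ((conv e).comp ι) = LinearMap.range (conv e) := by
    refine Submodule.eq_of_le_of_finrank_le hle ?_
    rw [hrank]
    refine hdim.trans (le_of_eq ?_)
    rw [hzc] at horb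
    exact (Nat.eq_of_mul_eq_mul_right (pow_pos hp.out.pos _) (horb.trans hpow.symm)).symm
  -- a member of the orbit fixed by the twisted diagonal of `Q`
  have key : ∀ (Q : Subgroup G), Q ≤ P → (∃ c ∈ centralizer (Q : Set G), e c ≠ 0) →
      ∀ g ∈ normalizer (Q : Set G), ∃ x ∈ O, ∀ q ∈ Q, q * x = x * (g⁻¹ * q * g) := by
    intro Q hQP ⟨c, hc, hce⟩ g hg
    have hgQ : ∀ q ∈ Q, g⁻¹ * q * g ∈ Q := fun q hq => (mem_normalizer_iff''.mp hg q).mp hq
    let φ : Q →* P × P :=
      { toFun := fun q => (⟨q, hQP q.2⟩, ⟨g⁻¹ * q * g, hQP (hgQ q q.2)⟩)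
        map_one' := by ext <;> simp
        map_mul' := fun q q' => by ext <;> simp [mul_assoc] }
    have hφ : ∀ (q : Q) (x : G), φ q • x = (q : G) * x * (g⁻¹ * (q : G) * g)⁻¹ := fun q x => rfl
    let f : G → F := conv e (fun x => if x = g then 1 else 0)
    have hf : ∀ y, f y = e (y * g⁻¹) := fun y => by
      show ∑ x : G, e (y * x⁻¹) * (if x = g then (1 : F) else 0) = _
      simp
    obtain ⟨b, hb⟩ : f ∈ LinearMap.range ((conv e).comp ι) := hsurj ▸ LinearMap.mem_range_self _ _
    have hffix : ∀ r ∈ φ.range, rho P r f = f := by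
      rintro _ ⟨q, rfl⟩
      funext y
      rw [rho_apply, hf, hf, smul_def, ← hcl (y * g⁻¹) ((φ q)⁻¹).1]
      congr 1
      show (q : G)⁻¹ * y * (((g⁻¹ * (q : G) * g)⁻¹ : G))⁻¹ * g⁻¹ = (q : G)⁻¹ * (y * g⁻¹) * ((q : G)⁻¹)⁻¹
      group
    have hbfix : ∀ r ∈ φ.range, rho P r (ι b) = ι b := fun r hr => sub_eq_zero.mp <| hker _
      (fun x hx => by
        rw [Pi.sub_apply, rho_apply, hιO b x hx, hιO b _ fun hmem => hx (by
          have := MulAction.mem_orbit_of_mem_orbit r hmem
          rwa [smul_inv_smul] at this), sub_zero])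
      (by
        rw [map_sub, conv_rho hcl]
        show rho P r ((conv e).comp ι b) - (conv e).comp ι b = 0
        rw [hb, hffix r hr, sub_self])
    set y := c * g with hy
    have hyfix : ∀ r : φ.range, (r : P × P) • y = y := by
      rintro ⟨_, q, rfl⟩
      rw [hφ, hy, ← mul_assoc (q : G) c g, (mem_centralizer_iff.mp hc q q.2)]
      group
    by_contra hne
    push Not at hne
    apply hce
    have h0 : f y = 0 := by
      rw [← hb]
      show ∑ x : G, e (y * x⁻¹) * ι b x = 0
      rw [CfsgLib.Blocks.sum_eq_sum_fixedPoints (p := p) (hW.to_subgroup φ.range) _ fun r x => ?_]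
      · refine Finset.sum_eq_zero fun x hx => ?_
        by_cases hxO : x ∈ O
        · exfalso
          obtain ⟨q, hq, hqx⟩ := hne x hxO
          refine hqx ?_
          have h := (Finset.mem_filter.mp hx).2 ⟨φ ⟨q, hq⟩, ⟨q, hq⟩, rfl⟩
          have h' : q * x * (g⁻¹ * q * g)⁻¹ = x := h
          exact mul_inv_eq_iff_eq_mul.mp h'
        · rw [hιO b x hxO, mul_zero]
      · have h1 := hyfix r
        rw [smul_def] at h1
        congr 1
        · rw [show r • x = ((r : P × P).1 : G) * x * ((r : P × P).2 : G)⁻¹ from rfl,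
            ← hcl (y * x⁻¹) ((r : P × P).1 : G)]
          congr 1
          conv_lhs => rw [← h1]
          group
        · have h2 := congrFun (hbfix r r.2) (r • x)
          rw [rho_apply] at h2
          refine h2.symm.trans (congrArg (ι b) ?_)
          show (r : P × P)⁻¹ • ((r : P × P) • x) = x
          rw [inv_smul_smul]
    rw [hf, hy, mul_inv_cancel_right] at h0
    exact h0
  obtain ⟨x₁, hx₁O, hx₁⟩ := key D hDP hDe 1 (one_mem _)
  obtain ⟨x, hxO, hx⟩ := key Q hQP hQe g hg
  -- the stabiliser of `x₁` is the diagonal of `D`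
  have hstab : ∀ w ∈ MulAction.stabilizer (P × P) x₁, (w.2 : G) = (w.1 : G) := by
    let δ : D →* P × P :=
      { toFun := fun q => (⟨q, hDP q.2⟩, ⟨q, hDP q.2⟩)
        map_one' := rfl
        map_mul' := fun _ _ => rfl }
    have hδle : δ.range ≤ MulAction.stabilizer (P × P) x₁ := by
      rintro _ ⟨q, rfl⟩
      have h := hx₁ q q.2
      rw [inv_one, one_mul, mul_one] at h
      show (q : G) * x₁ * (q : G)⁻¹ = x₁
      rw [h, mul_inv_cancel_right]
    have hcx : Nat.card (MulAction.stabilizer (P × P) x₁) = p ^ d := by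
      obtain ⟨w, rfl⟩ := hx₁O
      rw [← hzc, MulAction.stabilizer_smul_eq_stabilizer_map_conj]
      exact Subgroup.card_map_of_injective (MulEquiv.injective _)
    have hδc : Nat.card δ.range = p ^ d := by
      rw [← hDc]
      exact (Nat.card_congr (MonoidHom.ofInjective (f := δ) fun q q' h =>
        Subtype.ext (congrArg (fun r : P × P => (r.1 : G)) h)).toEquiv).symm
    intro w hw
    rw [← Subgroup.eq_of_le_of_card_ge hδle (by rw [hcx, hδc])] at hw
    obtain ⟨q, rfl⟩ := hw
    rfl
  obtain ⟨w, hw⟩ : x ∈ MulAction.orbit (P × P) x₁ := by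
    rw [MulAction.orbit_eq_iff.mpr hx₁O]; exact hxO
  refine ⟨(w.1 : G) * (w.2 : G)⁻¹, P.mul_mem w.1.2 (P.inv_mem w.2.2), fun q hq => ?_⟩
  have hq' : g⁻¹ * q * g ∈ P := hQP ((mem_normalizer_iff''.mp hg q).mp hq)
  have hmem : w⁻¹ * ((⟨q, hQP hq⟩, ⟨g⁻¹ * q * g, hq'⟩) : P × P) * w ∈ MulAction.stabilizer (P × P) x₁ := by
    rw [MulAction.mem_stabilizer_iff, mul_smul, mul_smul, show w • x₁ = x from hw, inv_smul_eq_iff,
      show w • x₁ = x from hw]
    show q * x * (g⁻¹ * q * g)⁻¹ = x
    rw [hx q hq, mul_inv_cancel_right]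
  have h2 : (w.2 : G)⁻¹ * (g⁻¹ * q * g) * (w.2 : G) = (w.1 : G)⁻¹ * q * (w.1 : G) := hstab _ hmem
  calc g⁻¹ * q * g = (w.2 : G) * ((w.2 : G)⁻¹ * (g⁻¹ * q * g) * (w.2 : G)) * (w.2 : G)⁻¹ := by group
    _ = _ := by rw [h2]; group

open Cfsg CfsgLib.Blocks CfsgLib.BrauerPairs

attribute [local instance] resField

/-- **Okuyama–Tsushima.** -/
theorem isNilpotentBlock {G : Type*} [Group G] [Fintype G] {p : ℕ} [Fact p.Prime] {M : Ideal AlgInt}
    [M.IsMaximal] (hM : IsPModular p M) {B : Set (IrrCharacter G)} (hB : IsPBlock M B) {D : Subgroup G}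
    (hD : IsDefectGroup p M B D) (a d : ℕ) (ha : (Nat.card G).factorization p = a) (hd : Nat.card D = p ^ d)
    (hmin : ∑ᶠ χ ∈ B, charDegree (χ : G → ℂ) ^ 2 = p ^ (2 * a - d)) : IsNilpotentBlock p M B := by
  haveI : CharP (Res M) p := res_charP M hM
  refine ⟨hB, fun Q b hQ x hx _ hxr => ?_⟩
  have hQp : IsPGroup p Q := hQ.1.1
  obtain ⟨P, hQP⟩ := hQp.exists_le_sylow
  have hPc : Nat.card (P : Subgroup G) = p ^ a := by rw [P.card_eq_multiplicity, ha]
  obtain ⟨y, hy⟩ : ∃ y, cj y D ≤ (P : Subgroup G) := by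
    obtain ⟨S, hS⟩ := (IsDefectGroup.isPGroup hD).exists_le_sylow
    obtain ⟨y, rfl⟩ := MulAction.exists_smul_eq G S P
    exact ⟨y, (cj_mono y hS).trans le_rfl⟩
  have hD' : IsDefectGroup p M B (cj y D) := IsDefectGroup.conj hB hD y
  set e : G → Res M := fun g => rcoeff (idem hB) g with he
  have hcl : ∀ g h : G, e (h * g * h⁻¹) = e g := fun g h =>
    (rcoeff_eq_of_isConj _ (isConj_iff.mpr ⟨h, rfl⟩)).symm
  have hconv : ∀ A : KG M G, conv e (fun z => A.coeff z) = fun z => (red (idem hB) * A).coeff z := fun A =>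
    funext fun z => by
      show ∑ x : G, e (z * x⁻¹) * A.coeff x = _
      rw [coeff_mul_eq_sum]
      exact Fintype.sum_equiv ((Equiv.inv G).trans (Equiv.mulLeft z)) _ _ fun x => by
        simp [coeff_red, e]
  have hid : ∀ f, conv e (conv e f) = conv e f := fun f => by
    obtain ⟨A, rfl⟩ : ∃ A : KG M G, (fun z => A.coeff z) = f := ⟨ofFun f, funext fun z => by simp⟩
    rw [hconv, hconv, ← mul_assoc, ← map_mul, idem_mul_self]
  have hrange : Module.finrank (Res M) (LinearMap.range (conv e)) = p ^ (2 * a - d) := by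
    have h := SmallBlock.finrank_range_idem (p := p) hM hB
    rw [← finsum_eq_sum_of_fintype, show (∑ᶠ χ : IrrCharacter G, if χ ∈ B then charDegree (χ : G → ℂ) ^ 2 else 0) =
      ∑ᶠ χ ∈ B, charDegree (χ : G → ℂ) ^ 2 by
        rw [finsum_mem_def]; exact finsum_congr fun χ => (Set.indicator_apply B (fun χ : IrrCharacter G => charDegree (χ : G → ℂ) ^ 2) χ).symm, hmin] at h
    rw [← h, ← LinearEquiv.finrank_map_eq (SmallBlock.coeffEquiv (Res M) G), ← LinearMap.range_comp,
      show (SmallBlock.coeffEquiv (Res M) G).toLinearMap.comp (LinearMap.mulLeft (Res M) (red (idem hB))) =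
          (conv e).comp (SmallBlock.coeffEquiv (Res M) G).toLinearMap from
        LinearMap.ext fun A => (hconv A).symm,
      LinearMap.range_comp, LinearEquiv.range, Submodule.map_top]
  have hne : conv e ≠ 0 := fun h => by
    rw [h, LinearMap.range_zero, finrank_bot] at hrange
    exact (pow_pos (Fact.out : p.Prime).pos _).ne hrange
  have hda : d ≤ a := by
    have h := Subgroup.card_dvd_of_le hy
    rw [card_cj, hd, hPc] at h
    exact (Nat.pow_dvd_pow_iff_le_right (Fact.out : p.Prime).one_lt).mp h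
  have hbr : ∀ T : Subgroup G, T ≤ P → p ^ d < Nat.card T → ∀ c ∈ Subgroup.centralizer (T : Set G), e c = 0 := by
    intro T hT hlt c hc
    by_contra hce
    obtain ⟨u, hu⟩ := (exists_rcoeff_ne_zero_iff hM hB hD (P.isPGroup'.to_le hT)).mp ⟨c, hc, hce⟩
    have := Subgroup.card_le_of_le hu
    rw [card_cj, hd] at this
    omega
  have hQe : ∃ c ∈ Subgroup.centralizer (Q : Set G), e c ≠ 0 := by
    by_contra h
    push Not at h
    have h1 := ((brauerPairOf_iff hM).mp hQ).2.2
    have h0 : br Q (gidemTop M B) = 0 := ext_coeff fun g => by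
      rw [coeff_br, gidemTop_eq hB]
      split_ifs with hg
      · simpa [ridem, coeff_red, e] using h g hg
      · simp
    rw [h0, zero_mul] at h1
    exact gidem_ne_zero hQ.1.2 h1.symm
  have hDe := (exists_rcoeff_ne_zero_iff hM hB hD' (P.isPGroup'.to_le hy)).mpr ⟨1, le_of_eq (by ext; simp [mem_cj])⟩
  obtain ⟨h, hhP, hh⟩ := fusion (P := (P : Subgroup G)) (e := e) (p := p) hcl hid P.isPGroup' a d hPc hda hne
    hrange.le hbr (cj y D) hy (by rw [card_cj, hd]) hDe Q hQP hQe x hx
  -- the automorphism is trivial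
  have hhN : h ∈ Subgroup.normalizer (Q : Set G) := by
    have h1 : ∀ q ∈ Q, h⁻¹ * q * h ∈ Q := fun q hq => hh q hq ▸ (Subgroup.mem_normalizer_iff''.mp hx q).mp hq
    refine Subgroup.mem_normalizer_iff''.mpr fun q => ⟨h1 q, fun hq => ?_⟩
    have h2 := (Subgroup.mem_normalizer_iff''.mp hx (x * (h⁻¹ * q * h) * x⁻¹)).mpr (by simpa [mul_assoc] using hq)
    have h3 := hh _ h2
    rw [show x⁻¹ * (x * (h⁻¹ * q * h) * x⁻¹) * x = h⁻¹ * q * h by group] at h3
    rwa [mul_left_cancel (mul_right_cancel h3)]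
  let φ := Subgroup.normalizerMonoidHom Q
  have hφ : φ ⟨x, hx⟩⁻¹ = φ ⟨h, hhN⟩⁻¹ := MulEquiv.ext fun q => Subtype.ext (by
    have e1 := hh q q.2
    simpa [φ] using e1)
  rw [map_inv, map_inv, inv_inj] at hφ
  have h1 : φ ⟨x, hx⟩ = 1 := by
    rw [← orderOf_eq_one_iff]
    obtain ⟨k, hk⟩ := IsPGroup.iff_orderOf.mp P.isPGroup' ⟨h, hhP⟩
    rw [Subgroup.orderOf_mk] at hk
    refine Nat.eq_one_of_dvd_coprimes ?_ ((orderOf_map_dvd φ ⟨x, hx⟩).trans (by rw [Subgroup.orderOf_mk]))
      (hφ ▸ (orderOf_map_dvd φ ⟨h, hhN⟩).trans (by rw [Subgroup.orderOf_mk, hk]))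
    exact Nat.Coprime.pow_right k ((Fact.out : p.Prime).coprime_iff_not_dvd.mpr hxr).symm
  have hker : (⟨x, hx⟩ : Subgroup.normalizer (Q : Set G)) ∈ φ.ker := h1
  rw [Subgroup.normalizerMonoidHom_ker] at hker
  exact hker

end CfsgLib.NilBlock.Minimal
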