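import Cfsg.Agent.Lib.BrauerPairs.Nilpotent
import Cfsg.Agent.Lib.BlockArith.QuotientRank

/-!
# The block dominated modulo a central `p`-subgroup of a nilpotent block is nilpotent

* `quotHom`, `quotHom_br`, `quotHom_gidemTop`: reduction modulo `Z` and the Brauer maps;
* `isNilpotentBlock_inflSet`.
-/

set_option autoImplicit false

noncomputable section

namespace CfsgLib.NilBlock

open Cfsg CfsgLib.Blocks CfsgLib.BrauerPairs CfsgLib.BlockArith
open scoped ComplexConjugate

universe u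

variable {M : Ideal AlgInt} [M.IsMaximal] {G : Type u} [Group G] [Fintype G] {p : ℕ}
  (Z : Subgroup G) [Z.Normal] [Fintype (G ⧸ Z)]

/-- Reduction of the group algebra modulo `Z`. -/
def quotHom : KG M G →+* KG M (G ⧸ Z) := MonoidAlgebra.mapDomainRingHom (Res M) (QuotientGroup.mk' Z)

open Classical in
theorem coeff_quotHom (x : KG M G) (q : G ⧸ Z) :
    (quotHom Z x).coeff q = ∑ g : G, if (g : G ⧸ Z) = q then x.coeff g else 0 := by
  show (MonoidAlgebra.mapDomain (QuotientGroup.mk' Z) x).coeff q = _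
  rw [MonoidAlgebra.coeff_mapDomain, Finsupp.mapDomain, Finsupp.sum_fintype _ _ (fun _ => Finsupp.single_zero _),
    Finsupp.finsetSum_apply]
  exact Finset.sum_congr rfl fun g _ => Finsupp.single_apply

theorem quotHom_cjA (w : G) (x : KG M G) : quotHom Z (cjA w x) = cjA (w : G ⧸ Z) (quotHom Z x) := by
  classical
  refine ext_coeff fun q => ?_
  rw [coeff_cjA, coeff_quotHom, coeff_quotHom]
  refine Fintype.sum_equiv (MulAut.conj w).symm.toEquiv _ _ fun g => ?_
  simp only [MulEquiv.toEquiv_eq_coe, EquivLike.coe_coe, MulAut.conj_symm_apply, coeff_cjA]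
  refine if_congr ?_ rfl rfl
  rw [QuotientGroup.mk_mul, QuotientGroup.mk_mul, QuotientGroup.mk_inv]
  constructor
  · rintro rfl; rfl
  · intro h
    have := congrArg (fun z => (w : G ⧸ Z) * z * (w : G ⧸ Z)⁻¹) h
    simpa [mul_assoc] using this

theorem isFixed_quotHom {Q : Subgroup G} {x : KG M G} (hx : IsFixed Q x) :
    IsFixed (Q.map (QuotientGroup.mk' Z)) (quotHom Z x) := by
  rintro _ ⟨v, hv, rfl⟩
  show cjA (v : G ⧸ Z) _ = _
  rw [← quotHom_cjA, hx v hv]

theorem quotHom_br (hM : IsPModular p M) {Q : Subgroup G} (hQ : IsPGroup p Q) {x : KG M G}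
    (hx : IsFixed Q x) :
    quotHom Z (br Q x) = br (Q.map (QuotientGroup.mk' Z)) (quotHom Z x) := by
  classical
  have : Fact p.Prime := ⟨hM.1⟩
  have : CharP (Res M) p := res_charP M hM
  refine ext_coeff fun q => ?_
  rw [coeff_br, coeff_quotHom]
  simp only [coeff_br]
  split_ifs with hq
  · rw [coeff_quotHom]
    let _ : MulAction Q G := MulAction.compHom G (MulAut.conj.comp Q.subtype)
    have hsm : ∀ (u : Q) (g : G), u • g = (u : G) * g * (u : G)⁻¹ := fun _ _ => rfl
    rw [sum_eq_sum_fixedPoints (p := p) hQ (fun g : G => if (g : G ⧸ Z) = q then x.coeff g else 0)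
      (fun u g => ?_), Finset.sum_filter]
    · refine Finset.sum_congr rfl fun g _ => ?_
      by_cases hg : g ∈ Subgroup.centralizer (Q : Set G)
      · rw [if_pos hg, if_pos (show g ∈ MulAction.fixedPoints Q G from MulAction.mem_fixedPoints.mpr
          fun u => by rw [hsm]; exact mul_inv_eq_iff_eq_mul.mpr (Subgroup.mem_centralizer_iff.mp hg u u.2))]
      · rw [if_neg (show g ∉ MulAction.fixedPoints Q G from fun h => hg
          (Subgroup.mem_centralizer_iff.mpr fun u hu =>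
            mul_inv_eq_iff_eq_mul.mp (MulAction.mem_fixedPoints.mp h ⟨u, hu⟩))), if_neg hg, ite_self]
    · rw [hsm, (isFixed_iff.mp hx) u u.2 g]
      refine if_congr ?_ rfl rfl
      have hcom := Subgroup.mem_centralizer_iff.mp hq ((u : G) : G ⧸ Z) ⟨u, u.2, rfl⟩
      rw [QuotientGroup.mk_mul, QuotientGroup.mk_mul, QuotientGroup.mk_inv, mul_inv_eq_iff_eq_mul, ← hcom,
        mul_right_inj]
  · refine Finset.sum_eq_zero fun g _ => ?_
    by_cases hg : (g : G ⧸ Z) = q
    · rw [if_pos hg, if_neg]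
      intro hgC
      refine hq (Subgroup.mem_centralizer_iff.mpr ?_)
      rintro _ ⟨v, hv, rfl⟩
      rw [← hg]
      exact congrArg (QuotientGroup.mk' Z) (Subgroup.mem_centralizer_iff.mp hgC v hv)
    · rw [if_neg hg]

omit [M.IsMaximal] in
open Classical in
theorem sum_fiber_blockCoeff (B : Set (IrrCharacter G)) (q : G ⧸ Z) :
    ∑ g : G, (if (g : G ⧸ Z) = q then blockCoeff B g else 0) = blockCoeff (inflSet Z B) q := by
  set f : G ⧸ Z → ℂ := fun q => ∑ g : G, if (g : G ⧸ Z) = q then conj (blockCoeff B g) else 0 with hf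
  have hclass : IsClassFunction (G ⧸ Z) f := by
    intro q w
    obtain ⟨w, rfl⟩ := QuotientGroup.mk_surjective w
    refine Fintype.sum_equiv (MulAut.conj w).symm.toEquiv _ _ fun g => ?_
    simp only [MulEquiv.toEquiv_eq_coe, EquivLike.coe_coe, MulAut.conj_symm_apply]
    have hb : blockCoeff B (w⁻¹ * g * w) = blockCoeff B g := by
      simpa using blockCoeff_conj B g w⁻¹
    rw [hb]
    refine if_congr ?_ rfl rfl
    rw [QuotientGroup.mk_mul, QuotientGroup.mk_mul, QuotientGroup.mk_inv]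
    constructor
    · intro h; rw [h]; simp [mul_assoc]
    · rintro rfl; simp [mul_assoc]
  have hinner : ∀ ψ : IrrCharacter (G ⧸ Z), classInner f (ψ : G ⧸ Z → ℂ) =
      if ψ ∈ inflSet Z B then (Nat.card (G ⧸ Z) : ℂ)⁻¹ * (ψ : G ⧸ Z → ℂ) 1 else 0 := by
    intro ψ
    set η : IrrCharacter G := ⟨_, CfsgLib.CharNormal.isIrr_comp_mk' Z ψ.2⟩
    have h1 : ∑ q : G ⧸ Z, f q * conj ((ψ : G ⧸ Z → ℂ) q) =
        ∑ g : G, conj (blockCoeff B g) * conj ((η : G → ℂ) g) := by
      simp only [hf, Finset.sum_mul]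
      rw [Finset.sum_comm]
      refine Finset.sum_congr rfl fun g _ => ?_
      rw [Finset.sum_eq_single (g : G ⧸ Z) (fun b _ hb => by rw [if_neg (Ne.symm hb), zero_mul]) (by simp),
        if_pos rfl]
      rfl
    have h2 : ∑ g : G, conj (blockCoeff B g) * conj ((η : G → ℂ) g) =
        ∑ χ : IrrCharacter G, if χ ∈ B then (χ : G → ℂ) 1 * classInner (χ : G → ℂ) (η : G → ℂ) else 0 := by
      simp only [blockCoeff_eq, map_mul, map_inv₀, map_natCast, map_sum, apply_ite conj, map_zero,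
        Complex.conj_conj, Finset.mul_sum, Finset.sum_mul, classInner]
      rw [Finset.sum_comm]
      refine Finset.sum_congr rfl fun χ _ => ?_
      split_ifs
      · exact Finset.sum_congr rfl fun g _ => by
          rw [CfsgLib.Char.char_conj_one (CfsgLib.Char.isCharacter_of_isIrr χ.2)]; ring
      · simp
    rw [classInner, h1, h2, Finset.sum_eq_single η (fun χ _ hne => by
      rw [CfsgLib.Char.classInner_irr_ne χ.2 η.2 (fun h => hne (Subtype.ext h)), mul_zero, ite_self]) (by simp),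
      CfsgLib.Char.classInner_irr_self η.2, mul_one]
    rw [mul_ite, mul_zero]
    rfl
  have h := congrArg conj (congrFun (CfsgLib.Char.classFun_eq_sum hclass) q)
  simp only [Finset.sum_apply, Pi.smul_apply, smul_eq_mul, hinner] at h
  simp only [map_sum, hf, apply_ite conj, map_zero, Complex.conj_conj] at h
  rw [h, blockCoeff_eq, Finset.mul_sum]
  refine Finset.sum_congr rfl fun ψ _ => ?_
  split_ifs
  · rw [map_mul, map_mul, map_inv₀, map_natCast,
      CfsgLib.Char.char_conj_one (CfsgLib.Char.isCharacter_of_isIrr ψ.2)]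
    ring
  · simp

theorem quotHom_gidemTop {B : Set (IrrCharacter G)} (hB : IsPBlock M B)
    (hB' : IsPBlock M (inflSet Z B)) :
    quotHom Z (gidemTop M B) = gidemTop M (inflSet Z B) := by
  classical
  refine ext_coeff fun q => ?_
  rw [coeff_quotHom]
  simp only [gidemTop, coeff_ofFun]
  rw [resD_eq (blockCoeff_mem_locRing hB' q)]
  let c : G → locRing M := fun g =>
    if (g : G ⧸ Z) = q then ⟨blockCoeff B g, blockCoeff_mem_locRing hB g⟩ else 0
  have : (⟨blockCoeff (inflSet Z B) q, blockCoeff_mem_locRing hB' q⟩ : locRing M) = ∑ g : G, c g := by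
    refine Subtype.ext ?_
    show blockCoeff (inflSet Z B) q = _
    rw [AddSubmonoidClass.coe_finsetSum, ← sum_fiber_blockCoeff]
    exact Finset.sum_congr rfl fun g _ => by simp only [c]; split_ifs <;> rfl
  rw [this, map_sum]
  refine Finset.sum_congr rfl fun g _ => ?_
  simp only [c]
  split_ifs
  · rw [resD_eq (blockCoeff_mem_locRing hB g)]
  · rw [map_zero]

theorem isNilpotentBlock_inflSet [hp : Fact p.Prime] (hM : IsPModular p M) (hZc : Z ≤ Subgroup.center G)
    (hZp : IsPGroup p Z) {B : Set (IrrCharacter G)} (hnil : IsNilpotentBlock p M B) :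
    IsNilpotentBlock p M (inflSet Z B) := by
  classical
  have hC : ∃ k : ℕ, (Subgroup.centralizer (Z : Set G)).index = p ^ k :=
    ⟨0, by rw [Subgroup.centralizer_eq_top_iff_subset.mpr hZc, Subgroup.index_top, pow_zero]⟩
  have hB := hnil.1
  have hB' := isPBlock_inflSet hM hZp hC hB
  refine ⟨hB', fun Qb fb hQb xb hxn hxs hxr => ?_⟩
  obtain ⟨⟨hQbp, hfb⟩, -, hocc⟩ := (brauerPairOf_iff hM).mp hQb
  set π := QuotientGroup.mk' Z with hπ
  set Q := Qb.comap π with hQdef
  have hQp : IsPGroup p Q := hQbp.comap_of_ker_isPGroup π (by rwa [hπ, QuotientGroup.ker_mk'])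
  have hmap : Q.map π = Qb := Subgroup.map_comap_eq_self_of_surjective (QuotientGroup.mk'_surjective Z) Qb
  set Ct := (Cen Qb).comap π with hCt
  have hCtN : Ct ≤ Subgroup.normalizer (Q : Set G) := fun c hc => by
    rw [Subgroup.mem_set_normalizer_iff]
    intro y
    show π y ∈ Qb ↔ π (c * y * c⁻¹) ∈ Qb
    rw [map_mul, map_mul, map_inv]
    exact Subgroup.mem_set_normalizer_iff.mp (Subgroup.centralizer_le_normalizer _ hc) (π y)
  -- the block below
  set eb := gidem M (Cen Qb) fb with heb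
  have hbr : quotHom Z (br Q (gidemTop M B)) * eb = eb := by
    rw [quotHom_br Z hM hQp (isFixed_gidemTop Q B), quotHom_gidemTop Z hB hB', hmap]
    exact hocc
  have := Fintype.ofFinite (Blk M (Cen Q))
  obtain ⟨f, hfne⟩ : ∃ f : Blk M (Cen Q),
      quotHom Z (br Q (gidemTop M B) * gidem M (Cen Q) f.1) * eb ≠ 0 := by
    by_contra hcon
    push Not at hcon
    apply gidem_ne_zero hfb
    rw [← heb, ← hbr, ← mul_one (br Q (gidemTop M B)), ← sum_gidem (M := M) (Cen Q), Finset.mul_sum,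
      map_sum, Finset.sum_mul]
    exact Finset.sum_eq_zero fun i _ => hcon i
  obtain ⟨e, he⟩ : ∃ e, e = gidem M (Cen Q) f.1 := ⟨_, rfl⟩
  rw [← he] at hfne
  have hbre : br Q (gidemTop M B) * e = e := by
    rw [he]
    refine (occurs_cases (centralIn_br ((isFixed_gidemTop _ B))) ?_ f.2).resolve_right fun h0 => ?_
    · rw [← br_mul hM hQp (isFixed_gidemTop Q B) (isFixed_gidemTop Q B), gidemTop_mul_self hB]
    · rw [← he] at h0
      exact hfne (by rw [h0, map_zero, zero_mul])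
  have hpair : IsBrauerPairOf p M B Q f.1 := (brauerPairOf_iff hM).mpr ⟨⟨hQp, f.2⟩, hB, by rw [← he]; exact hbre⟩
  rw [hbre] at hfne
  -- conjugates under the preimage of the centraliser
  have hsupp : ∀ c : Ct, ∃ f' : Set (IrrCharacter (Cen Q)),
      IsPBlock M f' ∧ cjA (c : G) e = gidem M (Cen Q) f' := fun c => by
    have := Fintype.ofFinite (Cen Q)
    exact ⟨_, isPBlock_tblock (conjEquiv (c : G) _ _ (cen_iff (hCtN c.2))) f.2, by rw [he]; exact (gidem_tblock _ _ _).symm⟩
  have := Fintype.ofFinite Ct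
  set O := Finset.univ.image fun c : Ct => cjA (c : G) e with hO
  have hmul : ∀ a ∈ O, ∀ b ∈ O, a * b = if a = b then a else 0 := by
    intro a ha b hb
    obtain ⟨c, -, rfl⟩ := Finset.mem_image.mp ha
    obtain ⟨d, -, rfl⟩ := Finset.mem_image.mp hb
    obtain ⟨f₁, hf₁, h₁⟩ := hsupp c
    obtain ⟨f₂, hf₂, h₂⟩ := hsupp d
    rw [h₁, h₂]
    split_ifs with heq
    · rw [heq, gidem_mul_self hf₂]
    · exact gidem_mul_of_ne hf₁ hf₂ fun h => heq (by rw [h])
  set T := ∑ a ∈ O, quotHom Z a with hT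
  have heO : e ∈ O := Finset.mem_image.mpr ⟨1, Finset.mem_univ _, by rw [Subgroup.coe_one, cjA_one]⟩
  have heT : quotHom Z e * T = quotHom Z e := by
    rw [hT, Finset.mul_sum, Finset.sum_eq_single e (fun b hb hne => by
      rw [← map_mul, hmul e heO b hb, if_neg (Ne.symm hne), map_zero]) (fun h => absurd heO h),
      ← map_mul, he, gidem_mul_self f.2]
  have hTT : T * T = T := by
    rw [hT, Finset.sum_mul]
    refine Finset.sum_congr rfl fun a ha => ?_
    rw [Finset.mul_sum, Finset.sum_eq_single a (fun b hb hne => by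
      rw [← map_mul, hmul a ha b hb, if_neg (Ne.symm hne), map_zero]) (fun h => absurd ha h),
      ← map_mul, hmul a ha a ha, if_pos rfl]
  have hTc : CentralIn (Cen Qb) T := by
    refine ⟨fun q hq => ?_, fun w hw => ?_⟩
    · rw [hT, MonoidAlgebra.coeff_sum, Finsupp.finsetSum_apply]
      refine Finset.sum_eq_zero fun a ha => ?_
      obtain ⟨c, -, rfl⟩ := Finset.mem_image.mp ha
      obtain ⟨f', hf', h'⟩ := hsupp c
      rw [h', coeff_quotHom]
      refine Finset.sum_eq_zero fun g _ => ?_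
      split_ifs with hg
      · refine (centralIn_gidem f').1 g fun hgC => hq (Subgroup.mem_centralizer_iff.mpr ?_)
        rw [← hmap]
        rintro _ ⟨v, hv, rfl⟩
        rw [← hg]
        exact congrArg π (Subgroup.mem_centralizer_iff.mp hgC v hv)
      · rfl
    · obtain ⟨w, rfl⟩ := QuotientGroup.mk_surjective w
      have hwC : w ∈ Ct := hw
      rw [hT, map_sum]
      refine Finset.sum_bij (fun a _ => cjA w a) (fun a ha => ?_) (fun a _ b _ h => (cjA w).injective h)
        (fun b hb => ?_) (fun a _ => (quotHom_cjA Z w a).symm)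
      · obtain ⟨c, -, rfl⟩ := Finset.mem_image.mp ha
        exact Finset.mem_image.mpr ⟨(⟨w, hwC⟩ : Ct) * c, Finset.mem_univ _, by rw [Subgroup.coe_mul, cjA_cjA]⟩
      · obtain ⟨c, -, rfl⟩ := Finset.mem_image.mp hb
        exact ⟨cjA (w⁻¹ * c : G) e, Finset.mem_image.mpr ⟨(⟨w, hwC⟩ : Ct)⁻¹ * c, Finset.mem_univ _,
            by rw [Subgroup.coe_mul, Subgroup.coe_inv]⟩,
          by rw [cjA_cjA, mul_inv_cancel_left]⟩
  have hTe : T * eb = eb := by
    refine (occurs_cases hTc hTT hfb).resolve_right fun h0 => hfne ?_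
    rw [← heT, mul_assoc, ← heb] at *
    rw [h0, mul_zero]
  -- a regular lift of the element
  obtain ⟨x, hxr', hxe⟩ := exists_regular_lift (P := Z) xb hxr
  have hxN : x ∈ Subgroup.normalizer (Q : Set G) := by
    rw [Subgroup.mem_set_normalizer_iff]
    intro y
    show π y ∈ Qb ↔ π (x * y * x⁻¹) ∈ Qb
    rw [map_mul, map_mul, map_inv, show π x = xb from hxe]
    exact Subgroup.mem_set_normalizer_iff.mp hxn (π y)
  have hxeb : cjA xb eb = eb := ((stabilizesBlock_iff hfb).mp hxs).2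
  obtain ⟨c₁, c₂, hcc⟩ : ∃ c₁ c₂ : Ct, cjA (c₁ : G) e = cjA x (cjA (c₂ : G) e) := by
    by_contra hcon
    push Not at hcon
    apply gidem_ne_zero hfb
    have h1 : cjA xb T * eb = eb := by
      have := congrArg (cjA xb) hTe
      rwa [map_mul, hxeb] at this
    rw [← heb, ← hTe, ← h1, ← mul_assoc]
    refine mul_eq_zero_of_left ?_ eb
    rw [hT, map_sum, Finset.sum_mul]
    refine Finset.sum_eq_zero fun a ha => ?_
    rw [Finset.mul_sum]
    refine Finset.sum_eq_zero fun b hb => ?_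
    obtain ⟨c, -, rfl⟩ := Finset.mem_image.mp ha
    obtain ⟨d, -, rfl⟩ := Finset.mem_image.mp hb
    rw [← hxe, ← quotHom_cjA, ← map_mul]
    obtain ⟨f₁, hf₁, h₁⟩ := hsupp c
    obtain ⟨f₂, hf₂, h₂⟩ := hsupp d
    have := Fintype.ofFinite (Cen Q)
    have h₃ := gidem_tblock (M := M) x (cen_iff hxN) f₂
    rw [h₁, h₂, ← h₃, gidem_mul_of_ne hf₁ (isPBlock_tblock _ hf₂) (fun h => hcon c d ?_), map_zero]
    rw [h₁, h₂, ← h₃, h]
  set y := (c₁ : G)⁻¹ * x * c₂ with hy
  have hyS : y ∈ stab M Q f.1 := by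
    refine ⟨Subgroup.mul_mem _ (Subgroup.mul_mem _ (inv_mem (hCtN c₁.2)) hxN) (hCtN c₂.2), ?_⟩
    show cjA y (gidem M (Cen Q) f.1) = gidem M (Cen Q) f.1
    rw [← he]
    rw [hy, ← cjA_cjA, ← cjA_cjA, ← hcc, cjA_inv_cjA]
  -- regular elements of the preimage centralise `Q`
  have hreg : ∀ c ∈ Ct, ¬ p ∣ orderOf c → c ∈ Cen Q := by
    intro c hc hcr
    refine Subgroup.mem_centralizer_iff.mpr fun q hq => ?_
    have hcq : π c * π q = π q * π c := (Subgroup.mem_centralizer_iff.mp hc (π q) hq).symm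
    obtain ⟨z, hz, hcqz⟩ : ∃ z ∈ Z, c * q * c⁻¹ = q * z := by
      refine ⟨q⁻¹ * (c * q * c⁻¹), ?_, by group⟩
      rw [← QuotientGroup.eq_one_iff]
      show π _ = 1
      rw [map_mul, map_mul, map_mul, map_inv, map_inv, hcq]
      group
    have hpow : ∀ n : ℕ, c ^ n * q * (c ^ n)⁻¹ = q * z ^ n := by
      intro n
      induction n with
      | zero => simp
      | succ n ih =>
        calc c ^ (n + 1) * q * (c ^ (n + 1))⁻¹ = c ^ n * (c * q * c⁻¹) * (c ^ n)⁻¹ := by
              rw [pow_succ]; group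
          _ = c ^ n * q * (c ^ n)⁻¹ * (c ^ n * z * (c ^ n)⁻¹) := by rw [hcqz]; group
          _ = q * z ^ n * z := by
              rw [ih, Subgroup.mem_center_iff.mp (hZc hz) (c ^ n), mul_inv_cancel_right]
          _ = q * z ^ (n + 1) := by rw [pow_succ, mul_assoc]
    have h1 := hpow (orderOf c)
    rw [pow_orderOf_eq_one, one_mul, inv_one, mul_one, left_eq_mul] at h1
    obtain ⟨k, hk⟩ := IsPGroup.iff_orderOf.mp hZp ⟨z, hz⟩
    rw [Subgroup.orderOf_mk] at hk
    have h2 : orderOf z = 1 := Nat.eq_one_of_dvd_coprimes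
      ((Nat.Coprime.pow_left k (hp.out.coprime_iff_not_dvd.mpr hcr)))
      (hk ▸ dvd_rfl) (orderOf_dvd_of_pow_eq_one h1)
    rw [orderOf_eq_one_iff] at h2
    rw [h2, mul_one] at hcqz
    exact (mul_inv_eq_iff_eq_mul.mp hcqz).symm
  -- the element is a `p`-element modulo the preimage
  obtain ⟨z, w, hzw, hcomm, ⟨k, hk⟩, hw⟩ := exists_isPPart (p := p) y
  have hz1 : z ^ p ^ k = 1 := by rw [← hk, pow_orderOf_eq_one]
  have hwS : w ∈ Cen Q := by
    refine nilpotent_stab hnil hpair w ?_ hw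
    obtain ⟨n, hn⟩ := exists_pow_eq_self_of_coprime (x := w) (n := p ^ k)
      (Nat.Coprime.pow_left k (hp.out.coprime_iff_not_dvd.mpr hw))
    rw [← hn]
    refine Subgroup.pow_mem _ ?_ n
    have := Subgroup.pow_mem _ hyS (p ^ k)
    rwa [← hzw, hcomm.mul_pow, hz1, one_mul] at this
  have hxk : x ^ p ^ k ∈ Ct := by
    show π (x ^ p ^ k) ∈ Cen Qb
    have hyk : y ^ p ^ k = w ^ p ^ k := by rw [← hzw, hcomm.mul_pow, hz1, one_mul]
    have hCQ : ∀ c ∈ Cen Q, π c ∈ Cen Qb := fun c hc => Subgroup.mem_centralizer_iff.mpr fun q hq => by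
      obtain ⟨v, rfl⟩ := QuotientGroup.mk'_surjective Z q
      exact congrArg π (Subgroup.mem_centralizer_iff.mp hc v hq)
    have h1 : π (y ^ p ^ k) ∈ Cen Qb := hyk ▸ hCQ _ (Subgroup.pow_mem _ hwS _)
    -- `π x` and `π y` agree modulo the centraliser
    let N := Subgroup.normalizer (Qb : Set (G ⧸ Z))
    let ρ := Qb.normalizerMonoidHom
    have hker : ∀ (a : G ⧸ Z) (ha : a ∈ N), ρ ⟨a, ha⟩ = 1 ↔ a ∈ Cen Qb := fun a ha => by
      show (⟨a, ha⟩ : N) ∈ ρ.ker ↔ _
      rw [show ρ.ker = (Cen Qb).subgroupOf N from Qb.normalizerMonoidHom_ker, Subgroup.mem_subgroupOf]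
    have hn : ∀ c : Ct, π (c : G) ∈ N := fun c => Subgroup.centralizer_le_normalizer _ c.2
    have hxN' : π x ∈ N := by rw [show π x = xb from hxe]; exact hxn
    have hyN : π y ∈ N := by
      rw [hy, map_mul, map_mul, map_inv]
      exact N.mul_mem (N.mul_mem (inv_mem (hn c₁)) hxN') (hn c₂)
    have hρ : ρ ⟨π y, hyN⟩ = ρ ⟨π x, hxN'⟩ := by
      rw [show (⟨π y, hyN⟩ : N) = (⟨π c₁, hn c₁⟩ : N)⁻¹ * ⟨π x, hxN'⟩ * ⟨π c₂, hn c₂⟩ from
        Subtype.ext (by simp [hy]), map_mul, map_mul, map_inv, (hker _ _).mpr c₁.2, (hker _ _).mpr c₂.2,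
        inv_one, one_mul, mul_one]
    rw [map_pow] at h1 ⊢
    rw [← hker _ (N.pow_mem hxN' _), show (⟨π x ^ p ^ k, _⟩ : N) = ⟨π x, hxN'⟩ ^ p ^ k from rfl, map_pow,
      ← hρ, ← map_pow]
    exact (hker _ (N.pow_mem hyN _)).mpr h1
  obtain ⟨n, hn⟩ := exists_pow_eq_self_of_coprime (x := x) (n := p ^ k)
    (Nat.Coprime.pow_left k (hp.out.coprime_iff_not_dvd.mpr hxr'))
  have hxC : x ∈ Cen Q := hreg x (hn ▸ Subgroup.pow_mem _ hxk n) hxr'
  rw [← hxe, ← hmap]
  refine Subgroup.mem_centralizer_iff.mpr ?_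
  rintro _ ⟨v, hv, rfl⟩
  exact congrArg π (Subgroup.mem_centralizer_iff.mp hxC v hv)

end CfsgLib.NilBlock
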