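import Cfsg.Agent.Lib.BlockArith.Contribution
import Cfsg.Agent.Lib.BlockArith.CharCount
import Cfsg.Agent.Lib.BrauerPairs.Idem
import Cfsg.Agent.Lib.BrauerPairs.Basic

/-!
# Contributions on any name of a centraliser

* `regSum`, `secH`, `ctr`: the scaled contribution of a block `b` of `H = C(x)`;
* `ctr_form`: the matrix of contributions is positive semidefinite;
* `ctr_tblock`: invariance under conjugation.
-/

set_option autoImplicit false

noncomputable section

namespace CfsgLib.NilBlock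

open Cfsg CfsgLib.Blocks CfsgLib.BlockArith CfsgLib.Char
open scoped ComplexConjugate

/-- The Hermitian product over the regular elements. -/
def regSum {H : Type*} [Group H] [Finite H] (p : ℕ) (f h : H → ℂ) : ℂ :=
  haveI := Fintype.ofFinite H
  ∑ s : H, if p ∣ orderOf s then 0 else f s * conj (h s)

theorem regSum_eq {H : Type*} [Group H] [Fintype H] (p : ℕ) (f h : H → ℂ) :
    regSum p f h = ∑ s : H, if p ∣ orderOf s then 0 else f s * conj (h s) := by
  unfold regSum; convert rfl

theorem regSum_self {H : Type*} [Group H] [Fintype H] (p : ℕ) (f : H → ℂ) :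
    regSum p f f = ((∑ s : H, if p ∣ orderOf s then 0 else Complex.normSq (f s) : ℝ) : ℂ) := by
  rw [regSum_eq, Complex.ofReal_sum]
  exact Finset.sum_congr rfl fun s _ => by split_ifs <;> simp [Complex.mul_conj]

theorem eq_zero_of_regSum_self {H : Type*} [Group H] [Fintype H] {p : ℕ} {f : H → ℂ}
    (h : regSum p f f = 0) {s : H} (hs : ¬ p ∣ orderOf s) : f s = 0 := by
  rw [regSum_self, Complex.ofReal_eq_zero, Finset.sum_eq_zero_iff_of_nonneg] at h
  · have := h s (Finset.mem_univ s)
    rw [if_neg hs] at this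
    exact Complex.normSq_eq_zero.mp this
  · exact fun t _ => by split_ifs <;> first | exact le_rfl | exact Complex.normSq_nonneg _

variable {G : Type*} [Group G] [Fintype G]

/-- The part in `b` of `χ` on the section of `x`. -/
def secH (x : G) (H : Subgroup G) (b : Set (IrrCharacter H)) (χ : IrrCharacter G) : H → ℂ :=
  blockPart b fun c : H => (χ : G → ℂ) (x * (c : G))

/-- The scaled contribution. -/
def ctr (p : ℕ) (x : G) (H : Subgroup G) (b : Set (IrrCharacter H)) (χ ψ : IrrCharacter G) : ℂ :=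
  ((p ^ blockDefect p b : ℕ) : ℂ) / (Nat.card H : ℂ) * regSum p (secH x H b χ) (secH x H b ψ)

variable {M : Ideal AlgInt} [M.IsMaximal] {p : ℕ} [hp : Fact p.Prime] {x : G}

omit [M.IsMaximal] hp in
theorem ctr_eq_contrib [Fintype (Subgroup.centralizer ({x} : Set G))]
    (b : Set (IrrCharacter (Subgroup.centralizer ({x} : Set G)))) (χ ψ : IrrCharacter G) :
    ctr p x _ b χ ψ = contrib p x b χ ψ := by
  rw [ctr, regSum_eq]
  simp only [contrib, secPart, secH]

variable {H : Subgroup G} {b : Set (IrrCharacter H)} {B : Set (IrrCharacter G)}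

omit hp in
theorem ctr_def_regSum (χ ψ : IrrCharacter G) :
    regSum p (secH x H b χ) (secH x H b ψ) * ((p ^ blockDefect p b : ℕ) : ℂ) =
      (Nat.card H : ℂ) * ctr p x H b χ ψ := by
  rw [ctr, ← mul_assoc, mul_div_cancel₀ _ (Nat.cast_ne_zero.mpr Nat.card_pos.ne'), mul_comm]

omit [M.IsMaximal] hp in
theorem ctr_conj (χ ψ : IrrCharacter G) : ctr p x H b ψ χ = conj (ctr p x H b χ ψ) := by
  have := Fintype.ofFinite H
  simp only [ctr, regSum_eq, map_mul, map_div₀, map_natCast, map_sum, apply_ite conj, map_zero,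
    Complex.conj_conj]
  congr 1
  exact Finset.sum_congr rfl fun s _ => by split_ifs <;> ring

section transfer

variable (hH : H = Subgroup.centralizer ({x} : Set G))
include hH

theorem isIntegral_ctr (hM : IsPModular p M) (hb : IsPBlock M b) (χ ψ : IrrCharacter G) :
    IsIntegral ℤ (ctr p x H b χ ψ) := by
  subst hH
  have := Fintype.ofFinite (Subgroup.centralizer ({x} : Set G))
  rw [ctr_eq_contrib]; exact isIntegral_contrib hM hb χ ψ

omit [M.IsMaximal] in
theorem ctr_mem_conjCommute (σ : ℂ ≃+* ℂ) (χ ψ : IrrCharacter G) :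
    ctr p x H b χ ψ ∈ conjCommute σ := by
  subst hH
  have := Fintype.ofFinite (Subgroup.centralizer ({x} : Set G))
  rw [ctr_eq_contrib]; exact contrib_mem_conjCommute σ χ ψ

theorem secH_eq_zero (hM : IsPModular p M) (hx : ∃ k : ℕ, orderOf x = p ^ k)
    (hind : IsInducedBlock M H b B) {χ : IrrCharacter G} (hχ : χ ∉ B) {s : H}
    (hs : ¬ p ∣ orderOf s) : secH x H b χ s = 0 := by
  subst hH
  have := Fintype.ofFinite (Subgroup.centralizer ({x} : Set G))
  exact secPart_eq_zero hM hx hind hχ hs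

theorem ctr_sum_mul (hM : IsPModular p M) (hx : ∃ k : ℕ, orderOf x = p ^ k)
    (hind : IsInducedBlock M H b B) [DecidablePred (· ∈ B)] (χ η : IrrCharacter G) :
    ∑ ψ ∈ Finset.univ.filter (· ∈ B), ctr p x H b χ ψ * ctr p x H b ψ η =
      ((p ^ blockDefect p b : ℕ) : ℂ) * ctr p x H b χ η := by
  subst hH
  have := Fintype.ofFinite (Subgroup.centralizer ({x} : Set G))
  simp only [ctr_eq_contrib, Finset.sum_filter]
  exact contrib_sum_mul hM hx hind χ η

theorem ctr_ne_zero (hM : IsPModular p M) (hx : ∃ k : ℕ, orderOf x = p ^ k)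
    (hind : IsInducedBlock M H b B) {χ ψ : IrrCharacter G} (hχ : χ ∈ B)
    (h0 : blockHeight p B (χ : G → ℂ) = 0) (hψ : ψ ∈ B) (h0' : blockHeight p B (ψ : G → ℂ) = 0) :
    ctr p x H b χ ψ ≠ 0 := by
  subst hH
  have := Fintype.ofFinite (Subgroup.centralizer ({x} : Set G))
  rw [ctr_eq_contrib]; exact contrib_ne_zero hM hx hind hχ h0 hψ h0'

theorem sum_inducingH (hM : IsPModular p M) (hx : ∃ k : ℕ, orderOf x = p ^ k) (hB : IsPBlock M B)
    (χ : IrrCharacter G) [Fintype {b : Set (IrrCharacter H) // IsPBlock M b}]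
    [DecidablePred fun b : {b : Set (IrrCharacter H) // IsPBlock M b} => IsInducedBlock M H b.1 B]
    (hχ : χ ∈ B) {y : H} (hy : ¬ p ∣ orderOf y) :
    ∑ b : {b : Set (IrrCharacter H) // IsPBlock M b},
        (if IsInducedBlock M H b.1 B then secH x H b.1 χ y else 0) = (χ : G → ℂ) (x * (y : G)) := by
  classical
  subst hH
  have := Fintype.ofFinite (Subgroup.centralizer ({x} : Set G))
  have h := sum_inducing hM hx hB χ hy
  rw [if_pos hχ] at h
  exact h

/-- At `x = 1` the contribution is an integer. -/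
theorem ctr_one_int (hM : IsPModular p M) (hb : IsPBlock M b) (hx1 : x = 1) (χ ψ : IrrCharacter G) :
    ∃ m : ℤ, ctr p x H b χ ψ = m := by
  classical
  subst hH
  have := Fintype.ofFinite (Subgroup.centralizer ({x} : Set G))
  have h : x ∈ Subgroup.centralizer ({x} : Set G) := Subgroup.mem_centralizer_singleton_iff.mpr rfl
  have hcs : ∀ φ : IrrCharacter (Subgroup.centralizer ({x} : Set G)), centScal φ ⟨x, h⟩ = 1 := fun φ => by
    rw [show (⟨x, h⟩ : Subgroup.centralizer ({x} : Set G)) = 1 from Subtype.ext hx1, centScal_one]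
  choose mult hmult using fun (η : IrrCharacter G) (φ : IrrCharacter (Subgroup.centralizer ({x} : Set G))) =>
    classInner_char_nat (isCharacter_res (Subgroup.centralizer ({x} : Set G)) (isCharacter_of_isIrr η.2))
      (isCharacter_of_isIrr φ.2)
  refine ⟨∑ φ : IrrCharacter (Subgroup.centralizer ({x} : Set G)),
    ∑ φ' : IrrCharacter (Subgroup.centralizer ({x} : Set G)), if φ ∈ b ∧ φ' ∈ b then
      (mult χ φ : ℤ) * mult ψ φ' * blockMat p b φ φ' else 0, ?_⟩
  rw [ctr_eq_contrib, contrib_eq_sum hM hb h, Int.cast_sum]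
  refine Finset.sum_congr rfl fun φ _ => ?_
  rw [Int.cast_sum]
  refine Finset.sum_congr rfl fun φ' _ => ?_
  split_ifs
  · simp only [hcs, hmult, one_mul, Complex.conj_natCast]
    push_cast
    rfl
  · simp

end transfer

/-- The contributions form a positive semidefinite matrix. -/
theorem ctr_form (S : Finset (IrrCharacter G)) (r : IrrCharacter G → ℂ) :
    ∃ t : ℝ, 0 ≤ t ∧ ∑ χ ∈ S, ∑ ψ ∈ S, conj (r χ) * ctr p x H b χ ψ * r ψ = (t : ℂ) ∧
      (t = 0 → ∀ η, ∑ χ ∈ S, conj (r χ) * ctr p x H b χ η = 0) := by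
  classical
  have := Fintype.ofFinite H
  set F : H → ℂ := fun s => ∑ χ ∈ S, conj (r χ) * secH x H b χ s with hF
  set q : ℝ := ((p ^ blockDefect p b : ℕ) : ℝ) / (Nat.card H : ℝ) with hq
  have hq0 : 0 < q := div_pos (by exact_mod_cast pow_pos hp.out.pos _) (by exact_mod_cast Nat.card_pos)
  have hqC : (q : ℂ) = ((p ^ blockDefect p b : ℕ) : ℂ) / (Nat.card H : ℂ) := by rw [hq]; push_cast; rfl
  have hkey : ∀ η : IrrCharacter G, ∑ χ ∈ S, conj (r χ) * ctr p x H b χ η =
      (q : ℂ) * regSum p F (secH x H b η) := by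
    intro η
    simp only [ctr, regSum_eq, hqC, Finset.mul_sum, hF, Finset.sum_mul]
    rw [Finset.sum_comm]
    refine Finset.sum_congr rfl fun s _ => ?_
    split_ifs
    · simp
    · rw [Finset.mul_sum]
      exact Finset.sum_congr rfl fun χ _ => by ring
  have htot : ∑ χ ∈ S, ∑ ψ ∈ S, conj (r χ) * ctr p x H b χ ψ * r ψ = (q : ℂ) * regSum p F F := by
    rw [Finset.sum_comm]
    simp only [← Finset.sum_mul, hkey]
    simp only [regSum_eq, Finset.mul_sum, Finset.sum_mul]
    rw [Finset.sum_comm]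
    refine Finset.sum_congr rfl fun s _ => ?_
    split_ifs
    · simp
    · simp only [hF, map_sum, map_mul, Complex.conj_conj, Finset.mul_sum]
      exact Finset.sum_congr rfl fun ψ _ => by ring
  refine ⟨q * ∑ s : H, (if p ∣ orderOf s then 0 else Complex.normSq (F s)), mul_nonneg hq0.le
    (Finset.sum_nonneg fun s _ => by split_ifs <;> first | exact le_rfl | exact Complex.normSq_nonneg _), ?_,
    fun ht η => ?_⟩
  · rw [htot, regSum_self, Complex.ofReal_mul]
  · have h0 : regSum p F F = 0 := by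
      rw [regSum_self, (mul_eq_zero.mp ht).resolve_left hq0.ne', Complex.ofReal_zero]
    rw [hkey, regSum_eq, Finset.sum_eq_zero fun s _ => ?_, mul_zero]
    split_ifs with hs
    · rfl
    · rw [eq_zero_of_regSum_self h0 hs, zero_mul]

omit [M.IsMaximal] in
/-- A vanishing diagonal contribution kills the section. -/
theorem secH_eq_mul {χ ψ : IrrCharacter G} {t : ℂ}
    (h : ctr p x H b χ χ - conj t * ctr p x H b χ ψ - t * ctr p x H b ψ χ +
      t * conj t * ctr p x H b ψ ψ = 0) {s : H} (hs : ¬ p ∣ orderOf s) :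
    secH x H b χ s = t * secH x H b ψ s := by
  classical
  have := Fintype.ofFinite H
  refine sub_eq_zero.mp (eq_zero_of_regSum_self (f := fun s => secH x H b χ s - t * secH x H b ψ s) ?_ hs)
  have hne : ((p ^ blockDefect p b : ℕ) : ℂ) / (Nat.card H : ℂ) ≠ 0 :=
    div_ne_zero (Nat.cast_ne_zero.mpr (pow_ne_zero _ hp.out.ne_zero)) (Nat.cast_ne_zero.mpr Nat.card_pos.ne')
  refine (mul_eq_zero.mp (Eq.trans ?_ h)).resolve_left hne
  simp only [ctr, regSum_eq, Finset.mul_sum, ← Finset.sum_sub_distrib, ← Finset.sum_add_distrib]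
  refine Finset.sum_congr rfl fun s _ => ?_
  split_ifs
  · simp
  · rw [map_sub, map_mul]; ring

/-- Rank one: all parts are multiples of one of them. -/
theorem exists_secH_mul (hM : IsPModular p M) (hb : IsPBlock M b) (hl : blockRank p b = 1)
    {ψ : IrrCharacter G} (hne : ctr p x H b ψ ψ ≠ 0) (χ : IrrCharacter G) :
    ∃ t : ℂ, (∀ s : H, ¬ p ∣ orderOf s → secH x H b χ s = t * secH x H b ψ s) ∧
      ctr p x H b χ ψ = t * ctr p x H b ψ ψ ∧ ctr p x H b χ χ = t * conj t * ctr p x H b ψ ψ := by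
  classical
  have := Fintype.ofFinite H
  obtain ⟨⟨v, hv⟩, -, hgen⟩ := finrank_eq_one_iff'.mp hl
  have hmem : ∀ η : IrrCharacter G, ∃ c : ℂ, ∀ s : H, ¬ p ∣ orderOf s → secH x H b η s = c * v s := by
    intro η
    obtain ⟨c, hc⟩ := hgen ⟨∑ φ ∈ Finset.univ.filter (· ∈ b),
        classInner (fun c : H => (η : G → ℂ) (x * (c : G))) (φ : H → ℂ) • pRegularPart p (φ : H → ℂ),
      Submodule.sum_mem _ fun φ hφ => Submodule.smul_mem _ _
        (Submodule.subset_span ⟨φ, (Finset.mem_filter.mp hφ).2, rfl⟩)⟩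
    refine ⟨c, fun s hs => ?_⟩
    have h := congrFun (congrArg Subtype.val hc) s
    simp only [Submodule.coe_smul, Pi.smul_apply, smul_eq_mul, Finset.sum_apply, pRegularPart_apply,
      if_neg hs, Finset.sum_filter] at h
    rw [secH, blockPart_apply, h]
  obtain ⟨c₁, h₁⟩ := hmem χ
  obtain ⟨c₀, h₀⟩ := hmem ψ
  have hc0 : c₀ ≠ 0 := fun h => hne (by
    rw [ctr, regSum_eq, Finset.sum_eq_zero fun s _ => ?_, mul_zero]
    split_ifs with hs
    · rfl
    · rw [h₀ s hs, h]; ring)
  refine ⟨c₁ / c₀, fun s hs => by rw [h₁ s hs, h₀ s hs, ← mul_assoc, div_mul_cancel₀ _ hc0], ?_, ?_⟩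
  · simp only [ctr, regSum_eq, Finset.mul_sum]
    refine Finset.sum_congr rfl fun s _ => ?_
    split_ifs with hs
    · simp
    · rw [h₁ s hs, h₀ s hs]; field_simp
  · simp only [ctr, regSum_eq, Finset.mul_sum]
    refine Finset.sum_congr rfl fun s _ => ?_
    split_ifs with hs
    · simp
    · rw [h₁ s hs, h₀ s hs]
      simp only [map_mul, map_div₀]
      field_simp [(map_ne_zero (starRingEnd ℂ)).mpr hc0]

omit [M.IsMaximal] hp in
theorem blockDefect_tblock {H H' : Subgroup G} (e : H ≃* H') (b : Set (IrrCharacter H)) :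
    blockDefect p (BrauerPairs.tblock e b) = blockDefect p b := by
  have := Fintype.ofFinite H
  have := Fintype.ofFinite H'
  rw [blockDefect, blockDefect, Nat.card_congr e.symm.toEquiv]
  congr 2
  ext n
  constructor
  · rintro ⟨χ', hχ', rfl⟩
    refine ⟨BrauerPairs.tirr e.symm χ', (BrauerPairs.mem_tblock e).mp hχ', ?_⟩
    simp [charDegree, BrauerPairs.tirr]
  · rintro ⟨χ, hχ, rfl⟩
    refine ⟨BrauerPairs.tirr e χ, ⟨χ, hχ, funext fun y => congrArg (χ : H → ℂ) (e.symm_apply_apply y)⟩, ?_⟩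
    simp [charDegree, BrauerPairs.tirr]

omit [M.IsMaximal] hp in
/-- Conjugation invariance. -/
theorem ctr_tblock {H H' : Subgroup G} (g x : G) (e : H ≃* H') (he : ∀ c : H, (e c : G) = g * c * g⁻¹)
    (b : Set (IrrCharacter H)) (χ ψ : IrrCharacter G) :
    ctr p (g * x * g⁻¹) H' (BrauerPairs.tblock e b) χ ψ = ctr p x H b χ ψ := by
  classical
  have := Fintype.ofFinite H
  have := Fintype.ofFinite H'
  have hsec : ∀ (η : IrrCharacter G) (c : H),
      secH (g * x * g⁻¹) H' (BrauerPairs.tblock e b) η (e c) = secH x H b η c := by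
    intro η c
    rw [secH, secH, blockPart_apply, blockPart_apply]
    refine Fintype.sum_equiv
      { toFun := BrauerPairs.tirr e.symm
        invFun := BrauerPairs.tirr e
        left_inv := fun χ' => Subtype.ext (funext fun y => congrArg (χ' : H' → ℂ) (e.apply_symm_apply y))
        right_inv := fun χ => Subtype.ext (funext fun y => congrArg (χ : H → ℂ) (e.symm_apply_apply y)) }
      _ _ fun φ' => ?_
    simp only [Equiv.coe_fn_mk, BrauerPairs.mem_tblock]
    refine if_congr Iff.rfl ?_ rfl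
    congr 1
    rw [classInner, classInner, Nat.card_congr e.symm.toEquiv]
    congr 1
    refine Fintype.sum_equiv e.symm.toEquiv _ _ fun y => ?_
    simp only [MulEquiv.toEquiv_eq_coe, EquivLike.coe_coe, BrauerPairs.tirr, Function.comp_apply,
      MulEquiv.symm_symm, MulEquiv.apply_symm_apply]
    congr 1
    rw [show (y : G) = g * (e.symm y : G) * g⁻¹ by rw [← he, MulEquiv.apply_symm_apply],
      show g * x * g⁻¹ * (g * (e.symm y : G) * g⁻¹) = g * (x * (e.symm y : G)) * g⁻¹ by group,
      isClassFunction_of_isIrr η.2]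
  rw [ctr, ctr, blockDefect_tblock, Nat.card_congr e.symm.toEquiv, regSum_eq, regSum_eq]
  congr 1
  refine (Fintype.sum_equiv e.toEquiv _ _ fun c => ?_).symm
  simp only [MulEquiv.toEquiv_eq_coe, EquivLike.coe_coe, hsec, MulEquiv.orderOf_eq]

end CfsgLib.NilBlock
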