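import Cfsg.Agent.Lib.NilBlock.Rows
import Cfsg.Agent.Lib.NilBlock.MIndep
import Cfsg.Agent.Lib.NilBlock.Quotient
import Cfsg.Agent.Lib.NilBlock.Vanish
import Cfsg.Agent.Lib.BlockArith.SmallRank
import Cfsg.Agent.S4688

/-!
# The local data of a nilpotent block

`Setup`: a maximal pair `(P, e)` of a nilpotent block with the blocks `β u` of the pairs on `⟨u⟩`
below it, assuming the local blocks of `u ≠ 1` and `e` have one Brauer character.
`Setup.change`: the data does not depend on the maximal ideal.
`exists_setup`: it exists, given the theorem for smaller groups.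
-/

set_option autoImplicit false

noncomputable section

namespace CfsgLib.NilBlock

open Cfsg CfsgLib.Blocks CfsgLib.BlockArith CfsgLib.Char CfsgLib.BrauerPairs

universe u

/-- The local data. -/
structure Setup {G : Type u} [Group G] (p : ℕ) (M : Ideal AlgInt) (B : Set (IrrCharacter G))
    (P : Subgroup G) (e : Set (IrrCharacter (Cen P)))
    (β : (x : P) → Set (IrrCharacter (Cen (Subgroup.zpowers (x : G))))) : Prop where
  hM : IsPModular p M
  hmax : IsMaximalBrauerPair p M B P e
  hnil : IsNilpotentBlock p M B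
  hβ : ∀ x : P, SubpairLE p M (Subgroup.zpowers (x : G)) (β x) P e
  hd : ∀ x : P, p ^ blockDefect p (β x) = Nat.card (P ⊓ Cen (Subgroup.zpowers (x : G)) : Subgroup G)
  hrank : ∀ x : P, x ≠ 1 → blockRank p (β x) = 1
  herank : blockRank p e = 1

variable {G : Type u} [Group G] [Fintype G] {M : Ideal AlgInt} {p : ℕ} [hp : Fact p.Prime]
  {B : Set (IrrCharacter G)} {P : Subgroup G} {e : Set (IrrCharacter (Cen P))}
  {β : (x : P) → Set (IrrCharacter (Cen (Subgroup.zpowers (x : G))))}

omit hp in
theorem Setup.change (S : Setup p M B P e β) {M' : Ideal AlgInt} (hM' : IsPModular p M') :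
    Setup p M' B P e β :=
  { hM := hM'
    hmax := (maximalPair_indep S.hM hM').mp S.hmax
    hnil := (nilpotent_indep S.hM hM').mp S.hnil
    hβ := fun x => (subpairLE_indep S.hM hM' _ _ _ _).mp (S.hβ x)
    hd := S.hd
    hrank := S.hrank
    herank := S.herank }

variable [M.IsMaximal]

omit [Fintype G] hp [M.IsMaximal] in
theorem Setup.isPGroup (S : Setup p M B P e β) : IsPGroup p P := S.hmax.1.1.1

omit [Fintype G] hp [M.IsMaximal] in
theorem Setup.isPBlock (S : Setup p M B P e β) : IsPBlock M B := S.hmax.1.2.1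

omit hp in
theorem Setup.pairOf (S : Setup p M B P e β) (x : P) :
    IsBrauerPairOf p M B (Subgroup.zpowers (x : G)) (β x) :=
  (brauerPairOf_iff_of_subpair S.hM (a := ⟨_, β x⟩) (b := ⟨P, e⟩) (S.hβ x)).mp S.hmax.1

theorem Setup.induced (S : Setup p M B P e β) (x : P) :
    IsInducedBlock M (Cen (Subgroup.zpowers (x : G))) (β x) B := by
  have := Fintype.ofFinite (Cen (Subgroup.zpowers (x : G)))
  exact (brauerPairOf_iff_induced S.hM (isPGroup_zpowers (exists_pow_of_mem S.isPGroup x.2))
    (S.pairOf x).1.2 S.isPBlock).mp (S.pairOf x)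

theorem Setup.defect_eq (S : Setup p M B P e β) {x : P} (hx : (x : G) = 1) :
    blockDefect p (β x) = blockDefect p B := by
  refine Nat.pow_right_injective hp.out.two_le ?_
  show p ^ _ = p ^ _
  rw [S.hd x, ← card_defectGroup S.hM S.isPBlock (isDefectGroup_of_maximal S.hM S.hmax), inf_eq_left.mpr]
  rw [cen_zpowers, hx]
  exact fun y _ => Subgroup.mem_centralizer_singleton_iff.mpr (by simp)

/-- The local data exists once smaller nilpotent blocks have one Brauer character. -/
theorem exists_setup (hM : IsPModular p M) (hmax : IsMaximalBrauerPair p M B P e)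
    (hnil : IsNilpotentBlock p M B)
    (IH : ∀ (H : Type u) [Group H] [Fintype H], Nat.card H < Nat.card G →
      ∀ B' : Set (IrrCharacter H), IsNilpotentBlock p M B' → blockRank p B' = 1) :
    ∃ β, Setup p M B P e β := by
  classical
  have hP := hmax.1.1
  choose β hβ using fun x : P => (existsUnique_subpair hM (Subgroup.zpowers_le.mpr x.2) hP).exists
  have hpair : ∀ x : P, IsBrauerPairOf p M B (Subgroup.zpowers (x : G)) (β x) := fun x =>
    (brauerPairOf_iff_of_subpair hM (a := ⟨_, β x⟩) (b := ⟨P, e⟩) (hβ x)).mp hmax.1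
  refine ⟨β, ⟨hM, hmax, hnil, hβ, fun x => ?_, fun x hx => ?_, ?_⟩⟩
  · have := Fintype.ofFinite (Cen (Subgroup.zpowers (x : G)))
    obtain ⟨-, hdef⟩ := Cfsg.Agent.S4688.result p M hM B P e hmax hnil _ (β x) (hpair x)
    rw [← card_defectGroup hM (hpair x).1.2 (hdef (hβ x)), card_subgroupOf' inf_le_right]
  · set C := Cen (Subgroup.zpowers (x : G)) with hC
    have := Fintype.ofFinite C
    obtain ⟨hnx, -⟩ := Cfsg.Agent.S4688.result p M hM B P e hmax hnil _ (β x) (hpair x)
    set Z := (Subgroup.zpowers (x : G)).subgroupOf C with hZ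
    have hle : Subgroup.zpowers (x : G) ≤ C := Subgroup.zpowers_le.mpr (mem_cen_zpowers.mpr (Commute.refl _))
    have hZc : Z ≤ Subgroup.center C := fun z hz => Subgroup.mem_center_iff.mpr fun c =>
      Subtype.ext (Subgroup.mem_centralizer_iff.mp c.2 _ hz).symm
    have hZp : IsPGroup p Z := (isPGroup_zpowers (exists_pow_of_mem hP.1 x.2)).of_equiv
      (Subgroup.subgroupOfEquivOfLe hle).symm
    have : Z.Normal := ⟨fun z hz g => by
      rw [Subgroup.mem_center_iff.mp (hZc hz) g, mul_inv_cancel_right]; exact hz⟩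
    have := Fintype.ofFinite (C ⧸ Z)
    have hidx : ∃ k : ℕ, (Subgroup.centralizer (Z : Set C)).index = p ^ k :=
      ⟨0, by rw [Subgroup.centralizer_eq_top_iff_subset.mpr hZc, Subgroup.index_top, pow_zero]⟩
    rw [blockRank_inflSet hM hZp hidx hnx.1]
    refine IH (C ⧸ Z) ?_ _ (isNilpotentBlock_inflSet Z hM hZc hZp hnx)
    have h1 : 1 < Nat.card Z := by
      rw [card_subgroupOf' hle, Nat.card_zpowers]
      have h2 : orderOf (x : G) ≠ 1 := fun h => hx (Subtype.ext (orderOf_eq_one_iff.mp h))
      have h3 : 0 < orderOf (x : G) := orderOf_pos _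
      omega
    have h4 := Subgroup.card_eq_card_quotient_mul_card_subgroup Z
    have h5 : 0 < Nat.card (C ⧸ Z) := Nat.card_pos
    have h6 : Nat.card C ≤ Nat.card G := Subgroup.card_le_card_group C
    nlinarith
  · have := Fintype.ofFinite (Cen P)
    obtain ⟨-, hdef⟩ := Cfsg.Agent.S4688.result p M hM B P e hmax hnil P e hmax.1
    refine blockRank_eq_one_of_central hM hmax.1.1.2 (hdef Relation.ReflTransGen.refl) ?_
    intro z hz
    exact Subgroup.mem_center_iff.mpr fun c =>
      Subtype.ext (Subgroup.mem_centralizer_iff.mp c.2 _ hz.1).symm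

end CfsgLib.NilBlock
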