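import Cfsg.Agent.Lib.Blocks.Annihilate
import Cfsg.Agent.Lib.Blocks.SimpleTrace
import Cfsg.Agent.Lib.Modular.Valuation
import Mathlib.LinearAlgebra.Matrix.Charpoly.Coeff

/-!
# Spectral idempotents in the local group algebra

* `roots_mem_locRing`: a monic polynomial over the local ring splits there;
* `exists_spectral`: the idempotent of the unit eigenvalues of left multiplication by an element;
* `eq_of_spectral`: an idempotent is its own spectral idempotent;
* `liftLA`: a lift along reduction compatible with permutations of the group.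
-/

set_option autoImplicit false

noncomputable section

namespace CfsgLib.NilBlock

open Cfsg CfsgLib.Blocks CfsgLib.Modular Polynomial

attribute [local instance] CfsgLib.Blocks.resField

variable {M : Ideal AlgInt} [M.IsMaximal] {p : ℕ}

theorem mem_alg_of_mem_locRing {z : ℂ} (hz : z ∈ locRing M) : z ∈ Alg := by
  obtain ⟨a, b, -, rfl⟩ := hz
  exact div_mem (mem_alg_of_isIntegral a.2) (mem_alg_of_isIntegral b.2)

/-- The local integers inside the algebraic numbers. -/
def locToAlg (M : Ideal AlgInt) [M.IsMaximal] : locRing M →+* Alg where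
  toFun c := ⟨c, mem_alg_of_mem_locRing c.2⟩
  map_one' := rfl
  map_zero' := rfl
  map_add' _ _ := rfl
  map_mul' _ _ := rfl

/-- A root of a monic polynomial over the local ring is local integral. -/
theorem roots_mem_locRing (hM : IsPModular p M) {f : (locRing M)[X]} (hf : f.Monic) {r : ℂ}
    (hr : eval₂ (locRing M).subtype r f = 0) : r ∈ locRing M := by
  by_cases hr0 : r = 0
  · subst hr0; exact Subring.zero_mem _
  have hA : IsIntegral Alg r := ⟨f.map (locToAlg M), hf.map _, by rw [eval₂_map]; exact hr⟩
  have : Algebra.IsAlgebraic ℚ Alg := algebraicClosure.isAlgebraic ℚ ℂ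
  have : Algebra.IsIntegral ℚ Alg := Algebra.IsAlgebraic.isIntegral
  have hQ : IsIntegral ℚ r := isIntegral_trans r hA
  rcases mem_or_inv_mem hM ((IsFractionRing.isAlgebraic_iff ℤ ℚ ℂ).mpr hQ.isAlgebraic) with h | hinv
  · exact h
  set s : locRing M := ⟨r⁻¹, hinv⟩ with hs
  by_contra hnot
  have hs0 : res M s = 0 := by
    by_contra h
    obtain ⟨t, ht⟩ := (isUnit_iff_res_ne_zero M s).mpr h |>.exists_right_inv
    refine hnot ?_
    have h2 : r⁻¹ * (t : ℂ) = 1 := congrArg Subtype.val ht
    rw [show r = (t : ℂ) by rw [← mul_one r, ← h2, mul_inv_cancel_left₀ hr0]]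
    exact t.2
  set n := f.natDegree
  rw [eval₂_eq_sum_range, Finset.sum_range_succ, show f.coeff n = 1 from hf.coeff_natDegree, map_one,
    one_mul] at hr
  have h1 : (1 : ℂ) + ∑ i ∈ Finset.range n, (f.coeff i : ℂ) * r⁻¹ ^ (n - i) = 0 := by
    have h2 := congrArg (fun z => z * r⁻¹ ^ n) hr
    simp only [zero_mul, add_mul, Finset.sum_mul] at h2
    rw [← mul_pow, mul_inv_cancel₀ hr0, one_pow, add_comm] at h2
    rw [← h2]
    congr 1
    refine Finset.sum_congr rfl fun i hi => ?_
    show (f.coeff i : ℂ) * r⁻¹ ^ (n - i) = (f.coeff i : ℂ) * r ^ i * r⁻¹ ^ n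
    rw [show r⁻¹ ^ n = r⁻¹ ^ i * r⁻¹ ^ (n - i) by
      rw [← pow_add, Nat.add_sub_cancel' (Finset.mem_range.mp hi).le]]
    rw [inv_pow r i]
    field_simp
  have h3 : (1 : locRing M) + ∑ i ∈ Finset.range n, f.coeff i * s ^ (n - i) = 0 := Subtype.ext (by
    rw [Subring.coe_add, AddSubmonoidClass.coe_finsetSum, Subring.coe_zero, ← h1]
    simp [hs])
  have h4 := congrArg (res M) h3
  rw [map_add, map_one, map_sum, map_zero, Finset.sum_eq_zero (fun i hi => by
    rw [map_mul, map_pow, hs0, zero_pow (by have := Finset.mem_range.mp hi; omega), mul_zero]),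
    add_zero] at h4
  exact one_ne_zero h4

/-- A monic polynomial over the local ring is a product of linear factors. -/
theorem exists_eq_prod (hM : IsPModular p M) {f : (locRing M)[X]} (hf : f.Monic) :
    ∃ s : Multiset (locRing M), f = (s.map fun r => X - C r).prod := by
  set g := f.map (locRing M).subtype
  have hmem : ∀ r ∈ g.roots, r ∈ locRing M := fun r hr => roots_mem_locRing hM hf (by
    rw [← eval_map]; exact (mem_roots'.mp hr).2)
  refine ⟨g.roots.pmap (fun r h => ⟨r, h⟩) hmem, map_injective (locRing M).subtype Subtype.val_injective ?_⟩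
  rw [Polynomial.map_multiset_prod, Multiset.map_map, Multiset.map_pmap]
  conv_lhs => rw [show f.map (locRing M).subtype = g from rfl,
    (IsAlgClosed.splits g).eq_prod_roots_of_monic (hf.map _)]
  congr 1
  rw [Multiset.pmap_congr _ (g := fun r _ => X - C r) fun r _ _ _ => by simp]
  exact (Multiset.pmap_eq_map _ _ _ hmem).symm

variable {G : Type*} [Group G] [Fintype G]

/-- Left multiplication, as a map of algebras. -/
def leftMatAlg (M : Ideal AlgInt) [M.IsMaximal] (G : Type*) [Group G] [Fintype G] [DecidableEq G] :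
    LA M G →ₐ[locRing M] Matrix G G (locRing M) :=
  AlgHom.ofLinearMap
    { toFun := leftMat
      map_add' := fun a b => by ext x y; simp [leftMat]
      map_smul' := fun c a => by ext x y; simp [leftMat] }
    (by
      ext x y
      show (((1 : LA M G).coeff (x * y⁻¹) : locRing M) : ℂ) = (((1 : Matrix G G (locRing M)) x y : locRing M) : ℂ)
      congr 1
      rw [MonoidAlgebra.one_def, MonoidAlgebra.coeff_single, Finsupp.single_apply, Matrix.one_apply]
      exact if_congr (by rw [eq_comm, mul_inv_eq_one]) rfl rfl)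
    leftMat_mul

theorem isCoprime_prod {R : Type*} [CommRing R] {s : Multiset R} {y : R} (h : ∀ x ∈ s, IsCoprime x y) :
    IsCoprime s.prod y := by
  induction s using Multiset.induction_on with
  | empty => rw [Multiset.prod_zero]; exact isCoprime_one_left
  | cons a s ih =>
    rw [Multiset.prod_cons]
    exact (h a (Multiset.mem_cons_self _ _)).mul_left (ih fun x hx => h x (Multiset.mem_cons_of_mem hx))

/-- The spectral idempotent of the unit eigenvalues. -/
theorem exists_spectral (hM : IsPModular p M) (a : LA M G) :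
    ∃ e b : LA M G, a * b = e ∧ b * a = e ∧ e * e = e ∧ e * b = b ∧ b * e = b ∧
      (∀ y, Commute a y → Commute e y ∧ Commute b y) ∧
      ∃ m : ℕ, redLA M G (a ^ m * (1 - e)) = 0 := by
  classical
  set f := (leftMat a).charpoly with hfdef
  have hfa : aeval a f = 0 := leftMat_injective (by
    show leftMatAlg M G (aeval a f) = leftMatAlg M G 0
    rw [← aeval_algHom_apply, map_zero]
    exact Matrix.aeval_self_charpoly (leftMat a))
  obtain ⟨s, hs⟩ := exists_eq_prod hM (Matrix.charpoly_monic (leftMat a))
  rw [← hfdef] at hs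
  set s₁ := s.filter fun r => res M r ≠ 0 with hs1
  set s₂ := s.filter fun r => ¬ res M r ≠ 0 with hs2
  set g₁ := (s₁.map fun r => X - C r).prod with hg1
  set g₂ := (s₂.map fun r => X - C r).prod with hg2
  have hf12 : f = g₁ * g₂ := by
    rw [hs, hg1, hg2, ← Multiset.prod_add, ← Multiset.map_add, Multiset.filter_add_not]
  have hcop : IsCoprime g₁ g₂ := by
    refine isCoprime_prod fun x hx => IsCoprime.symm (isCoprime_prod fun y hy => IsCoprime.symm ?_)
    obtain ⟨α, hα, rfl⟩ := Multiset.mem_map.mp hx
    obtain ⟨β, hβ, rfl⟩ := Multiset.mem_map.mp hy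
    have hu : IsUnit (β - α) := by
      rw [isUnit_iff_res_ne_zero, map_sub, not_not.mp (Multiset.mem_filter.mp hβ).2, zero_sub, neg_ne_zero]
      exact (Multiset.mem_filter.mp hα).2
    obtain ⟨t, ht⟩ := hu.exists_right_inv
    refine ⟨C t, -C t, ?_⟩
    calc C t * (X - C α) + -C t * (X - C β) = C ((β - α) * t) := by rw [map_mul, map_sub]; ring
      _ = 1 := by rw [ht, map_one]
  obtain ⟨u, v, huv⟩ := hcop
  have hc : IsUnit (g₁.coeff 0) := by
    rw [isUnit_iff_res_ne_zero, coeff_zero_eq_eval_zero, hg1, eval_multiset_prod, Multiset.map_map,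
      map_multiset_prod, Multiset.map_map]
    refine Multiset.prod_ne_zero fun h => ?_
    obtain ⟨r, hr, hr0⟩ := Multiset.mem_map.mp h
    simp only [Function.comp_apply, eval_sub, eval_X, eval_C, zero_sub, map_neg, neg_eq_zero] at hr0
    exact (Multiset.mem_filter.mp hr).2 hr0
  obtain ⟨c', hc'⟩ := hc.exists_right_inv
  set E := v * g₂ with hE
  set Bp := -C c' * g₁.divX * E with hBp
  have hfz : ∀ q, aeval a (f * q) = 0 := fun q => by rw [map_mul, hfa, zero_mul]
  have hEE : aeval a E * aeval a E = aeval a E := by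
    rw [← map_mul]
    have h : E * E = E - f * (u * v) := by
      rw [hf12, hE]
      linear_combination (v * g₂) * huv
    rw [h, map_sub, hfz, sub_zero]
  have hab : aeval a (X * Bp) = aeval a E := by
    have h : X * Bp = E - f * (C c' * v) := by
      have h1 : X * g₁.divX + C (g₁.coeff 0) = g₁ := X_mul_divX_add g₁
      have h2 : C (g₁.coeff 0) * C c' = 1 := by rw [← map_mul, hc', map_one]
      rw [hBp, hE, hf12]
      linear_combination (-(C c') * v * g₂) * h1 + (v * g₂) * h2
    rw [h, map_sub, hfz, sub_zero]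
  have hEB : aeval a (E * Bp) = aeval a Bp := by
    have h : E * Bp = -C c' * g₁.divX * (E * E) := by rw [hBp]; ring
    rw [h, map_mul, map_mul _ E E, hEE, ← map_mul, ← hBp]
  refine ⟨aeval a E, aeval a Bp, ?_, ?_, hEE, ?_, ?_, fun y hy => ?_, ?_⟩
  · rw [← hab, map_mul _ X, aeval_X]
  · rw [← hab, mul_comm X, map_mul _ Bp X, aeval_X]
  · rw [← map_mul, hEB]
  · rw [← map_mul, mul_comm Bp, hEB]
  · have : ∀ q : (locRing M)[X], Commute (aeval a q) y := by
      intro q
      induction q using Polynomial.induction_on with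
      | C r => rw [aeval_C]; exact Algebra.commutes r y
      | add q r hq hr => rw [map_add]; exact hq.add_left hr
      | monomial n r _ =>
        rw [map_mul, map_pow, aeval_X, aeval_C]
        exact Commute.mul_left (Algebra.commutes r y) (hy.pow_left _)
    exact ⟨this E, this Bp⟩
  · refine ⟨Multiset.card s₂, ?_⟩
    set Φ := (redLA M G).comp (aeval a : (locRing M)[X] →ₐ[locRing M] LA M G).toRingHom with hΦ
    have hC : ∀ r : locRing M, res M r = 0 → Φ (C r) = 0 := fun r hr => by
      refine MonoidAlgebra.coeff_injective (Finsupp.ext fun g => ?_)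
      simp [hΦ, Finsupp.single_apply, apply_ite (res M), hr]
    have hg2' : ∀ t : Multiset (locRing M), (∀ r ∈ t, res M r = 0) →
        Φ (t.map fun r => X - C r).prod = Φ (X ^ Multiset.card t) := by
      intro t
      induction t using Multiset.induction_on with
      | empty => intro; simp
      | cons r t ih =>
        intro ht
        rw [Multiset.map_cons, Multiset.prod_cons, Multiset.card_cons, map_mul, map_sub,
          hC r (ht r (Multiset.mem_cons_self _ _)), sub_zero,
          ih (fun x hx => ht x (Multiset.mem_cons_of_mem hx)), ← map_mul, ← pow_succ']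
    have h := hg2' s₂ fun r hr => not_not.mp (Multiset.mem_filter.mp hr).2
    rw [← hg2] at h
    show redLA M G _ = 0
    rw [show a ^ Multiset.card s₂ * (1 - aeval a E) = aeval a (X ^ Multiset.card s₂ * (1 - E)) by
      simp [map_mul, map_pow]]
    show Φ (X ^ Multiset.card s₂ * (1 - E)) = 0
    rw [map_mul, ← h, ← map_mul, show g₂ * (1 - E) = f * u by
      rw [hE, hf12]; linear_combination (-g₂) * huv]
    show redLA M G (aeval a (f * u)) = 0
    rw [hfz, map_zero]

/-- An idempotent is its own spectral idempotent. -/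
theorem eq_of_spectral {R : Type*} [Ring R] {x y e : R} (hxy : x * y = e) {m : ℕ}
    (hm : x ^ m * (1 - e) = 0) (hx : x * x = x) : x = e := by
  have hpow : ∀ n : ℕ, x ^ (n + 1) = x := fun n => by
    induction n with
    | zero => exact pow_one x
    | succ n ih => rw [pow_succ, ih, hx]
  have h1 : x ^ (m + 1) * (1 - e) = 0 := by rw [pow_succ', mul_assoc, hm, mul_zero]
  rw [hpow, mul_sub, mul_one, sub_eq_zero] at h1
  rw [h1, ← hxy, ← mul_assoc, hx]

/-- A lift along reduction. -/
def liftLA (M : Ideal AlgInt) [M.IsMaximal] {G : Type*} [Group G] [Fintype G]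
    (x : MonoidAlgebra (Res M) G) : LA M G :=
  ofFun fun g => Function.surjInv (res_surjective M) (x.coeff g)

theorem redLA_liftLA (x : MonoidAlgebra (Res M) G) : redLA M G (liftLA M x) = x :=
  MonoidAlgebra.coeff_injective (Finsupp.ext fun g => by
    rw [coeff_redLA, liftLA, coeff_ofFun, Function.surjInv_eq (res_surjective M)])

theorem commute_single_iff {R : Type*} [Semiring R] (a : MonoidAlgebra R G) (u : G) :
    Commute a (MonoidAlgebra.single u 1) ↔ ∀ g, a.coeff (u * g * u⁻¹) = a.coeff g := by
  constructor
  · intro h g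
    have := congrArg (fun z : MonoidAlgebra R G => z.coeff (u * g)) h.eq
    simpa [MonoidAlgebra.coeff_single_mul_apply, MonoidAlgebra.coeff_mul_single_apply, mul_assoc] using this
  · intro h
    refine MonoidAlgebra.coeff_injective (Finsupp.ext fun g => ?_)
    simp only [MonoidAlgebra.coeff_single_mul_apply, MonoidAlgebra.coeff_mul_single_apply, one_mul, mul_one]
    have := h (u⁻¹ * g)
    simpa [mul_assoc] using this

theorem commute_liftLA {x : MonoidAlgebra (Res M) G} {u : G}
    (h : ∀ g, x.coeff (u * g * u⁻¹) = x.coeff g) : Commute (liftLA M x) (MonoidAlgebra.single u 1) :=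
  (commute_single_iff _ u).mpr fun g => by simp only [liftLA, coeff_ofFun, h g]

end CfsgLib.NilBlock
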